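import Cfsg.Agent.H180.U42Data

/-!
# `U₄(2)`: the kernel checks
-/

set_option autoImplicit false
set_option maxRecDepth 100000

namespace Cfsg.Agent.H180.U42

theorem SW_SC : SW.map ev = SC := by decide +kernel
theorem TW_TC : TW.map ev = TC := by decide +kernel
theorem XW_XC : XW.map ev = XC := by decide +kernel

theorem chk0 : chkT (TC.getD 0 one) SC (XI.getD 0 []) = true := by decide +kernel
theorem chk1 : chkT (TC.getD 1 one) SC (XI.getD 1 []) = true := by decide +kernel
theorem chk2 : chkT (TC.getD 2 one) SC (XI.getD 2 []) = true := by decide +kernel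
theorem chk3 : chkT (TC.getD 3 one) SC (XI.getD 3 []) = true := by decide +kernel
theorem chk4 : chkT (TC.getD 4 one) SC (XI.getD 4 []) = true := by decide +kernel
theorem chk5 : chkT (TC.getD 5 one) SC (XI.getD 5 []) = true := by decide +kernel
theorem chk6 : chkT (TC.getD 6 one) SC (XI.getD 6 []) = true := by decide +kernel

/-- the elements of the stabilizer fix `e₁` -/
theorem SC_fix : (SC.all fun s => Nat.beq (ap s 1) 1) = true := by decide +kernel

/-- the codes are canonical -/
theorem SC_canon : (SC.all fun s => Nat.beq (cmp s one) s) = true := by decide +kernel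

theorem SC_nodup : SC.Nodup := by decide +kernel

theorem SC_length : SC.length = 216 := by decide +kernel

/-- the vectors of norm 1 -/
theorem NC_ok : (NC.all fun p => Nat.beq (ap (SC.getD p.2.2 one) (ap (TC.getD p.2.1 one) 1)) p.1 && Nat.blt p.2.1 7) =
    true := by decide +kernel

theorem NC_nodup : (NC.map Prod.fst).Nodup := by decide +kernel

theorem NC_length : NC.length = 120 := by decide +kernel

theorem nil_mem : ([] : List ℕ) ∈ SW := by decide +kernel

end Cfsg.Agent.H180.U42
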