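import Cfsg.Agent.H180.U42Code
import Cfsg.Agent.H180.U42Check

/-!
# `U₄(2)`: every element is conjugate to its powers `g ^ k`, `k = 1 mod 3` prime to the order (task 173)
-/

set_option autoImplicit false
set_option maxRecDepth 100000

namespace Cfsg.Agent.H180.U42

open Matrix Cfsg.Agent.Lib.FieldFour Cfsg.Agent.LieClassical Cfsg.Agent.H674.SUTools

/-- the property -/
def P {G : Type*} [Group G] (g : G) : Prop := IsConj g (g ^ 7) ∧ (g ^ 12 = 1 ∨ g ^ 9 = 1 ∨ g ^ 5 = 1)

theorem P_of_chk {g x : GG} {m n : ℕ} (hg : IsCode g m) (hx : IsCode x n) (h : chk m n = true) : P g := by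
  unfold chk chkm at h
  rw [Bool.and_eq_true, Bool.or_eq_true, Bool.or_eq_true] at h
  have h2 : IsCode (g * g) (cmp m m) := hg.mul hg
  have h3 := h2.mul hg
  have h6 := h3.mul h3
  have h7 := h6.mul hg
  refine ⟨?_, ?_⟩
  · have e1 := (hx.mul hg).eq (h7.mul hx) (Nat.eq_of_beq_eq_true h.1)
    rw [isConj_iff]
    refine ⟨x, ?_⟩
    rw [e1, mul_inv_cancel_right]
    simp only [pow_succ, pow_zero, one_mul, mul_assoc]
  · rcases h.2 with h' | h' | h'
    · left
      have e1 := (h6.mul h6).eq isCode_one (Nat.eq_of_beq_eq_true h')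
      rw [← e1]; simp only [pow_succ, pow_zero, one_mul, mul_assoc]
    · right; left
      have e1 := (h7.mul h2).eq isCode_one (Nat.eq_of_beq_eq_true h')
      rw [← e1]; simp only [pow_succ, pow_zero, one_mul, mul_assoc]
    · right; right
      have e1 := (h3.mul h2).eq isCode_one (Nat.eq_of_beq_eq_true h')
      rw [← e1]; simp only [pow_succ, pow_zero, one_mul, mul_assoc]

theorem P_conj {G : Type*} [Group G] {g h : G} (hc : IsConj g h) (hg : P g) : P h := by
  obtain ⟨c, rfl⟩ := isConj_iff.1 hc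
  obtain ⟨h1, h2⟩ := hg
  refine ⟨?_, ?_⟩
  · rw [conj_pow]
    have e1 : IsConj (c * g * c⁻¹) g := isConj_iff.2 ⟨c⁻¹, by group⟩
    have e2 : IsConj (g ^ 7) (c * g ^ 7 * c⁻¹) := isConj_iff.2 ⟨c, rfl⟩
    exact e1.trans (h1.trans e2)
  · rw [conj_pow, conj_pow, conj_pow]
    rcases h2 with h2 | h2 | h2
    · left; rw [h2]; group
    · right; left; rw [h2]; group
    · right; right; rw [h2]; group

theorem XC_getD (i : ℕ) : XC.getD i one = ev (XW.getD i []) := by
  rw [← XW_XC]
  exact List.getD_map XW [] ev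

theorem SC_getD (i : ℕ) : SC.getD i one = ev (SW.getD i []) := by
  rw [← SW_SC]
  exact List.getD_map SW [] ev

theorem TC_getD (i : ℕ) : TC.getD i one = ev (TW.getD i []) := by
  rw [← TW_TC]
  exact List.getD_map TW [] ev

theorem chkT_spec {t : ℕ} : ∀ {S I : List ℕ}, chkT t S I = true → ∀ s ∈ S, ∃ i, chk (cmp t s) (XC.getD i one) = true := by
  intro S
  induction S with
  | nil => intro I _ s hs; exact absurd hs List.not_mem_nil
  | cons a S ih =>
    intro I h s hs
    cases I with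
    | nil => exact absurd h (by simp [chkT])
    | cons i I =>
      rw [chkT, Bool.and_eq_true] at h
      rcases List.mem_cons.1 hs with rfl | hs
      · exact ⟨i, h.1⟩
      · exact ih h.2 s hs

theorem chk_all {i : ℕ} (hi : i < 7) : ∀ s ∈ SC, ∃ j, chk (cmp (TC.getD i one) s) (XC.getD j one) = true := by
  have h : i = 0 ∨ i = 1 ∨ i = 2 ∨ i = 3 ∨ i = 4 ∨ i = 5 ∨ i = 6 := by omega
  rcases h with rfl | rfl | rfl | rfl | rfl | rfl | rfl
  · exact chkT_spec chk0
  · exact chkT_spec chk1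
  · exact chkT_spec chk2
  · exact chkT_spec chk3
  · exact chkT_spec chk4
  · exact chkT_spec chk5
  · exact chkT_spec chk6

theorem getD_mem (i : ℕ) : SW.getD i [] ∈ SW := by
  rw [List.getD_eq_getElem?_getD]
  cases h : SW[i]? with
  | none => exact nil_mem
  | some a => exact List.mem_of_getElem? h

theorem ev_mem {w : List ℕ} (hw : w ∈ SW) : ev w ∈ SC := by
  rw [← SW_SC]
  exact List.mem_map_of_mem hw

/-- the property holds for the products `t s` -/
theorem P_ts {i : ℕ} (hi : i < 7) {w : List ℕ} (hw : w ∈ SW) : P (evG (TW.getD i []) * evG w) := by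
  obtain ⟨j, hj⟩ := chk_all hi (ev w) (ev_mem hw)
  rw [TC_getD, XC_getD] at hj
  exact P_of_chk ((isCode_ev _).mul (isCode_ev _)) (isCode_ev _) hj

/-! ### the stabilizer -/

/-- the first basis vector -/
def e1 : Fin 4 → F4 := ![F4.i, F4.o, F4.o, F4.o]

theorem vc_e1 : vc e1 = 1 := rfl

theorem act_fix {w : List ℕ} (hw : w ∈ SW) : act (evG w) e1 = e1 := by
  apply vc_inj
  rw [isCode_ev w, vc_e1]
  exact Nat.eq_of_beq_eq_true (List.all_eq_true.1 SC_fix (ev w) (ev_mem hw))

theorem norm_mem_aux : ∀ a b c d : F4, hermForm 4 F4 2 ![a, b, c, d] ![a, b, c, d] = 1 →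
    (NC.any fun p => Nat.beq p.1 (vc ![a, b, c, d])) = true := by decide +kernel

theorem norm_mem {v : Fin 4 → F4} (h : hermForm 4 F4 2 v v = 1) : ∃ p ∈ NC, p.1 = vc v := by
  rw [vec_eta v] at h ⊢
  have h1 := norm_mem_aux _ _ _ _ h
  rw [List.any_eq_true] at h1
  obtain ⟨p, hp, h2⟩ := h1
  exact ⟨p, hp, Nat.eq_of_beq_eq_true h2⟩

theorem norm_e1 : hermForm 4 F4 2 e1 e1 = 1 := by decide +kernel

theorem norm_act (g : GG) : hermForm 4 F4 2 (act g e1) (act g e1) = 1 := by
  have h := g.2 e1 e1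
  rw [norm_e1] at h
  exact h

theorem NC_spec {p : ℕ × ℕ × ℕ} (hp : p ∈ NC) : p.2.1 < 7 ∧
    vc (act (evG (SW.getD p.2.2 []) * evG (TW.getD p.2.1 [])) e1) = p.1 := by
  have h := List.all_eq_true.1 NC_ok p hp
  rw [Bool.and_eq_true] at h
  refine ⟨Nat.le_of_ble_eq_true h.2, ?_⟩
  rw [act_mul, isCode_ev, isCode_ev, vc_e1, ← SC_getD, ← TC_getD]
  exact Nat.eq_of_beq_eq_true h.1

theorem stab_eq (g : GG) (hg : act g e1 = e1) : ∃ w ∈ SW, g = evG w := by
  classical
  have hfin : Finite GG := Nat.finite_of_card_ne_zero (by rw [card_GG]; norm_num)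
  have : Fintype GG := Fintype.ofFinite GG
  set St : Finset GG := Finset.univ.filter fun g => act g e1 = e1 with hSt
  -- upper bound
  have hNC : ∀ k : Fin 120, (k : ℕ) < NC.length := fun k => by rw [NC_length]; exact k.2
  have h1 : 120 * St.card ≤ 25920 := by
    have hle : Fintype.card (Fin 120 × St) ≤ Fintype.card GG := by
      refine Fintype.card_le_of_injective (fun q : Fin 120 × St =>
        (evG (SW.getD (NC[(q.1 : ℕ)]'(hNC q.1)).2.2 []) * evG (TW.getD (NC[(q.1 : ℕ)]'(hNC q.1)).2.1 [])) *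
          (q.2 : GG)) ?_
      rintro ⟨k, s, hs⟩ ⟨k', s', hs'⟩ h
      dsimp only at h
      rw [hSt, Finset.mem_filter] at hs hs'
      have e := congrArg (fun g : GG => vc (act g e1)) h
      rw [act_mul _ s, act_mul _ s', hs.2, hs'.2, (NC_spec (List.getElem_mem (hNC k))).2,
        (NC_spec (List.getElem_mem (hNC k'))).2] at e
      have hk : k = k' := by
        have hn := NC_nodup
        rw [List.nodup_iff_injective_getElem] at hn
        have hl : (NC.map Prod.fst).length = 120 := by rw [List.length_map, NC_length]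
        have e2 := @hn ⟨k, by rw [hl]; exact k.2⟩ ⟨k', by rw [hl]; exact k'.2⟩ (by
          show (NC.map Prod.fst)[(k : ℕ)]'_ = (NC.map Prod.fst)[(k' : ℕ)]'_
          rw [List.getElem_map, List.getElem_map]
          exact e)
        exact Fin.ext (congrArg Fin.val e2)
      subst hk
      have e3 : s = s' := mul_left_cancel h
      subst e3
      rfl
    rw [Fintype.card_prod, Fintype.card_fin, Fintype.card_coe] at hle
    have hc : Fintype.card GG = 25920 := by rw [← Nat.card_eq_fintype_card, card_GG]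
    rwa [hc] at hle
  -- lower bound
  set A : Finset GG := (SW.map evG).toFinset with hA
  have hnd : (SW.map evG).Nodup := by
    rw [List.nodup_iff_injective_getElem]
    rintro ⟨i, hi⟩ ⟨j, hj⟩ hij
    have hi' : i < SW.length := by rwa [List.length_map] at hi
    have hj' : j < SW.length := by rwa [List.length_map] at hj
    have h2 : evG (SW[i]'hi') = evG (SW[j]'hj') := by
      have h3 : (SW.map evG)[i]'hi = (SW.map evG)[j]'hj := hij
      rwa [List.getElem_map, List.getElem_map] at h3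
    have h3 : cmp (ev (SW[i]'hi')) one = cmp (ev (SW[j]'hj')) one := by
      refine IsCode.cmp_one (g := evG (SW[i]'hi')) (isCode_ev _) ?_
      rw [h2]
      exact isCode_ev _
    have h4 : ∀ w ∈ SW, cmp (ev w) one = ev w := fun w hw =>
      Nat.eq_of_beq_eq_true (List.all_eq_true.1 SC_canon (ev w) (ev_mem hw))
    rw [h4 _ (List.getElem_mem hi'), h4 _ (List.getElem_mem hj')] at h3
    have hn := SC_nodup
    rw [← SW_SC, List.nodup_iff_injective_getElem] at hn
    have e2 := @hn ⟨i, by rw [List.length_map]; exact hi'⟩ ⟨j, by rw [List.length_map]; exact hj'⟩ (by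
      show (SW.map ev)[i]'_ = (SW.map ev)[j]'_
      rw [List.getElem_map, List.getElem_map]
      exact h3)
    have e3 : i = j := congrArg Fin.val e2
    subst e3
    rfl
  have hAc : A.card = 216 := by
    rw [hA, List.toFinset_card_of_nodup hnd, List.length_map, ← List.length_map (f := ev), SW_SC, SC_length]
  have hAS : A ⊆ St := by
    intro g hg
    rw [hA, List.mem_toFinset, List.mem_map] at hg
    obtain ⟨w, hw, rfl⟩ := hg
    rw [hSt, Finset.mem_filter]
    exact ⟨Finset.mem_univ _, act_fix hw⟩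
  have hEq : A = St := Finset.eq_of_subset_of_card_le hAS (by omega)
  have hgS : g ∈ St := by
    rw [hSt, Finset.mem_filter]
    exact ⟨Finset.mem_univ _, hg⟩
  rw [← hEq, hA, List.mem_toFinset, List.mem_map] at hgS
  obtain ⟨w, hw, e⟩ := hgS
  exact ⟨w, hw, e.symm⟩

/-- **every element has the property** -/
theorem P_all (g : GG) : P g := by
  obtain ⟨p, hp, hpv⟩ := norm_mem (norm_act g)
  obtain ⟨hp7, hp1⟩ := NC_spec hp
  rw [hpv] at hp1
  have e := vc_inj hp1
  set s := evG (SW.getD p.2.2 []) with hs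
  set t := evG (TW.getD p.2.1 []) with ht
  have hsf : act s e1 = e1 := act_fix (getD_mem _)
  have hsi : act s⁻¹ e1 = e1 := by
    conv_lhs => rw [← hsf]
    rw [← act_mul, inv_mul_cancel, act_one]
  have h1 : act (t⁻¹ * (s⁻¹ * g * s)) e1 = e1 := by
    rw [act_mul, act_mul, hsf, act_mul, ← e, ← act_mul, ← act_mul, mul_assoc, inv_mul_cancel_left, inv_mul_cancel,
      act_one]
  obtain ⟨w, hw, h2⟩ := stab_eq _ h1
  have h3 : s⁻¹ * g * s = t * evG w := by rw [← h2, mul_inv_cancel_left]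
  have h4 : P (s⁻¹ * g * s) := by
    rw [h3]
    exact P_ts hp7 hw
  exact P_conj (isConj_iff.2 ⟨s, by group⟩) h4

/-! ### conclusion -/

theorem P_map {G H : Type*} [Group G] [Group H] (f : G →* H) {g : G} (h : P g) : P (f g) := by
  obtain ⟨h1, h2⟩ := h
  refine ⟨?_, ?_⟩
  · rw [← map_pow]
    exact f.map_isConj h1
  · rw [← map_pow, ← map_pow, ← map_pow]
    rcases h2 with h2 | h2 | h2
    · left; rw [h2, map_one]
    · right; left; rw [h2, map_one]
    · right; right; rw [h2, map_one]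

theorem isConj_pow_seven {G : Type*} [Group G] {g : G} (h : IsConj g (g ^ 7)) : ∀ j : ℕ, IsConj g (g ^ 7 ^ j)
  | 0 => by rw [pow_zero, pow_one]
  | j + 1 => by
    obtain ⟨c, hc⟩ := isConj_iff.1 h
    refine (isConj_pow_seven h j).trans (isConj_iff.2 ⟨c, ?_⟩)
    rw [← conj_pow, hc, ← pow_mul, pow_succ']

theorem mod_aux (n : ℕ) (hn : n ∣ 12 ∨ n ∣ 9 ∨ n ∣ 5) (k : ℕ) (h3 : k % 3 = 1) (hc : Nat.Coprime k n) :
    ∃ j, k ≡ 7 ^ j [MOD n] := by
  have hn' : n ∈ ({1, 2, 3, 4, 5, 6, 9, 12} : Finset ℕ) := by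
    have d1 : ∀ m ≤ 12, (m ∣ 12 ∨ m ∣ 9 ∨ m ∣ 5) → m ∈ ({1, 2, 3, 4, 5, 6, 9, 12} : Finset ℕ) := by decide
    refine d1 n ?_ hn
    rcases hn with h | h | h
    · exact Nat.le_of_dvd (by norm_num) h
    · exact (Nat.le_of_dvd (by norm_num) h).trans (by norm_num)
    · exact (Nat.le_of_dvd (by norm_num) h).trans (by norm_num)
  have key : ∀ m ∈ ({1, 2, 3, 4, 5, 6, 9, 12} : Finset ℕ), ∀ r < 3 * m, r % 3 = 1 → Nat.Coprime r m →
      ∃ j < 4, r % m = 7 ^ j % m := by decide
  have hpos : 0 < n := by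
    rcases Nat.eq_zero_or_pos n with h | h
    · rw [h] at hn'
      exact absurd hn' (by decide)
    · exact h
  obtain ⟨j, -, hj⟩ := key n hn' (k % (3 * n)) (Nat.mod_lt _ (by omega)) (by
    rw [Nat.mod_mul_right_mod, h3]) (by
    unfold Nat.Coprime at hc ⊢
    rw [← hc, Nat.gcd_comm k n, Nat.gcd_comm _ n]
    have e : (k % (3 * n)) % n = k % n := Nat.mod_mul_left_mod k 3 n
    rw [Nat.gcd_rec n, Nat.gcd_rec n, e])
  refine ⟨j, ?_⟩
  rw [Nat.ModEq, ← hj, Nat.mod_mul_left_mod]

theorem conj_pow_of_P {G : Type*} [Group G] {g : G} (h : P g) (k : ℕ) (h3 : k % 3 = 1) (hc : Nat.Coprime k (orderOf g)) :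
    IsConj g (g ^ k) := by
  obtain ⟨h1, h2⟩ := h
  obtain ⟨j, hj⟩ := mod_aux (orderOf g) (h2.imp orderOf_dvd_of_pow_eq_one (Or.imp orderOf_dvd_of_pow_eq_one
    orderOf_dvd_of_pow_eq_one)) k h3 hc
  rw [(pow_eq_pow_iff_modEq).2 hj]
  exact isConj_pow_seven h1 j

/-- every element `g` of `U₄(2)` is conjugate to `g ^ 7` and has order dividing 12, 9 or 5 -/
theorem u42_P {K : Type} [Field K] [Fintype K] (hK : Fintype.card K = 4) (g : Cfsg.PSU 4 K 2) : P g := by
  let e : Cfsg.PSU 4 F4 2 ≃* Cfsg.PSU 4 K 2 := FieldTransfer.psuCongr 4 2 (equivOfCard hK).symm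
  obtain ⟨g', rfl⟩ := e.surjective g
  obtain ⟨x, rfl⟩ := QuotientGroup.mk_surjective g'
  exact P_map ((e : Cfsg.PSU 4 F4 2 →* Cfsg.PSU 4 K 2).comp (QuotientGroup.mk' _)) (P_all x)

end Cfsg.Agent.H180.U42

namespace Cfsg.Agent.H180

/-- **task 173** -/
theorem u42_conj_pow {K : Type} [Field K] [Fintype K] (hK : Fintype.card K = 4) (g : Cfsg.PSU 4 K 2) (k : ℕ) (h3 : k % 3 = 1)
    (hc : Nat.Coprime k (orderOf g)) : IsConj g (g ^ k) :=
  U42.conj_pow_of_P (U42.u42_P hK g) k h3 hc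

end Cfsg.Agent.H180
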