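import Cfsg.Agent.H180.MElTrans
import Cfsg.Agent.SporadicA.MathieuRecog
import Cfsg.Agent.H278.ElDefs

/-!
# `ClMaxA` for `M₂₂`, `M₂₃`, `M₂₄` (team ELUSIVE, task 644)
-/

set_option autoImplicit false

namespace Cfsg.Agent.H180.MEl

open Cfsg Equiv.Perm
open Cfsg.Agent.H866.InvolType (fx)
open Cfsg.Agent.H396 (Der der_of_prime)
open Cfsg.Agent.H278.El (ClMaxA ClMax ClT)
open Cfsg.Agent.J4Type.CocodeMask (mk isTab_mk)
open Cfsg.Agent.SporadicA.GolayPerm (isPerm isAut)
open Cfsg.Agent.H180.KMathieu (orderOf_tab ordOk)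

theorem dvd_of_not_der {T : Type*} [Group T] [Finite T] {R : Subgroup T} (h : ¬ Der T R) {p : ℕ} (hp : p.Prime)
    (hd : p ∣ Nat.card T) : p ∣ Nat.card R := by
  by_contra hn
  exact h (der_of_prime hp hd hn)

theorem eq_top_of_card {T : Type*} [Group T] [Finite T] {R : Subgroup T} (h : Nat.card R = Nat.card T) : R = ⊤ :=
  Subgroup.eq_top_of_card_eq R h

theorem card_map_subtype {G : Type*} [Group G] {L : Subgroup G} (R : Subgroup L) :
    Nat.card (R.map L.subtype) = Nat.card R :=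
  Nat.card_congr (R.equivMapOfInjective L.subtype L.subtype_injective).symm.toEquiv


theorem der_M22 {R : Subgroup Spor.M22} (hR : R ≠ ⊤) : Der Spor.M22 R := by
  by_contra hn
  apply hR
  have hc := Cfsg.Agent.SporadicA.MathieuRecog.card_M22
  have hd : ∀ p : ℕ, p.Prime → p ∣ Nat.card Spor.M22 → p ∣ Nat.card (R.map Spor.M22.subtype) := by
    intro p hp h
    rw [card_map_subtype]
    exact dvd_of_not_der hn hp h
  apply eq_top_of_card
  rw [← card_map_subtype, hc]
  refine m22 (T := {none, some 0}) ?_ (by decide) ?_ (hd 5 (by norm_num) (by rw [hc]; norm_num))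
    (hd 7 (by norm_num) (by rw [hc]; norm_num)) (hd 11 (by norm_num) (by rw [hc]; norm_num))
  · rintro _ ⟨g, -, rfl⟩
    exact g.2.1.1
  · rintro _ ⟨g, -, rfl⟩ t ht
    rw [Finset.mem_insert, Finset.mem_singleton] at ht
    rcases ht with rfl | rfl
    · exact g.2.1.2
    · exact g.2.2

theorem der_M23 {R : Subgroup Spor.M23} (hR : R ≠ ⊤) : Der Spor.M23 R := by
  by_contra hn
  apply hR
  have hc := Cfsg.Agent.SporadicA.MathieuRecog.card_M23
  have hd : ∀ p : ℕ, p.Prime → p ∣ Nat.card Spor.M23 → p ∣ Nat.card (R.map Spor.M23.subtype) := by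
    intro p hp h
    rw [card_map_subtype]
    exact dvd_of_not_der hn hp h
  apply eq_top_of_card
  rw [← card_map_subtype, hc]
  refine m23 (T := {none}) ?_ (by decide) ?_ (hd 5 (by norm_num) (by rw [hc]; norm_num))
    (hd 7 (by norm_num) (by rw [hc]; norm_num)) (hd 11 (by norm_num) (by rw [hc]; norm_num))
    (hd 23 (by norm_num) (by rw [hc]; norm_num))
  · rintro _ ⟨g, -, rfl⟩
    exact g.2.1
  · rintro _ ⟨g, -, rfl⟩ t ht
    rw [Finset.mem_singleton] at ht
    rw [ht]
    exact g.2.2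

/-- an involution of `M₂₄` commuting with an element of order 5 has no fixed point -/
theorem fx_of_five {x y : Equiv.Perm GolayPt} (hx : x ∈ M24) (hy : y ∈ M24) (ox : orderOf x = 2) (oy : orderOf y = 5)
    (h : Commute x y) : fx x = 0 := by
  rcases fx2 hx ox with h8 | h0
  · exfalso
    have h1 := card_Fx_comm (p := 2) (x := x) (y := y) (by rw [← ox, pow_orderOf_eq_one]) h
    have h2 := card_Fx_comm (p := 5) (x := y) (y := x) (by rw [← oy, pow_orderOf_eq_one]) h.symm
    rw [Finset.inter_comm] at h2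
    have h3 : (Fx x ∩ Fx y).card ≤ fx y := Finset.card_le_card Finset.inter_subset_right
    rw [fx5 hy oy] at h1 h3
    rw [h8] at h2
    unfold Nat.ModEq at h1 h2
    omega
  · exact h0

/-- an element of order 10 -/
noncomputable def g10 : M24 := mk 684907895864283391153820931945324146 (by decide +kernel)

theorem orderOf_g10 : orderOf g10 = 10 := orderOf_tab (isTab_mk _ _) (by decide +kernel)

theorem der_M24 {R : Subgroup M24} (hR : R ≠ ⊤) : Der M24 R := by
  by_contra hn
  have hc := fact24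
  have hd : ∀ p : ℕ, p.Prime → p ∣ Nat.card M24 → p ∣ Nat.card (R.map M24.subtype) := by
    intro p hp h
    rw [card_map_subtype]
    exact dvd_of_not_der hn hp h
  rcases m24 (X := R.map M24.subtype) (by
      rintro _ ⟨g, -, rfl⟩
      exact g.2) (hd 5 (by norm_num) (by rw [hc]; norm_num))
    (hd 7 (by norm_num) (by rw [hc]; norm_num)) (hd 11 (by norm_num) (by rw [hc]; norm_num))
    (hd 23 (by norm_num) (by rw [hc]; norm_num)) with h | ⟨a, ha⟩
  · apply hR
    apply eq_top_of_card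
    rw [← card_map_subtype, hc]
    exact h
  · apply hn
    have o2 : orderOf (g10 ^ 5) = 2 := by
      rw [orderOf_pow_of_dvd (by norm_num) (by rw [orderOf_g10]; norm_num), orderOf_g10]
    have o5 : orderOf (g10 ^ 2) = 5 := by
      rw [orderOf_pow_of_dvd (by norm_num) (by rw [orderOf_g10]; norm_num), orderOf_g10]
    refine ⟨g10 ^ 5, by rw [o2]; exact Nat.prime_two, ?_⟩
    intro φ hφ
    have h1 : orderOf ((φ (g10 ^ 5) : M24) : Equiv.Perm GolayPt) = 2 := by
      rw [Subgroup.orderOf_coe, ← o2]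
      exact orderOf_injective φ.toMonoidHom φ.injective _
    have h2 : orderOf ((φ (g10 ^ 2) : M24) : Equiv.Perm GolayPt) = 5 := by
      rw [Subgroup.orderOf_coe, ← o5]
      exact orderOf_injective φ.toMonoidHom φ.injective _
    have h3 : Commute ((φ (g10 ^ 5) : M24) : Equiv.Perm GolayPt) ((φ (g10 ^ 2) : M24) : Equiv.Perm GolayPt) := by
      have h4 : Commute (g10 ^ 5) (g10 ^ 2) := (Commute.refl g10).pow_pow 5 2
      exact congrArg Subtype.val (h4.map φ.toMonoidHom).eq
    have h5 := fx_of_five (φ (g10 ^ 5)).2 (φ (g10 ^ 2)).2 h1 h2 h3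
    have h6 := ha _ (Subgroup.mem_map_of_mem M24.subtype hφ)
    have h7 : a ∈ Fx ((φ (g10 ^ 5) : M24) : Equiv.Perm GolayPt) := mem_Fx.2 h6
    rw [← card_Fx, Finset.card_eq_zero] at h5
    rw [h5] at h7
    exact absurd h7 (Finset.notMem_empty a)

/-- **`M₂₂`** -/
theorem clMaxA_m22 {T : Type*} [Group T] (h : Cfsg.Spor.IsoM22 T) : ClMaxA T := by
  obtain ⟨e⟩ := h
  exact Cfsg.Agent.H278.El.ClMaxA.congr e.symm fun M hM => der_M22 hM.1

/-- **`M₂₃`** -/
theorem clMaxA_m23 {T : Type*} [Group T] (h : Cfsg.Spor.IsoM23 T) : ClMaxA T := by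
  obtain ⟨e⟩ := h
  exact Cfsg.Agent.H278.El.ClMaxA.congr e.symm fun M hM => der_M23 hM.1

/-- **`M₂₄`** -/
theorem clMaxA_m24 {T : Type*} [Group T] (h : Cfsg.Spor.IsoM24 T) : ClMaxA T := by
  obtain ⟨e⟩ := h
  exact Cfsg.Agent.H278.El.ClMaxA.congr e.symm fun M hM => der_M24 hM.1

theorem clT_m22 {T : Type*} [Group T] [Finite T] (h : Cfsg.Spor.IsoM22 T) : ClT T :=
  (clMaxA_m22 h).clMax.clT

theorem clT_m23 {T : Type*} [Group T] [Finite T] (h : Cfsg.Spor.IsoM23 T) : ClT T :=
  (clMaxA_m23 h).clMax.clT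

theorem clT_m24 {T : Type*} [Group T] [Finite T] (h : Cfsg.Spor.IsoM24 T) : ClT T :=
  (clMaxA_m24 h).clMax.clT

end Cfsg.Agent.H180.MEl
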