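import Mathlib

/-!
# An even permutation of 12 points whose fourth power is trivial has a square with a fixed point
-/

set_option autoImplicit false

namespace Cfsg.Agent.H180.MEl

open Equiv.Perm

theorem sq_fix {α : Type*} [Fintype α] [DecidableEq α] (hα : Fintype.card α = 12) {σ : Equiv.Perm α}
    (h4 : σ ^ 4 = 1) (hs : sign σ = 1) : ∃ a, (σ ^ 2) a = a := by
  by_contra hno
  push Not at hno
  have hfix : ∀ a, σ a ≠ a := by
    intro a ha
    apply hno a
    rw [pow_two, mul_apply, ha, ha]
  have hsupp : σ.support = Finset.univ := by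
    rw [Finset.eq_univ_iff_forall]
    intro a
    rw [mem_support]
    exact hfix a
  have hsum : σ.cycleType.sum = 12 := by
    rw [sum_cycleType, hsupp, Finset.card_univ, hα]
  have h : ∀ n ∈ σ.cycleType, n = 4 := by
    intro n hn
    have h1 : n ∣ 4 := (dvd_of_mem_cycleType hn).trans (orderOf_dvd_of_pow_eq_one h4)
    have h2 := two_le_of_mem_cycleType hn
    have h3 : n ≤ 4 := Nat.le_of_dvd (by norm_num) h1
    have h5 : n ≠ 3 := by
      rintro rfl
      norm_num at h1
    have h6 : n ≠ 2 := by
      rintro rfl
      obtain ⟨c, τ, hst, hd, hc, hcard⟩ := mem_cycleType_iff.1 hn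
      obtain ⟨a, ha⟩ := hc.nonempty_support
      have hτa : τ a = a := (hd a).resolve_left (mem_support.1 ha)
      have hc2 : c ^ 2 = 1 := by
        rw [← hcard, ← hc.orderOf, pow_orderOf_eq_one]
      apply hno a
      rw [hst, hd.commute.mul_pow, hc2, one_mul, pow_two, mul_apply, hτa, hτa]
    omega
  have hrep := Multiset.eq_replicate_card.2 h
  have hcard : σ.cycleType.card = 3 := by
    rw [hrep, Multiset.sum_replicate, smul_eq_mul] at hsum
    omega
  rw [sign_of_cycleType, hsum, hcard] at hs
  exact absurd hs (by decide)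

end Cfsg.Agent.H180.MEl
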