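import Cfsg.Agent.H257.El.Eng
import Cfsg.Agent.SporRec.SuzNo143
import Cfsg.Agent.CpAutSuz.Local
import Cfsg.Agent.NotCT.Orders
import Cfsg.Agent.H396.Der

/-!
# TEAM ELUSIVE: the sporadic Suzuki group (helper180)

* `no35` : `Suz` has no element of order 35;
* `miss_suz` : the order of a proper subgroup is not divisible by 11 and 13;
* `clT_suz`.
-/

set_option autoImplicit false
set_option maxRecDepth 100000

namespace Cfsg.Agent.H180.ElS

open Cfsg Subgroup Cfsg.Agent.OrdDiv Cfsg.Agent.H278.El Cfsg.Agent.H257.El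

universe u

/-! ### The engine without `DerT` -/

section engine

variable {T : Type u} [Group T] [Finite T]

/-- what is left if two non-adjacent primes divide the order of a proper subgroup -/
theorem exists_surv_of_dvd (tab : OrderTable.{u}) (known : Known.{u}) {n : ℕ} {l : List (ℕ × ℕ)} {r s : ℕ}
    (hn : Nat.card T = n) (hv : OrdDiv.valid l n = true) (hr : r.Prime) (hs : s.Prime)
    (hno : ∀ z : T, orderOf z ≠ r * s) (hok : okPair n l r s = true) (hr2 : ¬ r ^ 2 ∣ n)
    {R : Subgroup T} (hR : R ≠ ⊤) (h1 : r ∣ Nat.card R) (h2 : s ∣ Nat.card R) :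
    ∃ (O : Subgroup R) (_ : O.Normal) (N : Subgroup (R ⧸ O)), Top R r O N ∧ ¬ s ∣ Nat.card O ∧
      ∃ g ∈ surv n l r [s], Real g N ∧ Nat.card N = ordN g := by
  have hRn : Nat.card R ∣ n := by
    rw [← hn]
    exact Subgroup.card_subgroup_dvd_card R
  have hsq : ¬ r ^ 2 ∣ Nat.card R := fun h => hr2 (h.trans hRn)
  obtain ⟨O, hO, N, h⟩ := H257.El.exists_top hr h1 hsq
  have hok' := hok
  unfold okPair at hok'
  rw [Bool.and_eq_true, Bool.and_eq_true, Bool.and_eq_true] at hok'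
  obtain ⟨⟨⟨e1, e2⟩, e3⟩, e4⟩ := hok'
  have hrs : r ≠ s := by simpa using e1
  have hs1 : ¬ s ∣ r - 1 := by
    intro hd
    rw [Nat.mod_eq_zero_of_dvd hd] at e2
    exact absurd e2 (by decide)
  have hnoR : ∀ z : R, orderOf z ≠ r * s := fun z => by
    rw [← Subgroup.orderOf_coe]
    exact hno z
  have hord : ∀ b, 1 ≤ b → s ^ b ∣ Nat.card R → s ^ b % r ≠ 1 := fun _ hb hd =>
    okPow_spec hv e4 hs hb (hd.trans hRn)
  have hsN : s ∣ Nat.card N := h.dvd_simple hs hrs hnoR hord hs1 h2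
  have hsO := h.not_dvd_core hs hrs hnoR hord
  have hna : ¬ ∀ a b : N, a * b = b * a := Sit.not_comm_of_dvd h hs hrs hsN
  have hsim := h.simple
  have hNR : Nat.card N ∣ Nat.card R := by
    refine (Subgroup.card_subgroup_dvd_card N).trans ?_
    rw [← card_quot_mul O]
    exact dvd_mul_right _ _
  obtain ⟨g, hg, hr', hc⟩ := exists_good tab (known N) hna hv (hNR.trans hRn)
  refine ⟨O, hO, N, h, hsO, g, List.mem_filter.2 ⟨hg, ?_⟩, hr', hc⟩
  unfold okG
  rw [Bool.and_eq_true, Bool.and_eq_true, List.all_eq_true]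
  refine ⟨⟨?_, ?_⟩, fun t ht => ?_⟩
  · rw [← hc, Nat.mod_eq_zero_of_dvd h.dvd]; rfl
  · rw [← hc]
    have g1 : Nat.card N ≤ Nat.card R := Nat.le_of_dvd Nat.card_pos hNR
    have g2 : Nat.card R < n := by
      rw [← hn]
      refine lt_of_le_of_ne (Nat.le_of_dvd Nat.card_pos (Subgroup.card_subgroup_dvd_card R)) fun h => hR ?_
      exact Subgroup.eq_top_of_card_eq R h
    have g3 : Nat.card N ≠ n := by omega
    simpa using g3
  · rw [List.mem_singleton] at ht
    subst ht
    rw [← hc, Nat.mod_eq_zero_of_dvd hsN]; rfl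

omit [Finite T] in
/-- element orders of `N` are element orders of `T` -/
theorem exists_orderOf {R : Subgroup T} [Finite R] {O : Subgroup R} [O.Normal] {N : Subgroup (R ⧸ O)} {k : ℕ}
    (h : ∃ z : N, orderOf z = k) : ∃ z : T, orderOf z = k :=
  Sit.exists_orderOf h

end engine

/-! ### No element of order 35 -/

section model

open Cfsg.Spor Cfsg.Agent.CpAutSuz.Fix Cfsg.Agent.CpAutSuz.Local Cfsg.Agent.CpAutSuz.Five
open Cfsg.Agent.SporadicRecognition.SuzPhi Cfsg.Agent.SporadicRecognition.SuzOrder Cfsg.Agent.SporRec.SuzCl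

theorem ncomm_five_seven {x y : Suz} (hx : orderOf x = 5) (hy : orderOf y = 7) (h : x * y = y * x) : False := by
  have h4 : (Fx y).card = 4 := card_Fx_seven hy
  -- `x` fixes the fixed points of `y`
  have hsub : Fx y ⊆ Fx x := by
    by_contra hc
    have hne : (Fx y \ Fx x).card ≠ 0 := by
      intro h0
      exact hc (Finset.sdiff_eq_empty_iff_subset.1 (Finset.card_eq_zero.1 h0))
    have hle : (Fx y \ Fx x).card ≤ 4 := by
      rw [← h4]
      exact Finset.card_le_card Finset.sdiff_subset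
    obtain ⟨a, ha, h1⟩ := exists_fix_prime (by norm_num) hx (Fx y \ Fx x) (fun a ha => by
      rw [Finset.mem_sdiff] at ha ⊢
      refine ⟨φ_fix_of_comm h ha.1, fun h2 => ha.2 ?_⟩
      rw [mem_Fx] at h2 ⊢
      exact ⟨(mem_Fx.1 ha.1).1, (φ x).injective h2.2⟩) (by
        intro h5
        have := Nat.le_of_dvd (Nat.pos_of_ne_zero hne) h5
        omega)
    rw [Finset.mem_sdiff] at ha
    exact ha.2 (mem_Fx.2 ⟨(mem_Fx.1 ha.1).1, h1⟩)
  have h12 : (Fx x).card = 12 := by
    rcases card_Fx_five hx with h5 | h5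
    · have := Finset.card_le_card hsub
      omega
    · exact h5
  have h8 : (Fx x \ Fx y).card = 8 := by
    rw [Finset.card_sdiff_of_subset hsub, h12, h4]
  obtain ⟨a, ha, h1⟩ := exists_fix_prime (by norm_num) hy (Fx x \ Fx y) (fun a ha => by
    rw [Finset.mem_sdiff] at ha ⊢
    refine ⟨φ_fix_of_comm h.symm ha.1, fun h2 => ha.2 ?_⟩
    rw [mem_Fx] at h2 ⊢
    exact ⟨(mem_Fx.1 ha.1).1, (φ y).injective h2.2⟩) (by rw [h8]; norm_num)
  rw [Finset.mem_sdiff] at ha
  exact ha.2 (mem_Fx.2 ⟨(mem_Fx.1 ha.1).1, h1⟩)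

/-- `Suz` has no element of order 35 -/
theorem no35 (z : Suz) : orderOf z ≠ 7 * 5 :=
  noOrd_of_noComm (by norm_num) (by norm_num) (fun x y hx hy h => ncomm_five_seven hy hx h.symm) z

theorem no143 (z : Suz) : orderOf z ≠ 13 * 11 :=
  noOrd_of_noComm (by norm_num) (by norm_num) (fun x y hx hy h => SporRec.SuzNo143.no143 x y hx hy h) z

end model

/-! ### `A₁₃` has an element of order 35 -/

section alt

/-- a permutation of order 35 -/
def p35 : Equiv.Perm (Fin 13) := List.formPerm [0, 1, 2, 3, 4] * List.formPerm [5, 6, 7, 8, 9, 10, 11]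

theorem p35_pow : (p35 ^ 2) ^ 35 = 1 := by decide +kernel
theorem p35_pow5 : (p35 ^ 2) ^ 5 ≠ 1 := by decide +kernel
theorem p35_pow7 : (p35 ^ 2) ^ 7 ≠ 1 := by decide +kernel

theorem orderOf_p35 : orderOf (p35 ^ 2) = 7 * 5 := by
  have h1 : orderOf (p35 ^ 2) ∣ 35 := orderOf_dvd_of_pow_eq_one p35_pow
  have h2 : ¬ orderOf (p35 ^ 2) ∣ 5 := fun h => p35_pow5 (orderOf_dvd_iff_pow_eq_one.1 h)
  have h3 : ¬ orderOf (p35 ^ 2) ∣ 7 := fun h => p35_pow7 (orderOf_dvd_iff_pow_eq_one.1 h)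
  have h4 : orderOf (p35 ^ 2) ∈ Nat.divisors 35 := Nat.mem_divisors.2 ⟨h1, by norm_num⟩
  rw [show Nat.divisors 35 = {1, 5, 7, 35} by decide +kernel] at h4
  simp only [Finset.mem_insert, Finset.mem_singleton] at h4
  rcases h4 with h4 | h4 | h4 | h4
  · exact absurd (by rw [h4]; norm_num) h2
  · exact absurd (by rw [h4]) h2
  · exact absurd (by rw [h4]) h3
  · exact h4

theorem alt_thirteen : ∃ z : alternatingGroup (Fin 13), orderOf z = 7 * 5 := by
  refine ⟨⟨p35 ^ 2, ?_⟩, ?_⟩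
  · rw [Equiv.Perm.mem_alternatingGroup, map_pow, Int.units_sq]
  · rw [Subgroup.orderOf_mk]
    exact orderOf_p35

end alt

/-! ### The row -/

section row

variable {T : Type u} [Group T]

theorem miss_suz (tab : OrderTable.{u}) (known : Known.{u}) (h : Spor.IsoSuz T) {R : Subgroup T} (hR : R ≠ ⊤) :
    ¬ 13 ∣ Nat.card R ∨ ¬ 11 ∣ Nat.card R := by
  by_contra hc
  rw [not_or, not_not, not_not] at hc
  have hN := NotCT.Orders.suz h
  obtain ⟨e⟩ := h
  have : Finite T := Nat.finite_of_card_ne_zero (by rw [hN]; norm_num)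
  obtain ⟨O, hO, N, ht, -, g, hg, hgr, -⟩ := exists_surv_of_dvd tab known (r := 13) (s := 11)
    (l := [(2, 13), (3, 7), (5, 2), (7, 1), (11, 1), (13, 1)]) hN (by decide +kernel) (by norm_num) (by norm_num)
    (noOrd_congr e no143) (by decide +kernel) (by norm_num) hR hc.1 hc.2
  rw [show surv _ [(2, 13), (3, 7), (5, 2), (7, 1), (11, 1), (13, 1)] 13 [11] = [Grp.alt 13] by decide +kernel,
    List.mem_singleton] at hg
  subst hg
  obtain ⟨f⟩ := hgr
  obtain ⟨z, hz⟩ := alt_thirteen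
  obtain ⟨w, hw⟩ := exists_orderOf (N := N) ⟨f.symm z, by rw [MulEquiv.orderOf_eq, hz]⟩
  exact noOrd_congr e no35 w hw

theorem der_suz (tab : OrderTable.{u}) (known : Known.{u}) (h : Spor.IsoSuz T) {R : Subgroup T} (hR : R ≠ ⊤) :
    H396.Der T R := by
  have hN := NotCT.Orders.suz h
  have : Finite T := Nat.finite_of_card_ne_zero (by rw [hN]; norm_num)
  rcases miss_suz tab known h hR with h1 | h1
  · exact H396.der_of_prime (v := 13) (by norm_num) (by rw [hN]; norm_num) h1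
  · exact H396.der_of_prime (v := 11) (by norm_num) (by rw [hN]; norm_num) h1

theorem derT_suz (tab : OrderTable.{u}) (known : Known.{u}) (h : Spor.IsoSuz T) {R : Subgroup T} (hR : R ≠ ⊤) :
    DerT T R := by
  obtain ⟨g, hg, h1⟩ := der_suz tab known h hR
  exact ⟨g, hg, fun c => by
    have h2 := h1 (MulAut.conj c)
    rwa [MulAut.conj_apply] at h2⟩

theorem clT_suz (tab : OrderTable.{u}) (known : Known.{u}) (h : Spor.IsoSuz T) : ClT T :=
  fun _ hR => Or.inl (derT_suz tab known h hR)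

end row

end Cfsg.Agent.H180.ElS
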