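import Cfsg.Agent.H180.AltFiveMain

/-!
# `A₇` and `A₈` have no irreducible representation of degree 5 (characteristic not 7, resp. 2)

`alt_five` (task 174 of the lemma market, S5794, S5797).
-/

set_option autoImplicit false
set_option linter.unusedSectionVars false
set_option linter.unusedVariables false

namespace Cfsg.Agent.H180.AltFive

open Equiv Equiv.Perm Module
open Cfsg.Agent.H911 (Irr ρ_mul_apply ρ_inv_apply ρ_apply_inv)

variable {α : Type*} [Fintype α] [DecidableEq α]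
variable {K : Type*} [Field K] {V : Type*} [AddCommGroup V] [Module K V] [FiniteDimensional K V]

open Classical in
/-- the vector attached to a pair of points -/
noncomputable def w (ρ : alternatingGroup α →* Module.End K V) (a b : α) (u : V) (i j : α) : V :=
  if h : ∃ g : alternatingGroup α, (g : Perm α) a = i ∧ (g : Perm α) b = j then ρ h.choose u else 0

section

variable {ρ : alternatingGroup α →* Module.End K V} {a b : α} {u : V}

theorem w_eq (hu : ∀ g : alternatingGroup α, (g : Perm α) a = a → (g : Perm α) b = b → ρ g u = u)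
    (g : alternatingGroup α) : ρ g u = w ρ a b u ((g : Perm α) a) ((g : Perm α) b) := by
  have h : ∃ g' : alternatingGroup α, (g' : Perm α) a = (g : Perm α) a ∧ (g' : Perm α) b = (g : Perm α) b :=
    ⟨g, rfl, rfl⟩
  unfold w
  rw [dif_pos h]
  obtain ⟨h1, h2⟩ := h.choose_spec
  set g' := h.choose with hg'
  have h3 := hu (g'⁻¹ * g) (by
    show (g' : Perm α)⁻¹ ((g : Perm α) a) = a
    rw [← h1]; exact Equiv.symm_apply_apply _ _) (by
    show (g' : Perm α)⁻¹ ((g : Perm α) b) = b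
    rw [← h2]; exact Equiv.symm_apply_apply _ _)
  conv_rhs => rw [← h3]
  rw [← ρ_mul_apply, mul_inv_cancel_left]

variable (hα : 7 ≤ Fintype.card α) (hab : a ≠ b)
  (hu : ∀ g : alternatingGroup α, (g : Perm α) a = a → (g : Perm α) b = b → ρ g u = u)

include hα hab hu

theorem w_smul (g : alternatingGroup α) {i j : α} (hij : i ≠ j) :
    ρ g (w ρ a b u i j) = w ρ a b u ((g : Perm α) i) ((g : Perm α) j) := by
  obtain ⟨g', h1, h2⟩ := exists_two (by omega) hab hij
  rw [← h1, ← h2, ← w_eq hu g', ← ρ_mul_apply, w_eq hu (g * g')]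
  rfl

theorem w_base : w ρ a b u a b = u := by
  have := w_eq hu 1
  rw [map_one] at this
  exact this.symm

theorem w_ne (hu0 : u ≠ 0) {i j : α} (hij : i ≠ j) : w ρ a b u i j ≠ 0 := by
  obtain ⟨g', h1, h2⟩ := exists_two (by omega) hab hij
  rw [← h1, ← h2, ← w_eq hu g']
  intro h
  exact hu0 (inj ρ g' (by rw [h, map_zero]))

theorem w_rel {c₀ : α} (hac : a ≠ c₀) (hbc : b ≠ c₀) (hR : u ∈ R (ρ (C a b c₀))) {i j k : α} (hij : i ≠ j)
    (hik : i ≠ k) (hjk : j ≠ k) : w ρ a b u i j + w ρ a b u j k + w ρ a b u k i = 0 := by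
  have h0 : w ρ a b u a b + w ρ a b u b c₀ + w ρ a b u c₀ a = 0 := by
    rw [mem_R] at hR
    have e1 : ρ (C a b c₀) u = w ρ a b u b c₀ := by
      rw [w_eq hu, C_val hab hbc, c_apply_fst hab hac, c_apply_snd hac hbc]
    have e2 : ρ (C a b c₀) (ρ (C a b c₀) u) = w ρ a b u c₀ a := by
      rw [e1, w_smul hα hab hu _ hbc, C_val hab hbc, c_apply_snd hac hbc, c_apply_trd]
    rw [w_base hα hab hu, ← e1, ← e2, e1]
    rw [e1] at hR
    exact hR
  obtain ⟨g, h1, h2, h3⟩ := exists_three (by omega) hab hac hbc hij hik hjk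
  have := congrArg (ρ g) h0
  rw [map_add, map_add, map_zero, w_smul hα hab hu _ hab, w_smul hα hab hu _ hbc, w_smul hα hab hu _ hac.symm,
    h1, h2, h3] at this
  exact this

theorem w_symm {ε : K} (h : w ρ a b u b a = ε • u) {i j : α} (hij : i ≠ j) :
    w ρ a b u j i = ε • w ρ a b u i j := by
  obtain ⟨g', h1, h2⟩ := exists_two (by omega) hab hij
  rw [← h1, ← h2, ← w_eq hu g', ← map_smul, ← h, w_smul hα hab hu _ hab.symm]

end

/-- the sign is `-1` -/
theorem eps_eq (h3 : (3 : K) ≠ 0) {ρ : alternatingGroup α →* Module.End K V} {a b c₀ : α} {u : V}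
    (hα : 7 ≤ Fintype.card α) (hab : a ≠ b) (hac : a ≠ c₀) (hbc : b ≠ c₀)
    (hu : ∀ g : alternatingGroup α, (g : Perm α) a = a → (g : Perm α) b = b → ρ g u = u) (hu0 : u ≠ 0)
    (hR : u ∈ R (ρ (C a b c₀))) {ε : K} (h : w ρ a b u b a = ε • u) (hε : ε * ε = 1) : ε = -1 := by
  by_contra hne
  have h1 : ε = 1 := by
    have : (ε - 1) * (ε + 1) = 0 := by linear_combination hε
    rcases mul_eq_zero.1 this with h2 | h2
    · exact sub_eq_zero.1 h2
    · exact absurd (eq_neg_of_add_eq_zero_left h2) hne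
  have h2 : (2 : K) ≠ 0 := by
    intro h2
    apply hne
    rw [h1]
    have : (1 : K) + 1 = 0 := by rw [← h2]; norm_num
    exact eq_neg_of_add_eq_zero_left this
  have sy : ∀ {i j : α}, i ≠ j → w ρ a b u j i = w ρ a b u i j := by
    intro i j hij
    rw [w_symm hα hab hu h hij, h1, one_smul]
  have rl : ∀ {i j k : α}, i ≠ j → i ≠ k → j ≠ k → w ρ a b u i j + w ρ a b u j k + w ρ a b u k i = 0 :=
    fun hij hik hjk => w_rel hα hab hu hac hbc hR hij hik hjk
  have key : ∀ {i j k l : α}, i ≠ j → i ≠ k → i ≠ l → j ≠ k → j ≠ l → k ≠ l → w ρ a b u i j = w ρ a b u k l := by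
    intro i j k l hij hik hil hjk hjl hkl
    have e1 := rl hij hik hjk
    have e2 := rl hij hil hjl
    have e3 := rl hik hil hkl
    have e4 := rl hjk hjl hkl
    have s1 := sy hik
    have s2 := sy hil
    have s3 := sy hjl
    rw [s1] at e1
    rw [s2] at e2 e3
    rw [s3] at e4
    have e5 : (2 : K) • (w ρ a b u i j - w ρ a b u k l) = 0 := by
      rw [two_smul]
      have : w ρ a b u i j - w ρ a b u k l + (w ρ a b u i j - w ρ a b u k l) =
          (w ρ a b u i j + w ρ a b u j k + w ρ a b u i k) + (w ρ a b u i j + w ρ a b u j l + w ρ a b u i l) -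
          (w ρ a b u i k + w ρ a b u k l + w ρ a b u i l) - (w ρ a b u j k + w ρ a b u k l + w ρ a b u j l) := by
        abel
      rw [this, e1, e2, e3, e4]
      simp
    exact sub_eq_zero.1 ((smul_eq_zero.1 e5).resolve_left h2)
  obtain ⟨l, m, hl, hm, hlm⟩ := exists_points_two (s := {a, b, c₀}) (by
    have := Finset.card_le_three (a := a) (b := b) (c := c₀); omega)
  simp only [Finset.mem_insert, Finset.mem_singleton, not_or] at hl hm
  have e1 := key hab (Ne.symm hl.1) (Ne.symm hm.1) (Ne.symm hl.2.1) (Ne.symm hm.2.1) hlm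
  have e2 := key hbc (Ne.symm hl.2.1) (Ne.symm hm.2.1) (Ne.symm hl.2.2) (Ne.symm hm.2.2) hlm
  have e3 := key hac.symm (Ne.symm hl.2.2) (Ne.symm hm.2.2) (Ne.symm hl.1) (Ne.symm hm.1) hlm
  have e4 := rl hab hac hbc
  rw [e1, e2, e3, three_smul' (K := K)] at e4
  exact w_ne hα hab hu hu0 hlm ((smul_eq_zero.1 e4).resolve_left h3)

/-- **main theorem, characteristic prime to 21** -/
theorem main [IsAlgClosed K] (h3 : (3 : K) ≠ 0) (h7 : (7 : K) ≠ 0) (h5 : finrank K V = 5)
    {ρ : alternatingGroup α →* Module.End K V} (hirr : Irr ρ) (hα : 7 ≤ Fintype.card α)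
    (a : Fin 7 → α) (ha : Function.Injective a) (x z : alternatingGroup α)
    (hx : ∀ i, (x : Perm α) (a i) = a (i + 1)) (hx7 : x ^ 7 = 1) (hz : z * x * z⁻¹ = x ^ 2) : False := by
  have ne : ∀ {i j : Fin 7}, i ≠ j → a i ≠ a j := fun hij => ha.ne hij
  have h01 : a 0 ≠ a 1 := ne (by decide)
  have h02 : a 0 ≠ a 2 := ne (by decide)
  have h12 : a 1 ≠ a 2 := ne (by decide)
  have h03 : a 0 ≠ a 3 := ne (by decide)
  have h13 : a 1 ≠ a 3 := ne (by decide)
  have h23 : a 2 ≠ a 3 := ne (by decide)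
  -- the ranks
  rcases rank_cases h3 h5 hirr (by omega) h01 h02 h12 with hF | hF
  · exact false_B h3 h5 hirr hα h01 h02 h12 hF.1
  have hFF : ∀ {i j k : α}, i ≠ j → i ≠ k → j ≠ k → finrank K (F (ρ (C i j k))) = 3 := by
    intro i j k hij hik hjk
    rw [finrank_F_eq ρ (by omega) h01 h02 h12 hij hik hjk, hF.1]
  have hR : ∀ {i j k : α}, i ≠ j → i ≠ k → j ≠ k → finrank K (R (ρ (C i j k))) = 2 := by
    intro i j k hij hik hjk
    have h1 := hFF hij hik hjk
    rcases rank_cases h3 h5 hirr (by omega) hij hik hjk with h | h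
    · omega
    · exact h.2
  have hle : ∀ {i j k l m n : α}, Six i j k l m n → R (ρ (C i j k)) ≤ F (ρ (C l m n)) :=
    fun S => six_le h3 h5 hirr hα hR S
  -- the line
  have S1 : Six (a 0) (a 1) (a 2) (a 4) (a 5) (a 6) := by
    constructor <;> exact ne (by decide)
  have S2 : Six (a 0) (a 1) (a 3) (a 4) (a 5) (a 6) := by
    constructor <;> exact ne (by decide)
  have S3 : Six (a 0) (a 1) (a 2) (a 3) (a 4) (a 5) := by
    constructor <;> exact ne (by decide)
  set ℓ : Submodule K V := R (ρ (C (a 0) (a 1) (a 2))) ⊓ R (ρ (C (a 0) (a 1) (a 3))) with hℓ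
  have hℓ1 : finrank K ℓ = 1 := by
    have e1 := Submodule.finrank_sup_add_finrank_inf_eq (R (ρ (C (a 0) (a 1) (a 2)))) (R (ρ (C (a 0) (a 1) (a 3))))
    rw [hR h01 h02 h12, hR h01 h03 h13, ← hℓ] at e1
    have e2 : finrank K (R (ρ (C (a 0) (a 1) (a 2))) ⊔ R (ρ (C (a 0) (a 1) (a 3))) : Submodule K V) ≤ 3 := by
      rw [← hFF (i := a 4) (j := a 5) (k := a 6) (ne (by decide)) (ne (by decide)) (ne (by decide))]
      exact Submodule.finrank_mono (sup_le (hle S1) (hle S2))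
    have e3 : finrank K ℓ ≠ 2 := by
      intro e4
      apply R_ne h3 h5 hirr hα hR h01 h02 h12 h03 h13 h23
      have e5 : ℓ = R (ρ (C (a 0) (a 1) (a 2))) :=
        Submodule.eq_of_le_of_finrank_le inf_le_left (by rw [e4, hR h01 h02 h12])
      have e6 : ℓ = R (ρ (C (a 0) (a 1) (a 3))) :=
        Submodule.eq_of_le_of_finrank_le inf_le_right (by rw [e4, hR h01 h03 h13])
      rw [← e5, ← e6]
    have e4 : finrank K ℓ ≤ 2 := by
      rw [← hR h01 h02 h12]
      exact Submodule.finrank_mono inf_le_left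
    omega
  obtain ⟨u', hu0', hspan⟩ := finrank_eq_one_iff'.1 hℓ1
  set u : V := (u' : V) with hu
  have hu0 : u ≠ 0 := fun h => hu0' (Subtype.ext h)
  have huℓ : u ∈ ℓ := u'.2
  have hline : ∀ v ∈ ℓ, ∃ c : K, v = c • u := by
    intro v hv
    obtain ⟨c, hc⟩ := hspan ⟨v, hv⟩
    exact ⟨c, (congrArg Subtype.val hc).symm⟩
  -- the stabilizer of the two points fixes `u`
  have hfix3 : ∀ i j k : α, i ≠ a 0 → i ≠ a 1 → j ≠ a 0 → j ≠ a 1 → k ≠ a 0 → k ≠ a 1 → i ≠ j → i ≠ k → j ≠ k →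
      (i ≠ a 2 ∧ j ≠ a 2 ∧ k ≠ a 2) ∨ (i ≠ a 3 ∧ j ≠ a 3 ∧ k ≠ a 3) → C i j k ∈ stabv ρ u := by
    intro i j k i0 i1 j0 j1 k0 k1 hij hik hjk h
    rw [mem_stabv, ← mem_F]
    rcases h with ⟨hi, hj, hk⟩ | ⟨hi, hj, hk⟩
    · exact hle ⟨h01, h02, h12, hij, hik, hjk, i0.symm, j0.symm, k0.symm, i1.symm, j1.symm, k1.symm, hi.symm,
        hj.symm, hk.symm⟩ huℓ.1
    · exact hle ⟨h01, h03, h13, hij, hik, hjk, i0.symm, j0.symm, k0.symm, i1.symm, j1.symm, k1.symm, hi.symm,
        hj.symm, hk.symm⟩ huℓ.2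
  have hfix : ∀ g : alternatingGroup α, (g : Perm α) (a 0) = a 0 → (g : Perm α) (a 1) = a 1 → ρ g u = u := by
    intro g hg0 hg1
    rw [← mem_stabv]
    refine mem_of_fix_two (stabv ρ u) ?_ hg0 hg1
    intro i j k i0 i1 j0 j1 k0 k1 hij hik hjk
    by_cases h2 : i ≠ a 2 ∧ j ≠ a 2 ∧ k ≠ a 2
    · exact hfix3 i j k i0 i1 j0 j1 k0 k1 hij hik hjk (Or.inl h2)
    by_cases h3' : i ≠ a 3 ∧ j ≠ a 3 ∧ k ≠ a 3
    · exact hfix3 i j k i0 i1 j0 j1 k0 k1 hij hik hjk (Or.inr h3')
    obtain ⟨p, q, hp, hq, hpq⟩ := exists_points_two (s := {a 0, a 1, i, j, k}) (by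
      have := Finset.card_le_five (a := a 0) (b := a 1) (c := i) (d := j) (e := k); omega)
    simp only [Finset.mem_insert, Finset.mem_singleton, not_or] at hp hq
    obtain ⟨p0, p1, pi, pj, pk⟩ := hp
    obtain ⟨q0, q1, qi, qj, qk⟩ := hq
    have hp2 : p ≠ a 2 := by
      rintro rfl
      exact h2 ⟨Ne.symm pi, Ne.symm pj, Ne.symm pk⟩
    have hq2 : q ≠ a 2 := by
      rintro rfl
      exact h2 ⟨Ne.symm qi, Ne.symm qj, Ne.symm qk⟩
    have hp3 : p ≠ a 3 := by
      rintro rfl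
      exact h3' ⟨Ne.symm pi, Ne.symm pj, Ne.symm pk⟩
    have hq3 : q ≠ a 3 := by
      rintro rfl
      exact h3' ⟨Ne.symm qi, Ne.symm qj, Ne.symm qk⟩
    have hg : C (a 2) p q ∈ stabv ρ u :=
      hfix3 _ _ _ h02.symm h12.symm p0 p1 q0 q1 hp2.symm hq2.symm hpq (Or.inr ⟨h23, hp3, hq3⟩)
    have hgv : ((C (a 2) p q : alternatingGroup α) : Perm α) = c (a 2) p q := C_val hp2.symm hpq
    -- images are not `a 2`
    have himg : ∀ y : α, y ≠ q → c (a 2) p q y ≠ a 2 := by
      intro y hy h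
      have h' : c (a 2) p q y = c (a 2) p q q := by rw [h, c_apply_trd]
      exact hy ((c (a 2) p q).injective h')
    have hfx : ∀ y : α, (y = a 0 ∨ y = a 1) → c (a 2) p q y = y := by
      rintro y (rfl | rfl)
      · exact c_apply_of_ne h02 (Ne.symm p0) (Ne.symm q0)
      · exact c_apply_of_ne h12 (Ne.symm p1) (Ne.symm q1)
    have hne : ∀ (y t : α), (t = a 0 ∨ t = a 1) → y ≠ t → c (a 2) p q y ≠ t := by
      intro y t ht hy h
      rw [← hfx t ht] at h
      exact hy ((c (a 2) p q).injective h)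
    have hinj : ∀ {y t : α}, y ≠ t → c (a 2) p q y ≠ c (a 2) p q t := fun h h' => h ((c (a 2) p q).injective h')
    have h4 : C (c (a 2) p q i) (c (a 2) p q j) (c (a 2) p q k) ∈ stabv ρ u := by
      refine hfix3 _ _ _ (hne _ _ (Or.inl rfl) i0) (hne _ _ (Or.inr rfl) i1) (hne _ _ (Or.inl rfl) j0)
        (hne _ _ (Or.inr rfl) j1) (hne _ _ (Or.inl rfl) k0) (hne _ _ (Or.inr rfl) k1) (hinj hij) (hinj hik)
        (hinj hjk) (Or.inl ⟨himg _ (Ne.symm qi), himg _ (Ne.symm qj), himg _ (Ne.symm qk)⟩)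
    rw [← C_conj' (g := C (a 2) p q) hij hjk (by rw [hgv]) (by rw [hgv]) (by rw [hgv])] at h4
    have h6 := (stabv ρ u).mul_mem ((stabv ρ u).mul_mem ((stabv ρ u).inv_mem hg) h4) hg
    have e : (C (a 2) p q)⁻¹ * (C (a 2) p q * C i j k * (C (a 2) p q)⁻¹) * C (a 2) p q = C i j k := by group
    rwa [e] at h6
  -- the sign
  have huR : u ∈ R (ρ (C (a 0) (a 1) (a 2))) := huℓ.1
  obtain ⟨ε, hε⟩ : ∃ ε : K, ρ (D (a 0) (a 1) (a 2) (a 3)) u = ε • u := by
    apply hline
    constructor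
    · have h1 := (mem_R_conj ρ (D (a 0) (a 1) (a 2) (a 3)) (C (a 0) (a 1) (a 3)) u).2 huℓ.2
      rw [C_conj' h01 h13 (D_fst h01 h23 h02 h03) (D_snd h01 h23 h12 h13) (D_fth h01 h23 h02 h12),
        R_swap ρ h01 h02 h12] at h1
      exact h1
    · have h1 := (mem_R_conj ρ (D (a 0) (a 1) (a 2) (a 3)) (C (a 0) (a 1) (a 2)) u).2 huℓ.1
      rw [C_conj' h01 h12 (D_fst h01 h23 h02 h03) (D_snd h01 h23 h12 h13) (D_trd h01 h23 h03 h13),
        R_swap ρ h01 h03 h13] at h1
      exact h1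
  have hw10 : w ρ (a 0) (a 1) u (a 1) (a 0) = ε • u := by
    rw [← hε, w_eq hfix, D_fst h01 h23 h02 h03, D_snd h01 h23 h12 h13]
  have hε2 : ε * ε = 1 := by
    have h1 := w_symm hα h01 hfix hw10 h01
    have h2 := w_symm hα h01 hfix hw10 h01.symm
    rw [h1, smul_smul, w_base hα h01 hfix] at h2
    have h4 : (ε * ε - 1) • u = 0 := by rw [sub_smul, ← h2, one_smul, sub_self]
    exact sub_eq_zero.1 ((smul_eq_zero.1 h4).resolve_right hu0)
  have hε1 : ε = -1 := eps_eq h3 hα h01 h02 h12 hfix hu0 huR hw10 hε2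
  have anti : ∀ {i j : α}, i ≠ j → w ρ (a 0) (a 1) u j i = - w ρ (a 0) (a 1) u i j := by
    intro i j hij
    rw [w_symm hα h01 hfix hw10 hij, hε1, neg_one_smul]
  have rel : ∀ {i j k : α}, i ≠ j → i ≠ k → j ≠ k →
      w ρ (a 0) (a 1) u i j + w ρ (a 0) (a 1) u j k + w ρ (a 0) (a 1) u k i = 0 :=
    fun hij hik hjk => w_rel hα h01 hfix h02 h12 huR hij hik hjk
  have add : ∀ {i j k : α}, i ≠ j → i ≠ k → j ≠ k →
      w ρ (a 0) (a 1) u i j + w ρ (a 0) (a 1) u j k = w ρ (a 0) (a 1) u i k := by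
    intro i j k hij hik hjk
    have h1 := rel hij hik hjk
    rw [anti hik] at h1
    exact sub_eq_zero.1 (by rw [← sub_eq_add_neg] at h1; exact h1)
  -- the seven-cycle
  have hpow : ∀ m : ℕ, ∀ i : Fin 7, ((x ^ m : alternatingGroup α) : Perm α) (a i) = a (i + Fin.ofNat 7 m) := by
    intro m
    induction m with
    | zero => intro i; simp
    | succ m ih =>
      intro i
      rw [pow_succ']
      show (x : Perm α) (((x ^ m : alternatingGroup α) : Perm α) (a i)) = _
      have e : Fin.ofNat 7 (m + 1) = Fin.ofNat 7 m + 1 := by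
        apply Fin.ext
        simp [Fin.ofNat, Fin.val_add]
      rw [ih, hx, e, add_assoc]
  have hv : ∀ m : ℕ, (ρ x ^ m) u = w ρ (a 0) (a 1) u (a (Fin.ofNat 7 m)) (a (Fin.ofNat 7 m + 1)) := by
    intro m
    rw [← map_pow, w_eq hfix, hpow, hpow]
    congr 2
    · rw [zero_add]
    · rw [add_comm]
  have hN : (∑ i ∈ Finset.range 7, ρ x ^ i) u = 0 := by
    rw [LinearMap.sum_apply, Finset.sum_congr rfl fun m _ => hv m]
    simp only [Finset.sum_range_succ, Finset.sum_range_zero, zero_add]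
    have c0 : Fin.ofNat 7 0 = 0 := by decide
    have c1 : Fin.ofNat 7 1 = 1 := by decide
    have c2 : Fin.ofNat 7 2 = 2 := by decide
    have c3 : Fin.ofNat 7 3 = 3 := by decide
    have c4 : Fin.ofNat 7 4 = 4 := by decide
    have c5 : Fin.ofNat 7 5 = 5 := by decide
    have c6 : Fin.ofNat 7 6 = 6 := by decide
    rw [c0, c1, c2, c3, c4, c5, c6, show (0 : Fin 7) + 1 = 1 by decide, show (1 : Fin 7) + 1 = 2 by decide,
      show (2 : Fin 7) + 1 = 3 by decide, show (3 : Fin 7) + 1 = 4 by decide, show (4 : Fin 7) + 1 = 5 by decide,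
      show (5 : Fin 7) + 1 = 6 by decide, show (6 : Fin 7) + 1 = 0 by decide]
    rw [add h01 h02 h12, add h02 h03 h23, add h03 (ne (by decide)) (ne (by decide)),
      add (ne (by decide)) (ne (by decide)) (ne (by decide)), add (ne (by decide)) (ne (by decide)) (ne (by decide)),
      anti (ne (by decide)), neg_add_cancel]
  set N := ∑ i ∈ Finset.range 7, ρ x ^ i with hNdef
  have hker := ker_norm_le (X := ρ x) (Z := ρ z) (Z' := ρ z⁻¹) h7 h5 (by rw [← map_pow, hx7, map_one])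
    (by rw [← map_mul, inv_mul_cancel, map_one]) (by rw [← map_mul, ← map_mul, hz, map_pow])
  have hNx : ∀ v, N (ρ x v) = ρ x (N v) := by
    intro v
    have : Commute N (ρ x) := by
      rw [hNdef]
      exact Commute.sum_left _ _ _ fun i _ => (Commute.refl (ρ x)).pow_left i
    exact congrArg (fun f : Module.End K V => f v) this.eq
  -- `R (0 1 2) ≤ ker N`
  have hTu : ρ (C (a 0) (a 1) (a 2)) u = ρ x u := by
    rw [w_eq hfix, w_eq hfix x, C_val h01 h12, c_apply_fst h01 h02, c_apply_snd h02 h12, hx, hx]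
    rfl
  have hRN : R (ρ (C (a 0) (a 1) (a 2))) ≤ LinearMap.ker N := by
    set S := R (ρ (C (a 0) (a 1) (a 2))) ⊓ LinearMap.ker N with hS
    have hSle : finrank K S ≤ 2 := by
      rw [← hR h01 h02 h12]
      exact Submodule.finrank_mono inf_le_left
    have huS : u ∈ S := ⟨huR, by rw [SetLike.mem_coe, LinearMap.mem_ker]; exact hN⟩
    have hTuS : ρ (C (a 0) (a 1) (a 2)) u ∈ S := by
      refine ⟨((C_mem_stab_R ρ h01 h02 h12) u).2 huR, ?_⟩
      rw [SetLike.mem_coe, LinearMap.mem_ker, hTu, hNx, hN, map_zero]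
    have hne1 : finrank K S ≠ 1 := by
      intro h1
      obtain ⟨c', hc', hsp⟩ := finrank_eq_one_iff'.1 h1
      obtain ⟨d, hd⟩ := hsp ⟨u, huS⟩
      have hd' : d • (c' : V) = u := congrArg Subtype.val hd
      have hd0 : d ≠ 0 := by
        rintro rfl
        rw [zero_smul] at hd'
        exact hu0 hd'.symm
      have hS' : ∀ v ∈ S, ∃ e : K, v = e • u := by
        intro v hv
        obtain ⟨e, he⟩ := hsp ⟨v, hv⟩
        refine ⟨e * d⁻¹, ?_⟩
        rw [← hd', smul_smul, mul_assoc, inv_mul_cancel₀ hd0, mul_one]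
        exact (congrArg Subtype.val he).symm
      have h34 : a 3 ≠ a 4 := ne (by decide)
      have h04 : a 0 ≠ a 4 := ne (by decide)
      have h14 : a 1 ≠ a 4 := ne (by decide)
      have h24 : a 2 ≠ a 4 := ne (by decide)
      refine no_line h3 (inj ρ (D (a 0) (a 1) (a 3) (a 4))) (swap_rel ρ h01 h02 h12 (D_fst h01 h34 h03 h04)
        (D_snd h01 h34 h13 h14) (D_of_ne h01 h34 h02.symm h12.symm h23 h24)) h1 ?_ ?_ inf_le_left
      · intro v hv
        obtain ⟨e, rfl⟩ := hS' v hv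
        rw [map_smul]
        exact S.smul_mem _ hTuS
      · intro v hv
        obtain ⟨e, rfl⟩ := hS' v hv
        rw [map_smul]
        apply S.smul_mem
        rw [w_eq hfix, D_fst h01 h34 h03 h04, D_snd h01 h34 h13 h14, hw10]
        exact S.smul_mem _ huS
    have hpos : 0 < finrank K S := by
      rw [Nat.pos_iff_ne_zero]
      intro h0
      have := Submodule.finrank_eq_zero.1 h0
      rw [this, Submodule.mem_bot] at huS
      exact hu0 huS
    have hSeq : S = R (ρ (C (a 0) (a 1) (a 2))) :=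
      Submodule.eq_of_le_of_finrank_le inf_le_left (by rw [hR h01 h02 h12]; omega)
    rw [← hSeq]
    exact inf_le_right
  have h34 : a 3 ≠ a 4 := ne (by decide)
  have h35 : a 3 ≠ a 5 := ne (by decide)
  have h45 : a 4 ≠ a 5 := ne (by decide)
  have hRN2 : R (ρ (C (a 3) (a 4) (a 5))) ≤ LinearMap.ker N := by
    have hNx3 : ∀ v, N (ρ (x ^ 3) v) = ρ (x ^ 3) (N v) := by
      intro v
      rw [pow_succ, pow_two, ρ_mul_apply, ρ_mul_apply, ρ_mul_apply, ρ_mul_apply, hNx, hNx, hNx]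
    intro v hv
    have e1 : x ^ 3 * C (a 0) (a 1) (a 2) * (x ^ 3)⁻¹ = C (a 3) (a 4) (a 5) := by
      rw [C_conj (x ^ 3) h01 h12, hpow, hpow, hpow]
      rfl
    rw [← e1, ← R_map ρ (x ^ 3)] at hv
    obtain ⟨v', hv', rfl⟩ := hv
    rw [LinearMap.mem_ker, hNx3]
    have := LinearMap.mem_ker.1 (hRN hv')
    rw [this, map_zero]
  have hinf : R (ρ (C (a 0) (a 1) (a 2))) ⊓ R (ρ (C (a 3) (a 4) (a 5))) = ⊥ := by
    rw [eq_bot_iff, ← F_inf_R h3 (ρ (C (a 3) (a 4) (a 5)))]
    exact inf_le_inf_right _ (hle S3)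
  have e1 := Submodule.finrank_sup_add_finrank_inf_eq (R (ρ (C (a 0) (a 1) (a 2)))) (R (ρ (C (a 3) (a 4) (a 5))))
  rw [hinf, finrank_bot, hR h01 h02 h12, hR h34 h35 h45] at e1
  have e2 := Submodule.finrank_mono (sup_le hRN hRN2)
  rw [← hNdef] at hker
  omega

end Cfsg.Agent.H180.AltFive
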