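import Cfsg.Agent.H180.AltFiveMain

/-!
# `A₇` has no irreducible representation of degree 5 in characteristic 3
-/

set_option autoImplicit false
set_option linter.unusedSectionVars false
set_option linter.unusedVariables false

namespace Cfsg.Agent.H180.AltFive

open Equiv Equiv.Perm Module
open Cfsg.Agent.H911 (Irr ρ_mul_apply ρ_inv_apply ρ_apply_inv)

variable {K : Type*} [Field K] {V : Type*} [AddCommGroup V] [Module K V]

/-- the `-1` space -/
def G (T : Module.End K V) : Submodule K V := LinearMap.ker (T + 1)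

theorem mem_G {T : Module.End K V} {v : V} : v ∈ G T ↔ T v = -v := by
  unfold G
  rw [LinearMap.mem_ker, LinearMap.add_apply, Module.End.one_apply, add_eq_zero_iff_eq_neg]

theorem split [FiniteDimensional K V] (h2 : (2 : K) ≠ 0) {J : Module.End K V} (hJ : ∀ v, J (J v) = v)
    {W : Submodule K V} (hW : ∀ v ∈ W, J v ∈ W) :
    finrank K (W ⊓ F J : Submodule K V) + finrank K (W ⊓ G J : Submodule K V) = finrank K W := by
  have h1 : (W ⊓ F J) ⊔ (W ⊓ G J) = W := by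
    apply le_antisymm (sup_le inf_le_left inf_le_left)
    intro v hv
    have e : v = (2 : K)⁻¹ • (v + J v) + (2 : K)⁻¹ • (v - J v) := by
      rw [← smul_add, add_add_sub_cancel, ← two_smul K v, smul_smul, inv_mul_cancel₀ h2, one_smul]
    rw [e]
    refine Submodule.add_mem_sup ⟨W.smul_mem _ (W.add_mem hv (hW _ hv)), mem_F.2 ?_⟩
      ⟨W.smul_mem _ (W.sub_mem hv (hW _ hv)), mem_G.2 ?_⟩
    · rw [map_smul, map_add, hJ, add_comm]
    · rw [map_smul, map_sub, hJ, ← smul_neg, neg_sub]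
  have h0 : (W ⊓ F J) ⊓ (W ⊓ G J) = ⊥ := by
    rw [eq_bot_iff]
    rintro v ⟨⟨-, h3⟩, -, h4⟩
    rw [SetLike.mem_coe, mem_F] at h3
    rw [SetLike.mem_coe, mem_G, h3] at h4
    rw [Submodule.mem_bot]
    have : (2 : K) • v = 0 := by
      rw [two_smul]
      nth_rewrite 1 [h4]
      exact neg_add_cancel v
    exact (smul_eq_zero.1 this).resolve_left h2
  have := Submodule.finrank_sup_add_finrank_inf_eq (W ⊓ F J) (W ⊓ G J)
  rw [h1, h0, finrank_bot, add_zero] at this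
  exact this.symm

theorem finrank_le_maps [FiniteDimensional K V] {T : Module.End K V} (hT : Function.Injective T)
    {W W' : Submodule K V} (h : ∀ v ∈ W, T v ∈ W') : finrank K W ≤ finrank K W' := by
  have h1 : W.map T ≤ W' := by
    rintro _ ⟨v, hv, rfl⟩
    exact h v hv
  rw [(Submodule.equivMapOfInjective T hT W).finrank_eq]
  exact Submodule.finrank_mono h1

theorem exists_fix [FiniteDimensional K V] (h3 : (3 : K) = 0) {S : Module.End K V} (hS : ∀ v, S (S (S v)) = v)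
    {W : Submodule K V} (hW : ∀ v ∈ W, S v ∈ W) (h0 : 0 < finrank K W) :
    0 < finrank K (F S ⊓ W : Submodule K V) := by
  have key : ∃ v ∈ W, v ≠ 0 ∧ S v = v := by
    have hne : W ≠ ⊥ := by
      rintro rfl
      rw [finrank_bot] at h0
      exact lt_irrefl _ h0
    obtain ⟨v, hv, hv0⟩ := (Submodule.ne_bot_iff W).1 hne
    by_cases h1 : S v = v
    · exact ⟨v, hv, hv0, h1⟩
    have hv1 : S v - v ∈ W := W.sub_mem (hW _ hv) hv
    by_cases h2 : S (S v - v) = S v - v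
    · exact ⟨_, hv1, sub_ne_zero.2 h1, h2⟩
    refine ⟨S (S v - v) - (S v - v), W.sub_mem (hW _ hv1) hv1, sub_ne_zero.2 h2, ?_⟩
    have e : S (S (S v - v) - (S v - v)) - (S (S v - v) - (S v - v)) = (3 : K) • (S v - S (S v)) := by
      rw [← three_smul' (K := K)]
      simp only [map_sub, hS]
      abel
    rw [h3, zero_smul] at e
    exact sub_eq_zero.1 e
  obtain ⟨v, hv, hv0, h⟩ := key
  rw [Nat.pos_iff_ne_zero]
  intro h4
  have h5 := Submodule.finrank_eq_zero.1 h4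
  have h6 : v ∈ F S ⊓ W := ⟨mem_F.2 h, hv⟩
  rw [h5, Submodule.mem_bot] at h6
  exact hv0 h6

theorem four_le [FiniteDimensional K V] (h2 : (2 : K) ≠ 0) (h3 : (3 : K) = 0) (h5 : finrank K V = 5)
    {A B T S : Module.End K V} (hA : ∀ v, A (A v) = v) (hB : ∀ v, B (B v) = v) (hAB : ∀ v, A (B v) = B (A v))
    (hT : Function.Injective T) (hTA : ∀ v, T (A v) = B (T v)) (hTB : ∀ v, T (B v) = A (B (T v)))
    (hA1 : A ≠ 1) (hSA : ∀ v, S (A v) = A (S v)) (hSB : ∀ v, S (B v) = B (S v)) (hS : ∀ v, S (S (S v)) = v) :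
    4 ≤ finrank K (F S) := by
  have d1 : finrank K (F A ⊓ G B : Submodule K V) ≤ finrank K (G A ⊓ F B : Submodule K V) := by
    apply finrank_le_maps hT
    rintro v ⟨h, h'⟩
    rw [SetLike.mem_coe, mem_F] at h
    rw [SetLike.mem_coe, mem_G] at h'
    have e1 : B (T v) = T v := by rw [← hTA, h]
    have e2 : A (T v) = - T v := by
      conv_lhs => rw [← e1]
      rw [← hTB, h', map_neg]
    exact ⟨mem_G.2 e2, mem_F.2 e1⟩
  have d2 : finrank K (G A ⊓ F B : Submodule K V) ≤ finrank K (G A ⊓ G B : Submodule K V) := by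
    apply finrank_le_maps hT
    rintro v ⟨h, h'⟩
    rw [SetLike.mem_coe, mem_G] at h
    rw [SetLike.mem_coe, mem_F] at h'
    have e1 : B (T v) = - T v := by rw [← hTA, h, map_neg]
    have e2 : A (T v) = - T v := by
      have e3 := hTB v
      rw [h', e1, map_neg] at e3
      exact eq_neg_of_add_eq_zero_left (by rw [add_comm]; nth_rewrite 1 [e3]; exact neg_add_cancel _)
    exact ⟨mem_G.2 e2, mem_G.2 e1⟩
  have d3 : finrank K (G A ⊓ G B : Submodule K V) ≤ finrank K (F A ⊓ G B : Submodule K V) := by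
    apply finrank_le_maps hT
    rintro v ⟨h, h'⟩
    rw [SetLike.mem_coe, mem_G] at h
    rw [SetLike.mem_coe, mem_G] at h'
    have e1 : B (T v) = - T v := by rw [← hTA, h, map_neg]
    have e2 : A (T v) = T v := by
      have e3 := hTB v
      rw [h', e1, map_neg, map_neg] at e3
      exact (neg_inj.1 e3).symm
    exact ⟨mem_F.2 e2, mem_G.2 e1⟩
  have s1 := split h2 hA (W := ⊤) (fun _ _ => trivial)
  rw [top_inf_eq, top_inf_eq, finrank_top, h5] at s1
  have s2 := split h2 hB (W := F A) (fun v hv => mem_F.2 (by rw [hAB, mem_F.1 hv]))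
  have s3 := split h2 hB (W := G A) (fun v hv => mem_G.2 (by rw [hAB, mem_G.1 hv, map_neg]))
  have hpos : 0 < finrank K (G A) := by
    rw [Nat.pos_iff_ne_zero]
    intro h
    apply hA1
    have h1 := Submodule.finrank_eq_zero.1 h
    ext v
    have h4 : A v - v ∈ G A := by
      rw [mem_G, map_sub, hA, neg_sub]
    rw [h1, Submodule.mem_bot] at h4
    exact sub_eq_zero.1 h4
  have t1 := split h2 hA (W := F S) (fun v hv => mem_F.2 (by rw [hSA, mem_F.1 hv]))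
  have t2 := split h2 hB (W := F S ⊓ F A) (fun v hv => ⟨mem_F.2 (by rw [hSB, mem_F.1 hv.1]),
    mem_F.2 (by rw [hAB, mem_F.1 hv.2])⟩)
  have t3 := split h2 hB (W := F S ⊓ G A) (fun v hv => ⟨mem_F.2 (by rw [hSB, mem_F.1 hv.1]),
    mem_G.2 (by rw [hAB, mem_G.1 hv.2, map_neg])⟩)
  rw [inf_assoc, inf_assoc] at t2 t3
  have f00 := exists_fix h3 hS (W := F A ⊓ F B) (fun v hv => ⟨mem_F.2 (by rw [← hSA, mem_F.1 hv.1]),
    mem_F.2 (by rw [← hSB, mem_F.1 hv.2])⟩) (by omega)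
  have f01 := exists_fix h3 hS (W := F A ⊓ G B) (fun v hv => ⟨mem_F.2 (by rw [← hSA, mem_F.1 hv.1]),
    mem_G.2 (by rw [← hSB, mem_G.1 hv.2, map_neg])⟩) (by omega)
  have f10 := exists_fix h3 hS (W := G A ⊓ F B) (fun v hv => ⟨mem_G.2 (by rw [← hSA, mem_G.1 hv.1, map_neg]),
    mem_F.2 (by rw [← hSB, mem_F.1 hv.2])⟩) (by omega)
  have f11 := exists_fix h3 hS (W := G A ⊓ G B) (fun v hv => ⟨mem_G.2 (by rw [← hSA, mem_G.1 hv.1, map_neg]),
    mem_G.2 (by rw [← hSB, mem_G.1 hv.2, map_neg])⟩) (by omega)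
  omega

section

abbrev A7 := alternatingGroup (Fin 7)

theorem g1 : (D 0 1 3 4 : A7) = C 2 3 4 * D 0 1 2 3 * (C 2 3 4)⁻¹ := by decide
theorem g2 : (C 2 3 4 : A7) = D 0 1 2 3 * D 0 1 3 4 := by decide
theorem g3 : (D 0 1 2 3 * D 0 1 2 3 : A7) = 1 := by decide
theorem g4 : (D 1 2 0 3 * D 1 2 0 3 : A7) = 1 := by decide
theorem g5 : (D 0 1 2 3 * D 1 2 0 3 : A7) = D 1 2 0 3 * D 0 1 2 3 := by decide
theorem g6 : (C 0 1 2 * D 0 1 2 3 : A7) = D 1 2 0 3 * C 0 1 2 := by decide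
theorem g7 : (C 0 1 2 * D 1 2 0 3 : A7) = D 0 1 2 3 * D 1 2 0 3 * C 0 1 2 := by decide
theorem g8 : (C 4 5 6 * D 0 1 2 3 : A7) = D 0 1 2 3 * C 4 5 6 := by decide
theorem g9 : (C 4 5 6 * D 1 2 0 3 : A7) = D 1 2 0 3 * C 4 5 6 := by decide
theorem g10 : C 2 3 4 * C 0 1 2 * (C 2 3 4)⁻¹ = (C 0 1 3 : A7) := by decide
theorem g11 : C 2 3 4 * C 0 1 3 * (C 2 3 4)⁻¹ = (C 0 1 4 : A7) := by decide
theorem g12 : C 4 5 6 * C 0 1 4 * (C 4 5 6)⁻¹ = (C 0 1 5 : A7) := by decide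
theorem g13 : C 4 5 6 * C 0 1 5 * (C 4 5 6)⁻¹ = (C 0 1 6 : A7) := by decide

end

theorem key_three [FiniteDimensional K V] (h2 : (2 : K) ≠ 0) (h3 : (3 : K) = 0) (h5 : finrank K V = 5)
    {ρ : A7 →* Module.End K V} (hirr : Irr ρ) : 4 ≤ finrank K (F (ρ (C 4 5 6))) := by
  have hα : 5 ≤ Fintype.card (Fin 7) := by rw [Fintype.card_fin]; norm_num
  have rel : ∀ {g h k l : A7}, g * h = k * l → ∀ v, ρ g (ρ h v) = ρ k (ρ l v) := by
    intro g h k l e v
    rw [← ρ_mul_apply, ← ρ_mul_apply, e]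
  have rel1 : ∀ {g : A7}, g * g = 1 → ∀ v, ρ g (ρ g v) = v := by
    intro g e v
    rw [← ρ_mul_apply, e, map_one]
    rfl
  have c1 : ρ (C 2 3 4) ≠ 1 := ne_one hirr hα (by omega) (by decide) (by decide) (by decide)
  have hA1 : ρ (D 0 1 2 3) ≠ 1 := by
    intro h
    apply c1
    rw [g2, map_mul, g1, map_mul, map_mul, h, mul_one, one_mul, ← map_mul, mul_inv_cancel, map_one]
  refine four_le h2 h3 h5 (A := ρ (D 0 1 2 3)) (B := ρ (D 1 2 0 3)) (T := ρ (C 0 1 2)) (rel1 g3) (rel1 g4) (rel g5)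
    (inj ρ _) (rel g6) ?_ hA1 (rel g8) (rel g9) (cube ρ (by decide) (by decide) (by decide))
  intro v
  rw [← ρ_mul_apply, g7, ρ_mul_apply, ρ_mul_apply]

/-- characteristic 3 -/
theorem main_three [FiniteDimensional K V] (h3 : (3 : K) = 0) (h5 : finrank K V = 5)
    {ρ : A7 →* Module.End K V} (hirr : Irr ρ) : False := by
  have h2 : (2 : K) ≠ 0 := by
    intro h
    have h1 : (1 : K) = 0 := by
      have : (1 : K) = 3 - 2 := by norm_num
      rw [this, h3, h, sub_zero]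
    exact one_ne_zero h1
  have hα : 5 ≤ Fintype.card (Fin 7) := by rw [Fintype.card_fin]; norm_num
  have key := key_three h2 h3 h5 hirr
  have k2 : 4 ≤ finrank K (F (ρ (C 0 1 2))) := by
    rw [finrank_F_eq ρ hα (i := 4) (j := 5) (k := 6) (by decide) (by decide) (by decide) (by decide) (by decide)
      (by decide)]
    exact key
  have k3 : 4 ≤ finrank K (F (ρ (C 2 3 4))) := by
    rw [finrank_F_eq ρ hα (i := 4) (j := 5) (k := 6) (by decide) (by decide) (by decide) (by decide) (by decide)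
      (by decide)]
    exact key
  have e1 := Submodule.finrank_sup_add_finrank_inf_eq (F (ρ (C 0 1 2))) (F (ρ (C 2 3 4)))
  have e2 := Submodule.finrank_le (F (ρ (C 0 1 2)) ⊔ F (ρ (C 2 3 4)))
  have e3 := Submodule.finrank_sup_add_finrank_inf_eq (F (ρ (C 0 1 2)) ⊓ F (ρ (C 2 3 4))) (F (ρ (C 4 5 6)))
  have e4 := Submodule.finrank_le (F (ρ (C 0 1 2)) ⊓ F (ρ (C 2 3 4)) ⊔ F (ρ (C 4 5 6)))
  have e5 : 0 < finrank K (F (ρ (C 0 1 2)) ⊓ F (ρ (C 2 3 4)) ⊓ F (ρ (C 4 5 6)) : Submodule K V) := by omega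
  have e6 : F (ρ (C 0 1 2)) ⊓ F (ρ (C 2 3 4)) ⊓ F (ρ (C 4 5 6)) ≠ ⊥ := by
    intro h
    rw [h, finrank_bot] at e5
    exact lt_irrefl _ e5
  obtain ⟨v, ⟨⟨v1, v2⟩, v3⟩, hv0⟩ := (Submodule.ne_bot_iff _).1 e6
  rw [SetLike.mem_coe, mem_F] at v1 v2 v3
  have m1 : C 0 1 2 ∈ stabv ρ v := v1
  have m2 : C 2 3 4 ∈ stabv ρ v := v2
  have m3 : C 4 5 6 ∈ stabv ρ v := v3
  have hconj : ∀ g ∈ stabv ρ v, ∀ x ∈ stabv ρ v, g * x * g⁻¹ ∈ stabv ρ v := fun g hg x hx =>
    (stabv ρ v).mul_mem ((stabv ρ v).mul_mem hg hx) ((stabv ρ v).inv_mem hg)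
  have m4 : C 0 1 3 ∈ stabv ρ v := by
    have := hconj _ m2 _ m1
    rwa [g10] at this
  have m5 : C 0 1 4 ∈ stabv ρ v := by
    have := hconj _ m2 _ m4
    rwa [g11] at this
  have m6 : C 0 1 5 ∈ stabv ρ v := by
    have := hconj _ m3 _ m5
    rwa [g12] at this
  have m7 : C 0 1 6 ∈ stabv ρ v := by
    have := hconj _ m3 _ m6
    rwa [g13] at this
  refine false_of_stabv hirr (by omega) hv0 (eq_top_of_pair _ (a := 0) (b := 1) (by decide) ?_)
  intro k hk0 hk1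
  fin_cases k
  · exact absurd rfl hk0
  · exact absurd rfl hk1
  · exact m1
  · exact m4
  · exact m5
  · exact m6
  · exact m7

end Cfsg.Agent.H180.AltFive
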