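import Cfsg.Agent.H180.AltFive
import Cfsg.Agent.H180.AltFiveThree

/-!
# `A₇` (characteristic not 7) and `A₈` (characteristic 2) have no irreducible representation of degree 5

`Cfsg.Agent.H180.alt_five` (task 174).
-/

set_option autoImplicit false

namespace Cfsg.Agent.H180.AltFive

open Equiv Equiv.Perm Module

/-- the 7-cycle -/
def x7 : alternatingGroup (Fin 7) := C 0 1 2 * C 2 3 4 * C 4 5 6
/-- the multiplier -/
def z7 : alternatingGroup (Fin 7) := C 1 2 4 * C 3 6 5
/-- the 7-cycle -/
def x8 : alternatingGroup (Fin 8) := C 0 1 2 * C 2 3 4 * C 4 5 6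
/-- the multiplier -/
def z8 : alternatingGroup (Fin 8) := C 1 2 4 * C 3 6 5
/-- the inclusion -/
def a8 (i : Fin 7) : Fin 8 := i.castSucc

theorem a8_inj : Function.Injective a8 := Fin.castSucc_injective 7

theorem x7_apply : ∀ i : Fin 7, (x7 : Perm (Fin 7)) (id i) = id (i + 1) := by decide
set_option maxRecDepth 100000 in
theorem x7_pow : x7 ^ 7 = 1 := by decide
theorem z7_conj : z7 * x7 * z7⁻¹ = x7 ^ 2 := by decide
theorem x8_apply : ∀ i : Fin 7, (x8 : Perm (Fin 8)) (a8 i) = a8 (i + 1) := by decide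
set_option maxRecDepth 100000 in
theorem x8_pow : x8 ^ 7 = 1 := by decide
theorem z8_conj : z8 * x8 * z8⁻¹ = x8 ^ 2 := by decide

end Cfsg.Agent.H180.AltFive

namespace Cfsg.Agent.H180

open AltFive in
/-- **task 174** -/
theorem alt_five {n : ℕ} (hn : n = 7 ∨ n = 8) {K : Type*} [Field K] [IsAlgClosed K] {V : Type*} [AddCommGroup V] [Module K V]
    [FiniteDimensional K V] (h7 : (7 : K) ≠ 0) (hp : n = 7 ∨ (2 : K) = 0) (ρ : alternatingGroup (Fin n) →* Module.End K V)
    (hirr : Cfsg.Agent.H911.Irr ρ) (h5 : Module.finrank K V = 5) : False := by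
  rcases hn with rfl | rfl
  · by_cases h3 : (3 : K) = 0
    · exact main_three h3 h5 hirr
    · exact main h3 h7 h5 hirr (by rw [Fintype.card_fin]) id Function.injective_id x7 z7 x7_apply x7_pow z7_conj
  · have h2 : (2 : K) = 0 := hp.resolve_left (by decide)
    have h3 : (3 : K) ≠ 0 := by
      intro h3
      have h1 : (1 : K) = 0 := by
        have : (1 : K) = 3 - 2 := by norm_num
        rw [this, h3, h2, sub_zero]
      exact one_ne_zero h1
    exact main h3 h7 h5 hirr (by rw [Fintype.card_fin]; norm_num) a8 a8_inj x8 z8 x8_apply x8_pow z8_conj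

end Cfsg.Agent.H180
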