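import Mathlib

/-!
# Three-cycles of the alternating group

`C i j k` the three-cycle `i → j → k → i` in `alternatingGroup α`; `eq_top_of_pair`, `mem_of_fix_two`.
-/

set_option autoImplicit false
set_option linter.unusedSectionVars false
set_option linter.unusedVariables false

namespace Cfsg.Agent.H180.AltFive

open Equiv Equiv.Perm Subgroup

variable {α : Type*} [Fintype α] [DecidableEq α]

/-- the permutation `i → j → k → i` -/
def c (i j k : α) : Perm α := swap i j * swap j k

theorem sign_c {i j k : α} (hij : i ≠ j) (hjk : j ≠ k) : sign (c i j k) = 1 := by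
  unfold c
  rw [Perm.sign_mul, sign_swap hij, sign_swap hjk]
  decide

theorem c_conj (g : Perm α) (i j k : α) : g * c i j k * g⁻¹ = c (g i) (g j) (g k) := by
  unfold c
  rw [swap_apply_apply g i j, swap_apply_apply g j k]
  group

theorem c_apply_fst {i j k : α} (hij : i ≠ j) (hik : i ≠ k) : c i j k i = j := by
  unfold c
  rw [Perm.mul_apply, swap_apply_of_ne_of_ne hij hik, swap_apply_left]

theorem c_apply_snd {i j k : α} (hik : i ≠ k) (hjk : j ≠ k) : c i j k j = k := by
  unfold c
  rw [Perm.mul_apply, swap_apply_left, swap_apply_of_ne_of_ne hik.symm hjk.symm]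

theorem c_apply_trd {i j k : α} : c i j k k = i := by
  unfold c
  rw [Perm.mul_apply, swap_apply_right, swap_apply_right]

theorem c_apply_of_ne {i j k x : α} (h1 : x ≠ i) (h2 : x ≠ j) (h3 : x ≠ k) : c i j k x = x := by
  unfold c
  rw [Perm.mul_apply, swap_apply_of_ne_of_ne h2 h3, swap_apply_of_ne_of_ne h1 h2]

theorem c_inv (i j k : α) : (c i j k)⁻¹ = c k j i := by
  unfold c
  rw [mul_inv_rev, swap_inv, swap_inv, swap_comm j k, swap_comm i j]

theorem c_rot {i j k : α} (hij : i ≠ j) (hik : i ≠ k) (hjk : j ≠ k) : c i j k = c j k i := by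
  ext x
  by_cases h1 : x = i
  · subst h1
    rw [c_apply_fst hij hik, c_apply_trd]
  by_cases h2 : x = j
  · subst h2
    rw [c_apply_snd hik hjk, c_apply_fst hjk hij.symm]
  by_cases h3 : x = k
  · subst h3
    rw [c_apply_trd, c_apply_snd hij.symm hik.symm]
  · rw [c_apply_of_ne h1 h2 h3, c_apply_of_ne h2 h3 h1]

theorem c_cube {i j k : α} (hij : i ≠ j) (hik : i ≠ k) (hjk : j ≠ k) : c i j k * c i j k * c i j k = 1 := by
  ext x
  rw [Perm.mul_apply, Perm.mul_apply, Perm.one_apply]
  by_cases h1 : x = i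
  · subst h1
    rw [c_apply_fst hij hik, c_apply_snd hik hjk, c_apply_trd]
  by_cases h2 : x = j
  · subst h2
    rw [c_apply_snd hik hjk, c_apply_trd, c_apply_fst hij hik]
  by_cases h3 : x = k
  · subst h3
    rw [c_apply_trd, c_apply_fst hij hik, c_apply_snd hik hjk]
  · rw [c_apply_of_ne h1 h2 h3, c_apply_of_ne h1 h2 h3, c_apply_of_ne h1 h2 h3]

/-- the three-cycle in the alternating group -/
def C (i j k : α) : alternatingGroup α := if h : sign (c i j k) = 1 then ⟨c i j k, h⟩ else 1

theorem C_val {i j k : α} (hij : i ≠ j) (hjk : j ≠ k) : ((C i j k : alternatingGroup α) : Perm α) = c i j k := by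
  unfold C
  rw [dif_pos (sign_c hij hjk)]

/-- the double transposition in the alternating group -/
def D (i j k l : α) : alternatingGroup α :=
  if h : sign (swap i j * swap k l) = 1 then ⟨swap i j * swap k l, h⟩ else 1

theorem D_val {i j k l : α} (hij : i ≠ j) (hkl : k ≠ l) :
    ((D i j k l : alternatingGroup α) : Perm α) = swap i j * swap k l := by
  unfold D
  rw [dif_pos]
  rw [Perm.sign_mul, sign_swap hij, sign_swap hkl]
  decide

theorem C_conj (g : alternatingGroup α) {i j k : α} (hij : i ≠ j) (hjk : j ≠ k) :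
    g * C i j k * g⁻¹ = C ((g : Perm α) i) ((g : Perm α) j) ((g : Perm α) k) := by
  apply Subtype.ext
  have h1 : (g : Perm α) i ≠ (g : Perm α) j := fun h => hij ((g : Perm α).injective h)
  have h2 : (g : Perm α) j ≠ (g : Perm α) k := fun h => hjk ((g : Perm α).injective h)
  rw [Subgroup.coe_mul, Subgroup.coe_mul, Subgroup.coe_inv, C_val hij hjk, C_val h1 h2]
  exact c_conj _ _ _ _

theorem C_conj' {g : alternatingGroup α} {i j k i' j' k' : α} (hij : i ≠ j) (hjk : j ≠ k)
    (h1 : (g : Perm α) i = i') (h2 : (g : Perm α) j = j') (h3 : (g : Perm α) k = k') :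
    g * C i j k * g⁻¹ = C i' j' k' := by
  rw [C_conj g hij hjk, h1, h2, h3]

theorem C_inv {i j k : α} (hij : i ≠ j) (hjk : j ≠ k) : (C i j k)⁻¹ = C k j i := by
  apply Subtype.ext
  rw [Subgroup.coe_inv, C_val hij hjk, C_val hjk.symm hij.symm, c_inv]

theorem C_rot {i j k : α} (hij : i ≠ j) (hik : i ≠ k) (hjk : j ≠ k) : C i j k = C j k i := by
  apply Subtype.ext
  rw [C_val hij hjk, C_val hjk hik.symm, c_rot hij hik hjk]

theorem C_cube {i j k : α} (hij : i ≠ j) (hik : i ≠ k) (hjk : j ≠ k) : C i j k * C i j k * C i j k = 1 := by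
  apply Subtype.ext
  rw [Subgroup.coe_mul, Subgroup.coe_mul, C_val hij hjk, c_cube hij hik hjk]
  rfl

theorem exists_C {σ : alternatingGroup α} (h : (σ : Perm α).IsThreeCycle) :
    ∃ i j k : α, i ≠ j ∧ i ≠ k ∧ j ≠ k ∧ σ = C i j k := by
  obtain ⟨x, hx⟩ : ∃ x, x ∈ (σ : Perm α).support := by
    rw [← Finset.Nonempty]
    rw [← Finset.card_pos, h.card_support]
    norm_num
  have h1 := h.eq_swap_mul_swap_iff_mem_support.2 hx
  have h2 := h.nodup_iff_mem_support.2 hx
  simp only [List.nodup_cons, List.mem_cons, List.not_mem_nil, or_false, not_or, not_false_eq_true, List.nodup_nil,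
    and_true] at h2
  refine ⟨x, (σ : Perm α) x, (σ : Perm α) ((σ : Perm α) x), h2.1.1, h2.1.2, h2.2, ?_⟩
  apply Subtype.ext
  rw [C_val h2.1.1 h2.2]
  exact h1

/-- **generation by the three-cycles through two points** -/
theorem eq_top_of_pair (H : Subgroup (alternatingGroup α)) {a b : α} (hab : a ≠ b)
    (h : ∀ k, k ≠ a → k ≠ b → C a b k ∈ H) : H = ⊤ := by
  have hconj : ∀ g ∈ H, ∀ x ∈ H, g * x * g⁻¹ ∈ H := fun g hg x hx => H.mul_mem (H.mul_mem hg hx) (H.inv_mem hg)
  -- `b i j`
  have h1 : ∀ i j, i ≠ a → i ≠ b → j ≠ a → j ≠ b → i ≠ j → C b i j ∈ H := by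
    intro i j hia hib hja hjb hij
    rw [← C_conj' (g := C a b i) (i := a) (j := b) (k := j) hab hjb.symm]
    · exact hconj _ (h i hia hib) _ (h j hja hjb)
    · rw [C_val hab hib.symm, c_apply_fst hab hia.symm]
    · rw [C_val hab hib.symm, c_apply_snd hia.symm hib.symm]
    · rw [C_val hab hib.symm, c_apply_of_ne hja hjb hij.symm]
  -- `i a j`
  have h2 : ∀ i j, i ≠ a → i ≠ b → j ≠ a → j ≠ b → i ≠ j → C i a j ∈ H := by
    intro i j hia hib hja hjb hij
    rw [← C_conj' (g := (C a b i)⁻¹) (i := a) (j := b) (k := j) hab hjb.symm]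
    · exact hconj _ (H.inv_mem (h i hia hib)) _ (h j hja hjb)
    · rw [C_inv hab hib.symm, C_val hib hab.symm, c_apply_trd]
    · rw [C_inv hab hib.symm, C_val hib hab.symm, c_apply_snd hia hab.symm]
    · rw [C_inv hab hib.symm, C_val hib hab.symm, c_apply_of_ne hij.symm hjb hja]
  -- `k i j`
  have h3 : ∀ i j k, i ≠ a → i ≠ b → j ≠ a → j ≠ b → k ≠ a → k ≠ b → i ≠ j → i ≠ k → j ≠ k → C k i j ∈ H := by
    intro i j k hia hib hja hjb hka hkb hij hik hjk
    rw [← C_conj' (g := C a b k) (i := b) (j := i) (k := j) hib.symm hij]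
    · exact hconj _ (h k hka hkb) _ (h1 i j hia hib hja hjb hij)
    · rw [C_val hab hkb.symm, c_apply_snd hka.symm hkb.symm]
    · rw [C_val hab hkb.symm, c_apply_of_ne hia hib hik]
    · rw [C_val hab hkb.symm, c_apply_of_ne hja hjb hjk]
  rw [eq_top_iff, ← alternatingGroup.closure_isThreeCycles_eq_top, Subgroup.closure_le]
  intro σ hσ
  obtain ⟨i, j, k, hij, hik, hjk, rfl⟩ := exists_C hσ
  show C i j k ∈ H
  -- cases with `i = a`
  have ca : ∀ j k, j ≠ a → k ≠ a → j ≠ k → C a j k ∈ H := by
    intro j k hja hka hjk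
    by_cases hjb : j = b
    · subst hjb; exact h k hka hjk.symm
    by_cases hkb : k = b
    · subst hkb
      have e : C a j k = (C a k j)⁻¹ := by
        rw [C_inv hab hjk.symm]
        exact C_rot hja.symm hka.symm hjk
      rw [e]
      exact H.inv_mem (h j hja hjb)
    · have e : C a j k = C k a j := (C_rot hka hjk.symm hja.symm).symm
      rw [e]
      exact h2 k j hka hkb hja hjb hjk.symm
  have cb : ∀ j k, j ≠ b → k ≠ b → j ≠ k → C b j k ∈ H := by
    intro j k hjb hkb hjk
    by_cases hja : j = a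
    · subst hja
      rw [C_rot hjb.symm hkb.symm hjk]
      exact ca k b hjk.symm hjb.symm hkb
    by_cases hka : k = a
    · subst hka
      rw [C_rot hjb.symm hkb.symm hjk, C_rot hjk hjb hkb]
      exact ca b j hkb.symm hjk hjb.symm
    exact h1 j k hja hjb hka hkb hjk
  by_cases hia : i = a
  · subst hia; exact ca j k hij.symm hik.symm hjk
  by_cases hja : j = a
  · subst hja
    rw [C_rot hij hik hjk]
    exact ca k i hjk.symm hij hik.symm
  by_cases hka : k = a
  · subst hka
    rw [C_rot hij hik hjk, C_rot hjk hij.symm hik.symm]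
    exact ca i j hik hjk hij
  by_cases hib : i = b
  · subst hib; exact cb j k hij.symm hik.symm hjk
  by_cases hjb : j = b
  · subst hjb
    rw [C_rot hij hik hjk]
    exact cb k i hjk.symm hij hik.symm
  by_cases hkb : k = b
  · subst hkb
    rw [C_rot hij hik hjk, C_rot hjk hij.symm hik.symm]
    exact cb i j hik hjk hij
  exact h3 j k i hja hjb hka hkb hia hib hjk hij.symm hik.symm

/-- an even permutation fixing `a` and `b` is in every subgroup containing the three-cycles off `a`, `b` -/
theorem mem_of_fix_two (H : Subgroup (alternatingGroup α)) {a b : α}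
    (h : ∀ i j k, i ≠ a → i ≠ b → j ≠ a → j ≠ b → k ≠ a → k ≠ b → i ≠ j → i ≠ k → j ≠ k → C i j k ∈ H)
    {g : alternatingGroup α} (hga : (g : Perm α) a = a) (hgb : (g : Perm α) b = b) : g ∈ H := by
  set s : Finset α := Finset.univ.filter fun x => x ≠ a ∧ x ≠ b with hs
  have h1 : g ∈ (alternatingGroup.ofSubtype s).range := by
    rw [alternatingGroup.mem_range_ofSubtype_iff]
    intro x hx
    rw [hs, Finset.mem_filter]
    rw [mem_support] at hx
    refine ⟨Finset.mem_univ _, ?_, ?_⟩
    · rintro rfl; exact hx hga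
    · rintro rfl; exact hx hgb
  obtain ⟨g', rfl⟩ := h1
  have h2 : (⊤ : Subgroup (alternatingGroup s)) ≤ H.comap (alternatingGroup.ofSubtype s) := by
    rw [← alternatingGroup.closure_isThreeCycles_eq_top, Subgroup.closure_le]
    intro σ hσ
    rw [SetLike.mem_coe, Subgroup.mem_comap]
    have h3 : ((alternatingGroup.ofSubtype s σ : alternatingGroup α) : Perm α).IsThreeCycle := by
      rw [alternatingGroup.coe_ofSubtype]
      unfold IsThreeCycle
      have hσ' : (σ : Perm s).cycleType = {3} := hσ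
      rw [← hσ', Equiv.Perm.cycleType_ofSubtype]
    obtain ⟨i, j, k, hij, hik, hjk, e⟩ := exists_C h3
    have hsup : ((alternatingGroup.ofSubtype s σ : alternatingGroup α) : Perm α).support ⊆ s := by
      rw [← alternatingGroup.mem_range_ofSubtype_iff]
      exact ⟨σ, rfl⟩
    rw [e] at hsup ⊢
    rw [C_val hij hjk] at hsup
    have hi : i ∈ s := hsup (by rw [mem_support, c_apply_fst hij hik]; exact hij.symm)
    have hj : j ∈ s := hsup (by rw [mem_support, c_apply_snd hik hjk]; exact hjk.symm)
    have hk : k ∈ s := hsup (by rw [mem_support, c_apply_trd]; exact hik)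
    rw [hs, Finset.mem_filter] at hi hj hk
    exact h i j k hi.2.1 hi.2.2 hj.2.1 hj.2.2 hk.2.1 hk.2.2 hij hik hjk
  exact h2 (Subgroup.mem_top g')

/-- an even permutation with given values, two more points being free -/
theorem exists_even {m : ℕ} (hm : m + 2 ≤ Fintype.card α) (x y : Fin m → α) (hx : Function.Injective x)
    (hy : Function.Injective y) : ∃ g : alternatingGroup α, ∀ i, (g : Perm α) (x i) = y i := by
  obtain ⟨σ, hσ⟩ := Equiv.Perm.exists_extending_pair x y hx hy
  rcases Int.units_eq_one_or (sign σ) with h | h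
  · exact ⟨⟨σ, h⟩, hσ⟩
  · have hcard : 1 < (Finset.univ.image x)ᶜ.card := by
      rw [Finset.card_compl, Finset.card_image_of_injective _ hx, Finset.card_univ, Fintype.card_fin]
      omega
    obtain ⟨a, ha, b, hb, hab⟩ := Finset.one_lt_card.1 hcard
    rw [Finset.mem_compl, Finset.mem_image] at ha hb
    refine ⟨⟨σ * swap a b, ?_⟩, ?_⟩
    · rw [mem_alternatingGroup, Perm.sign_mul, h, sign_swap hab]
      decide
    · intro i
      show σ (swap a b (x i)) = y i
      rw [swap_apply_of_ne_of_ne, hσ i]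
      · rintro rfl; exact ha ⟨i, Finset.mem_univ _, rfl⟩
      · rintro rfl; exact hb ⟨i, Finset.mem_univ _, rfl⟩

end Cfsg.Agent.H180.AltFive
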