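import Cfsg.Agent.H180.AltFiveOp
import Cfsg.Agent.H180.AltFiveGrp

/-!
# No irreducible representation of degree 5 of `A_n`, `n ≥ 7`, in characteristic prime to 21
-/

set_option autoImplicit false
set_option linter.unusedSectionVars false
set_option linter.unusedVariables false

namespace Cfsg.Agent.H180.AltFive

open Equiv Equiv.Perm Module
open Cfsg.Agent.H911 (Irr ρ_mul_apply ρ_inv_apply ρ_apply_inv)

variable {α : Type*} [Fintype α] [DecidableEq α]
variable {K : Type*} [Field K] {V : Type*} [AddCommGroup V] [Module K V] [FiniteDimensional K V]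
variable (ρ : alternatingGroup α →* Module.End K V)

theorem inj (g : alternatingGroup α) : Function.Injective (ρ g) := by
  intro v w h
  rw [← ρ_inv_apply ρ g v, h, ρ_inv_apply]

theorem conj_apply (g x : alternatingGroup α) (v : V) : ρ (g * x * g⁻¹) (ρ g v) = ρ g (ρ x v) := by
  rw [← ρ_mul_apply, ← ρ_mul_apply, inv_mul_cancel_right]

theorem cube {i j k : α} (hij : i ≠ j) (hik : i ≠ k) (hjk : j ≠ k) (v : V) :
    ρ (C i j k) (ρ (C i j k) (ρ (C i j k) v)) = v := by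
  rw [← ρ_mul_apply, ← ρ_mul_apply, C_cube hij hik hjk, map_one]
  rfl

theorem mem_F_conj (g x : alternatingGroup α) (v : V) : ρ g v ∈ F (ρ (g * x * g⁻¹)) ↔ v ∈ F (ρ x) := by
  rw [mem_F, mem_F, conj_apply]
  exact (inj ρ g).eq_iff

theorem mem_R_conj (g x : alternatingGroup α) (v : V) : ρ g v ∈ R (ρ (g * x * g⁻¹)) ↔ v ∈ R (ρ x) := by
  rw [mem_R, mem_R, conj_apply, conj_apply, ← map_add, ← map_add]
  constructor
  · intro h
    exact inj ρ g (by rw [h, map_zero])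
  · intro h
    rw [h, map_zero]

theorem F_map (g x : alternatingGroup α) : (F (ρ x)).map (ρ g) = F (ρ (g * x * g⁻¹)) := by
  ext v
  rw [Submodule.mem_map]
  constructor
  · rintro ⟨w, hw, rfl⟩
    exact (mem_F_conj ρ g x w).2 hw
  · intro hv
    refine ⟨ρ g⁻¹ v, ?_, ρ_apply_inv ρ g v⟩
    rw [← mem_F_conj ρ g x, ρ_apply_inv]
    exact hv

theorem R_map (g x : alternatingGroup α) : (R (ρ x)).map (ρ g) = R (ρ (g * x * g⁻¹)) := by
  ext v
  rw [Submodule.mem_map]
  constructor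
  · rintro ⟨w, hw, rfl⟩
    exact (mem_R_conj ρ g x w).2 hw
  · intro hv
    refine ⟨ρ g⁻¹ v, ?_, ρ_apply_inv ρ g v⟩
    rw [← mem_R_conj ρ g x, ρ_apply_inv]
    exact hv

theorem finrank_F_conj (g x : alternatingGroup α) : finrank K (F (ρ (g * x * g⁻¹))) = finrank K (F (ρ x)) := by
  rw [← F_map]
  exact (Submodule.equivMapOfInjective (ρ g) (inj ρ g) _).finrank_eq.symm

theorem finrank_R_conj (g x : alternatingGroup α) : finrank K (R (ρ (g * x * g⁻¹))) = finrank K (R (ρ x)) := by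
  rw [← R_map]
  exact (Submodule.equivMapOfInjective (ρ g) (inj ρ g) _).finrank_eq.symm

/-- inverse three-cycles have the same `R` -/
theorem R_inv {x : alternatingGroup α} (hx : x * x * x = 1) : R (ρ x⁻¹) = R (ρ x) := by
  have e : x⁻¹ = x * x := inv_eq_of_mul_eq_one_left hx
  ext v
  rw [mem_R, mem_R, e, ρ_mul_apply, ρ_mul_apply]
  have h1 : ρ x (ρ x (ρ x (ρ x v))) = ρ x v := by
    rw [← ρ_mul_apply, ← ρ_mul_apply, ← ρ_mul_apply, show x * x * x * x = x by rw [hx, one_mul]]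
  rw [h1, add_right_comm]

theorem R_swap {i j k : α} (hij : i ≠ j) (hik : i ≠ k) (hjk : j ≠ k) : R (ρ (C j i k)) = R (ρ (C i j k)) := by
  have h := R_inv ρ (C_cube hij hik hjk)
  rw [C_inv hij hjk] at h
  rw [← h, C_rot hjk.symm hik.symm hij.symm]

/-- an element exchanging `i` and `j` and fixing `k` inverts the three-cycle -/
theorem inv_of_swap {g : alternatingGroup α} {i j k : α} (hij : i ≠ j) (hik : i ≠ k) (hjk : j ≠ k)
    (h1 : (g : Perm α) i = j) (h2 : (g : Perm α) j = i) (h3 : (g : Perm α) k = k) :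
    g * C i j k * g⁻¹ = C i j k * C i j k := by
  rw [C_conj' hij hjk h1 h2 h3]
  have e : C i j k * C i j k = (C i j k)⁻¹ := (inv_eq_of_mul_eq_one_left (C_cube hij hik hjk)).symm
  rw [e, C_inv hij hjk, C_rot hjk.symm hik.symm hij.symm]

theorem swap_rel {g : alternatingGroup α} {i j k : α} (hij : i ≠ j) (hik : i ≠ k) (hjk : j ≠ k)
    (h1 : (g : Perm α) i = j) (h2 : (g : Perm α) j = i) (h3 : (g : Perm α) k = k) (v : V) :
    ρ g (ρ (C i j k) v) = ρ (C i j k) (ρ (C i j k) (ρ g v)) := by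
  rw [← conj_apply, inv_of_swap hij hik hjk h1 h2 h3, ρ_mul_apply]

theorem comm_rel {i j k l m n : α} (hij : i ≠ j) (hik : i ≠ k) (hjk : j ≠ k) (hlm : l ≠ m) (hln : l ≠ n)
    (hmn : m ≠ n) (hil : i ≠ l) (him : i ≠ m) (hin : i ≠ n) (hjl : j ≠ l) (hjm : j ≠ m) (hjn : j ≠ n)
    (hkl : k ≠ l) (hkm : k ≠ m) (hkn : k ≠ n) (v : V) :
    ρ (C i j k) (ρ (C l m n) v) = ρ (C l m n) (ρ (C i j k) v) := by
  rw [← conj_apply]
  congr 2
  rw [C_conj' (g := C i j k) (i := l) (j := m) (k := n) (i' := l) (j' := m) (k' := n) hlm hmn]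
  · rw [C_val hij hjk, c_apply_of_ne hil.symm hjl.symm hkl.symm]
  · rw [C_val hij hjk, c_apply_of_ne him.symm hjm.symm hkm.symm]
  · rw [C_val hij hjk, c_apply_of_ne hin.symm hjn.symm hkn.symm]

theorem exists_points {s : Finset α} (hs : s.card + 3 ≤ Fintype.card α) :
    ∃ l m n : α, l ∉ s ∧ m ∉ s ∧ n ∉ s ∧ l ≠ m ∧ l ≠ n ∧ m ≠ n := by
  have h : 2 < sᶜ.card := by
    rw [Finset.card_compl]
    omega
  obtain ⟨l, hl, m, hm, n, hn, h1, h2, h3⟩ := Finset.two_lt_card.1 h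
  rw [Finset.mem_compl] at hl hm hn
  exact ⟨l, m, n, hl, hm, hn, h1, h2, h3⟩

theorem exists_points_two {s : Finset α} (hs : s.card + 2 ≤ Fintype.card α) :
    ∃ l m : α, l ∉ s ∧ m ∉ s ∧ l ≠ m := by
  have h : 1 < sᶜ.card := by
    rw [Finset.card_compl]
    omega
  obtain ⟨l, hl, m, hm, h1⟩ := Finset.one_lt_card.1 h
  rw [Finset.mem_compl] at hl hm
  exact ⟨l, m, hl, hm, h1⟩

theorem exists_point {s : Finset α} (hs : s.card + 1 ≤ Fintype.card α) : ∃ l : α, l ∉ s := by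
  have h : 0 < sᶜ.card := by
    rw [Finset.card_compl]
    omega
  obtain ⟨l, hl⟩ := Finset.card_pos.1 h
  exact ⟨l, Finset.mem_compl.1 hl⟩

/-- the stabilizer of a subspace -/
def stab (W : Submodule K V) : Subgroup (alternatingGroup α) where
  carrier := {g | ∀ v, ρ g v ∈ W ↔ v ∈ W}
  one_mem' := fun v => by rw [map_one]; rfl
  mul_mem' := fun {g h} hg hh v => by rw [ρ_mul_apply, hg, hh]
  inv_mem' := fun {g} hg v => by rw [← hg, ρ_apply_inv]

theorem mem_stab {W : Submodule K V} {g : alternatingGroup α} : g ∈ stab ρ W ↔ ∀ v, ρ g v ∈ W ↔ v ∈ W := Iff.rfl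

/-- the stabilizer of a vector -/
def stabv (v : V) : Subgroup (alternatingGroup α) where
  carrier := {g | ρ g v = v}
  one_mem' := by
    show ρ 1 v = v
    rw [map_one]; rfl
  mul_mem' := fun {g h} hg hh => by
    have hg' : ρ g v = v := hg
    have hh' : ρ h v = v := hh
    show ρ (g * h) v = v
    rw [ρ_mul_apply, hh', hg']
  inv_mem' := fun {g} hg => by
    have hg' : ρ g v = v := hg
    show ρ g⁻¹ v = v
    conv_lhs => rw [← hg']
    exact ρ_inv_apply ρ g v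

theorem mem_stabv {v : V} {g : alternatingGroup α} : g ∈ stabv ρ v ↔ ρ g v = v := Iff.rfl

theorem false_of_stab {ρ : alternatingGroup α →* Module.End K V} (hirr : Irr ρ) {W : Submodule K V}
    (h0 : 0 < finrank K W) (h1 : finrank K W < finrank K V) (h : stab ρ W = ⊤) : False := by
  rcases hirr W (fun g v hv => by
    have hg : g ∈ stab ρ W := by rw [h]; trivial
    exact (hg v).2 hv) with h2 | h2
  · rw [h2, finrank_bot] at h0
    exact lt_irrefl _ h0
  · rw [h2, finrank_top] at h1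
    exact lt_irrefl _ h1

theorem false_of_stabv {ρ : alternatingGroup α →* Module.End K V} (hirr : Irr ρ) (h1 : 1 < finrank K V) {v : V}
    (hv : v ≠ 0) (h : stabv ρ v = ⊤) : False := by
  have h2 : finrank K (K ∙ v) = 1 := finrank_span_singleton hv
  refine false_of_stab hirr (W := K ∙ v) (by omega) (by omega) ?_
  rw [eq_top_iff]
  intro g _
  have hg : g ∈ stabv ρ v := by rw [h]; trivial
  rw [mem_stabv] at hg
  rw [mem_stab]
  intro w
  constructor
  · intro hw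
    obtain ⟨c, hc⟩ := Submodule.mem_span_singleton.1 hw
    refine Submodule.mem_span_singleton.2 ⟨c, inj ρ g ?_⟩
    rw [map_smul, hg, hc]
  · intro hw
    obtain ⟨c, rfl⟩ := Submodule.mem_span_singleton.1 hw
    rw [map_smul, hg]
    exact Submodule.smul_mem _ _ (Submodule.mem_span_singleton_self v)

theorem C_mem_stab_R {i j k : α} (hij : i ≠ j) (hik : i ≠ k) (hjk : j ≠ k) : C i j k ∈ stab ρ (R (ρ (C i j k))) := by
  intro v
  rw [mem_R, mem_R, ← map_add, ← map_add]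
  constructor
  · intro h
    exact inj ρ _ (by rw [h, map_zero])
  · intro h
    rw [h, map_zero]

/-- an element mapping `x` to `y` with `R x = W`, `R y = W` is in the stabilizer of `W` -/
theorem mem_stab_of {g x y : alternatingGroup α} {W : Submodule K V} (h : g * x * g⁻¹ = y) (hx : R (ρ x) = W)
    (hy : R (ρ y) = W) : g ∈ stab ρ W := by
  intro v
  rw [← hx, ← mem_R_conj ρ g x v, h, hy, hx]

theorem mem_stab_of_le_F {x : alternatingGroup α} {W : Submodule K V} (h : W ≤ F (ρ x)) : x ∈ stab ρ W := by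
  intro v
  constructor
  · intro hv
    have h1 := mem_F.1 (h hv)
    have h2 : ρ x v = v := inj ρ x h1
    rwa [h2] at hv
  · intro hv
    rw [mem_F.1 (h hv)]
    exact hv

/-! ### nontriviality, ranks -/

theorem exists_three (hα : 5 ≤ Fintype.card α) {i j k i' j' k' : α} (hij : i ≠ j) (hik : i ≠ k) (hjk : j ≠ k)
    (hij' : i' ≠ j') (hik' : i' ≠ k') (hjk' : j' ≠ k') :
    ∃ g : alternatingGroup α, (g : Perm α) i = i' ∧ (g : Perm α) j = j' ∧ (g : Perm α) k = k' := by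
  have h1 : Function.Injective ![i, j, k] := by
    intro a b hab
    fin_cases a <;> fin_cases b <;> first | rfl | (exfalso; revert hab; simp; intro h; first | exact hij h | exact hij h.symm | exact hik h | exact hik h.symm | exact hjk h | exact hjk h.symm)
  have h2 : Function.Injective ![i', j', k'] := by
    intro a b hab
    fin_cases a <;> fin_cases b <;> first | rfl | (exfalso; revert hab; simp; intro h; first | exact hij' h | exact hij' h.symm | exact hik' h | exact hik' h.symm | exact hjk' h | exact hjk' h.symm)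
  obtain ⟨g, hg⟩ := exists_even (m := 3) (by omega) _ _ h1 h2
  exact ⟨g, hg 0, hg 1, hg 2⟩

theorem exists_two (hα : 5 ≤ Fintype.card α) {i j i' j' : α} (hij : i ≠ j) (hij' : i' ≠ j') :
    ∃ g : alternatingGroup α, (g : Perm α) i = i' ∧ (g : Perm α) j = j' := by
  obtain ⟨k, hk⟩ := exists_point (s := {i, j}) (by have := Finset.card_le_two (a := i) (b := j); omega)
  obtain ⟨k', hk'⟩ := exists_point (s := {i', j'}) (by have := Finset.card_le_two (a := i') (b := j'); omega)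
  simp only [Finset.mem_insert, Finset.mem_singleton, not_or] at hk hk'
  obtain ⟨g, h1, h2, -⟩ := exists_three hα hij (Ne.symm hk.1) (Ne.symm hk.2) hij' (Ne.symm hk'.1) (Ne.symm hk'.2)
  exact ⟨g, h1, h2⟩

theorem finrank_F_eq (hα : 5 ≤ Fintype.card α) {i j k i' j' k' : α} (hij : i ≠ j) (hik : i ≠ k) (hjk : j ≠ k)
    (hij' : i' ≠ j') (hik' : i' ≠ k') (hjk' : j' ≠ k') :
    finrank K (F (ρ (C i' j' k'))) = finrank K (F (ρ (C i j k))) := by
  obtain ⟨g, h1, h2, h3⟩ := exists_three hα hij hik hjk hij' hik' hjk'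
  rw [← C_conj' hij hjk h1 h2 h3, finrank_F_conj]

theorem ne_one {ρ : alternatingGroup α →* Module.End K V} (hirr : Irr ρ) (hα : 5 ≤ Fintype.card α)
    (h1 : 1 < finrank K V) {i j k : α} (hij : i ≠ j) (hik : i ≠ k) (hjk : j ≠ k) : ρ (C i j k) ≠ 1 := by
  intro h
  have h2 : ∀ g : alternatingGroup α, ρ g = 1 := by
    have h3 : (⊤ : Subgroup (alternatingGroup α)) ≤ ρ.ker := by
      rw [← alternatingGroup.closure_isThreeCycles_eq_top, Subgroup.closure_le]
      intro σ hσ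
      obtain ⟨i', j', k', hij', hik', hjk', rfl⟩ := exists_C hσ
      obtain ⟨g, e1, e2, e3⟩ := exists_three hα hij hik hjk hij' hik' hjk'
      rw [SetLike.mem_coe, MonoidHom.mem_ker, ← C_conj' hij hjk e1 e2 e3, map_mul, map_mul, h, mul_one, ← map_mul,
        mul_inv_cancel, map_one]
    exact fun g => h3 (Subgroup.mem_top g)
  have : Nontrivial V := Module.nontrivial_of_finrank_pos (R := K) (by omega)
  obtain ⟨v, hv⟩ := exists_ne (0 : V)
  refine false_of_stabv hirr h1 hv ?_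
  rw [eq_top_iff]
  intro g _
  rw [mem_stabv, h2 g]
  rfl

/-- the rank dichotomy -/
theorem rank_cases [IsAlgClosed K] (h3 : (3 : K) ≠ 0) (h5 : finrank K V = 5)
    {ρ : alternatingGroup α →* Module.End K V} (hirr : Irr ρ) (hα : 5 ≤ Fintype.card α)
    {i j k : α} (hij : i ≠ j) (hik : i ≠ k) (hjk : j ≠ k) :
    (finrank K (F (ρ (C i j k))) = 1 ∧ finrank K (R (ρ (C i j k))) = 4) ∨
      (finrank K (F (ρ (C i j k))) = 3 ∧ finrank K (R (ρ (C i j k))) = 2) := by
  obtain ⟨g, e1, e2, e3⟩ := exists_three hα hij hik hjk hij.symm hjk hik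
  refine ranks h3 h5 (h := ρ g) (h' := ρ g⁻¹) ?_ (ne_one hirr hα (by omega) hij hik hjk) ?_ ?_
  · rw [pow_succ, pow_two, ← map_mul, ← map_mul, C_cube hij hik hjk, map_one]
  · rw [← map_mul, inv_mul_cancel, map_one]
  · rw [← map_mul, ← map_mul, inv_of_swap hij hik hjk e1 e2 e3, map_mul, pow_two]

/-- the element exchanging `i`, `j` and `l`, `m` -/
theorem D_fst {i j l m : α} (hij : i ≠ j) (hlm : l ≠ m) (hil : i ≠ l) (him : i ≠ m) :
    ((D i j l m : alternatingGroup α) : Perm α) i = j := by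
  rw [D_val hij hlm, Perm.mul_apply, swap_apply_of_ne_of_ne hil him, swap_apply_left]

theorem D_snd {i j l m : α} (hij : i ≠ j) (hlm : l ≠ m) (hjl : j ≠ l) (hjm : j ≠ m) :
    ((D i j l m : alternatingGroup α) : Perm α) j = i := by
  rw [D_val hij hlm, Perm.mul_apply, swap_apply_of_ne_of_ne hjl hjm, swap_apply_right]

theorem D_trd {i j l m : α} (hij : i ≠ j) (hlm : l ≠ m) (him : i ≠ m) (hjm : j ≠ m) :
    ((D i j l m : alternatingGroup α) : Perm α) l = m := by
  rw [D_val hij hlm, Perm.mul_apply, swap_apply_left, swap_apply_of_ne_of_ne him.symm hjm.symm]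

theorem D_fth {i j l m : α} (hij : i ≠ j) (hlm : l ≠ m) (hil : i ≠ l) (hjl : j ≠ l) :
    ((D i j l m : alternatingGroup α) : Perm α) m = l := by
  rw [D_val hij hlm, Perm.mul_apply, swap_apply_right, swap_apply_of_ne_of_ne hil.symm hjl.symm]

theorem D_of_ne {i j l m x : α} (hij : i ≠ j) (hlm : l ≠ m) (hi : x ≠ i) (hj : x ≠ j) (hl : x ≠ l) (hm : x ≠ m) :
    ((D i j l m : alternatingGroup α) : Perm α) x = x := by
  rw [D_val hij hlm, Perm.mul_apply, swap_apply_of_ne_of_ne hl hm, swap_apply_of_ne_of_ne hi hj]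

/-- six distinct points -/
structure Six (i j k l m n : α) : Prop where
  hij : i ≠ j
  hik : i ≠ k
  hjk : j ≠ k
  hlm : l ≠ m
  hln : l ≠ n
  hmn : m ≠ n
  hil : i ≠ l
  him : i ≠ m
  hin : i ≠ n
  hjl : j ≠ l
  hjm : j ≠ m
  hjn : j ≠ n
  hkl : k ≠ l
  hkm : k ≠ m
  hkn : k ≠ n

theorem Six.swap {i j k l m n : α} (S : Six i j k l m n) : Six l m n i j k :=
  ⟨S.hlm, S.hln, S.hmn, S.hij, S.hik, S.hjk, S.hil.symm, S.hjl.symm, S.hkl.symm, S.him.symm, S.hjm.symm, S.hkm.symm,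
    S.hin.symm, S.hjn.symm, S.hkn.symm⟩

theorem six_caseB (h3 : (3 : K) ≠ 0) {i j k l m n : α} (S : Six i j k l m n)
    (hF : finrank K (F (ρ (C i j k))) = 1) : F (ρ (C i j k)) ≤ F (ρ (C l m n)) := by
  refine caseB h3 (h := ρ (D i j l m)) (cube ρ S.hij S.hik S.hjk) (cube ρ S.hlm S.hln S.hmn) ?_ (inj ρ _) ?_ ?_ hF
  · exact comm_rel ρ S.hij S.hik S.hjk S.hlm S.hln S.hmn S.hil S.him S.hin S.hjl S.hjm S.hjn S.hkl S.hkm S.hkn
  · exact swap_rel ρ S.hij S.hik S.hjk (D_fst S.hij S.hlm S.hil S.him) (D_snd S.hij S.hlm S.hjl S.hjm)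
      (D_of_ne S.hij S.hlm S.hik.symm S.hjk.symm S.hkl S.hkm)
  · exact swap_rel ρ S.hlm S.hln S.hmn (D_trd S.hij S.hlm S.him S.hjm) (D_fth S.hij S.hlm S.hil S.hjl)
      (D_of_ne S.hij S.hlm S.hin.symm S.hjn.symm S.hln.symm S.hmn.symm)

theorem six_caseA (h3 : (3 : K) ≠ 0) {i j k l m n : α} (S : Six i j k l m n)
    (hR : finrank K (R (ρ (C i j k))) = 2) :
    R (ρ (C i j k)) ≤ F (ρ (C l m n)) ∨ R (ρ (C i j k)) ≤ R (ρ (C l m n)) := by
  refine caseA h3 (h := ρ (D i j l m)) (cube ρ S.hij S.hik S.hjk) (cube ρ S.hlm S.hln S.hmn) ?_ (inj ρ _) ?_ ?_ hR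
  · exact comm_rel ρ S.hij S.hik S.hjk S.hlm S.hln S.hmn S.hil S.him S.hin S.hjl S.hjm S.hjn S.hkl S.hkm S.hkn
  · exact swap_rel ρ S.hij S.hik S.hjk (D_fst S.hij S.hlm S.hil S.him) (D_snd S.hij S.hlm S.hjl S.hjm)
      (D_of_ne S.hij S.hlm S.hik.symm S.hjk.symm S.hkl S.hkm)
  · exact swap_rel ρ S.hlm S.hln S.hmn (D_trd S.hij S.hlm S.him S.hjm) (D_fth S.hij S.hlm S.hil S.hjl)
      (D_of_ne S.hij S.hlm S.hin.symm S.hjn.symm S.hln.symm S.hmn.symm)

/-- **Case B is impossible** -/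
theorem false_B [IsAlgClosed K] (h3 : (3 : K) ≠ 0) (h5 : finrank K V = 5)
    {ρ : alternatingGroup α →* Module.End K V} (hirr : Irr ρ) (hα : 7 ≤ Fintype.card α)
    {i j k : α} (hij : i ≠ j) (hik : i ≠ k) (hjk : j ≠ k) (hF : finrank K (F (ρ (C i j k))) = 1) : False := by
  have hall : ∀ {i' j' k' : α}, i' ≠ j' → i' ≠ k' → j' ≠ k' → finrank K (F (ρ (C i' j' k'))) = 1 := by
    intro i' j' k' h1 h2 h3'
    rw [finrank_F_eq ρ (by omega) hij hik hjk h1 h2 h3', hF]
  obtain ⟨v, hv0, -⟩ := finrank_eq_one_iff'.1 hF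
  have hv0' : (v : V) ≠ 0 := fun h => hv0 (Subtype.ext h)
  refine false_of_stabv hirr (by omega) hv0' (eq_top_of_pair _ hij ?_)
  intro q hqi hqj
  rw [mem_stabv, ← mem_F]
  by_cases hqk : q = k
  · subst hqk; exact v.2
  obtain ⟨l, m, n, hl, hm, hn, hlm, hln, hmn⟩ := exists_points (s := {i, j, k, q}) (by
    have := Finset.card_le_four (a := i) (b := j) (c := k) (d := q); omega)
  simp only [Finset.mem_insert, Finset.mem_singleton, not_or] at hl hm hn
  have S1 : Six i j k l m n := ⟨hij, hik, hjk, hlm, hln, hmn, Ne.symm hl.1, Ne.symm hm.1, Ne.symm hn.1,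
    Ne.symm hl.2.1, Ne.symm hm.2.1, Ne.symm hn.2.1, Ne.symm hl.2.2.1, Ne.symm hm.2.2.1, Ne.symm hn.2.2.1⟩
  have S2 : Six l m n i j q := ⟨hlm, hln, hmn, hij, Ne.symm hqi, Ne.symm hqj, hl.1, hl.2.1, hl.2.2.2,
    hm.1, hm.2.1, hm.2.2.2, hn.1, hn.2.1, hn.2.2.2⟩
  exact six_caseB ρ h3 S2 (hall hlm hln hmn) (six_caseB ρ h3 S1 hF v.2)

/-- case A: `R` of a three-cycle is fixed by the disjoint three-cycles -/
theorem six_le [IsAlgClosed K] (h3 : (3 : K) ≠ 0) (h5 : finrank K V = 5)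
    {ρ : alternatingGroup α →* Module.End K V} (hirr : Irr ρ) (hα : 7 ≤ Fintype.card α)
    (hR : ∀ {i j k : α}, i ≠ j → i ≠ k → j ≠ k → finrank K (R (ρ (C i j k))) = 2)
    {i j k l m n : α} (S : Six i j k l m n) : R (ρ (C i j k)) ≤ F (ρ (C l m n)) := by
  rcases six_caseA ρ h3 S (hR S.hij S.hik S.hjk) with h | h
  · exact h
  exfalso
  set W := R (ρ (C i j k)) with hW
  have hW2 : finrank K W = 2 := hR S.hij S.hik S.hjk
  have hW' : R (ρ (C l m n)) = W := (Submodule.eq_of_le_of_finrank_le h (by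
    rw [hW2, hR S.hlm S.hln S.hmn])).symm
  have hconj : ∀ g ∈ stab ρ W, ∀ x ∈ stab ρ W, g * x * g⁻¹ ∈ stab ρ W := fun g hg x hx =>
    (stab ρ W).mul_mem ((stab ρ W).mul_mem hg hx) ((stab ρ W).inv_mem hg)
  have hk : C i j k ∈ stab ρ W := C_mem_stab_R ρ S.hij S.hik S.hjk
  -- `q` outside
  have hout : ∀ q, q ≠ i → q ≠ j → q ≠ k → q ≠ l → q ≠ m → q ≠ n → C i j q ∈ stab ρ W := by
    intro q hqi hqj hqk hql hqm hqn
    have hg : (D k q l m : alternatingGroup α) ∈ stab ρ W := by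
      refine mem_stab_of ρ (x := C l m n) (y := C m l n) (C_conj' S.hlm S.hmn
        (D_trd (Ne.symm hqk) S.hlm S.hkm hqm) (D_fth (Ne.symm hqk) S.hlm S.hkl hql)
        (D_of_ne (Ne.symm hqk) S.hlm S.hkn.symm (Ne.symm hqn) S.hln.symm S.hmn.symm)) hW' ?_
      rw [R_swap ρ S.hlm S.hln S.hmn, hW']
    rw [← C_conj' (g := D k q l m) S.hij S.hjk
      (D_of_ne (Ne.symm hqk) S.hlm S.hik (Ne.symm hqi) S.hil S.him)
      (D_of_ne (Ne.symm hqk) S.hlm S.hjk (Ne.symm hqj) S.hjl S.hjm)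
      (D_fst (Ne.symm hqk) S.hlm S.hkl S.hkm)]
    exact hconj _ hg _ hk
  obtain ⟨p, hp⟩ := exists_point (s := {i, j, k, l, m, n}) (by
    have := Finset.card_le_six (a := i) (b := j) (c := k) (d := l) (e := m) (f := n); omega)
  simp only [Finset.mem_insert, Finset.mem_singleton, not_or] at hp
  obtain ⟨hpi, hpj, hpk, hpl, hpm, hpn⟩ := hp
  have hP : C i j p ∈ stab ρ W := hout p hpi hpj hpk hpl hpm hpn
  -- `q` in `{l, m, n}`
  have hin : ∀ q, q ≠ i → q ≠ j → q ≠ k → q ≠ p → C i j q ∈ stab ρ W := by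
    intro q hqi hqj hqk hqp
    have hg : (D q p i j : alternatingGroup α) ∈ stab ρ W := by
      refine mem_stab_of ρ (x := C i j k) (y := C j i k) (C_conj' S.hij S.hjk
        (D_trd hqp S.hij hqj hpj) (D_fth hqp S.hij hqi hpi)
        (D_of_ne hqp S.hij (Ne.symm hqk) (Ne.symm hpk) S.hik.symm S.hjk.symm)) rfl ?_
      rw [R_swap ρ S.hij S.hik S.hjk]
    have h1 : C j i q ∈ stab ρ W := by
      rw [← C_conj' (g := D q p i j) S.hij (Ne.symm hpj)
        (D_trd hqp S.hij hqj hpj) (D_fth hqp S.hij hqi hpi) (D_snd hqp S.hij hpi hpj)]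
      exact hconj _ hg _ hP
    have h2 := (stab ρ W).inv_mem h1
    rw [C_inv S.hij.symm (Ne.symm hqi), C_rot hqi hqj S.hij] at h2
    exact h2
  refine false_of_stab hirr (W := W) (by omega) (by omega) (eq_top_of_pair _ S.hij ?_)
  intro q hqi hqj
  by_cases hqk : q = k
  · rw [hqk]; exact hk
  by_cases hqp : q = p
  · rw [hqp]; exact hP
  exact hin q hqi hqj hqk hqp

/-- case A: `R` of overlapping three-cycles are different -/
theorem R_ne [IsAlgClosed K] (h3 : (3 : K) ≠ 0) (h5 : finrank K V = 5)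
    {ρ : alternatingGroup α →* Module.End K V} (hirr : Irr ρ) (hα : 7 ≤ Fintype.card α)
    (hR : ∀ {i j k : α}, i ≠ j → i ≠ k → j ≠ k → finrank K (R (ρ (C i j k))) = 2)
    {i j k l : α} (hij : i ≠ j) (hik : i ≠ k) (hjk : j ≠ k) (hil : i ≠ l) (hjl : j ≠ l) (hkl : k ≠ l) :
    R (ρ (C i j k)) ≠ R (ρ (C i j l)) := by
  intro h
  set W := R (ρ (C i j k)) with hW
  have hW2 : finrank K W = 2 := hR hij hik hjk
  have hk : C i j k ∈ stab ρ W := C_mem_stab_R ρ hij hik hjk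
  have hl : C i j l ∈ stab ρ W := by rw [h]; exact C_mem_stab_R ρ hij hil hjl
  refine false_of_stab hirr (W := W) (by omega) (by omega) (eq_top_of_pair _ hij ?_)
  intro q hqi hqj
  by_cases hqk : q = k
  · rw [hqk]; exact hk
  by_cases hql : q = l
  · rw [hql]; exact hl
  obtain ⟨r, hr⟩ := exists_point (s := {i, j, k, l, q}) (by
    have := Finset.card_le_five (a := i) (b := j) (c := k) (d := l) (e := q); omega)
  simp only [Finset.mem_insert, Finset.mem_singleton, not_or] at hr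
  obtain ⟨hri, hrj, hrk, hrl, hrq⟩ := hr
  have hg : C l q r ∈ stab ρ W := mem_stab_of_le_F ρ (six_le h3 h5 hirr hα hR
    ⟨hij, hik, hjk, Ne.symm hql, Ne.symm hrl, Ne.symm hrq, hil, Ne.symm hqi, Ne.symm hri, hjl, Ne.symm hqj,
      Ne.symm hrj, hkl, Ne.symm hqk, Ne.symm hrk⟩)
  rw [← C_conj' (g := C l q r) hij hjl (i' := i) (j' := j) (k' := q)]
  · exact (stab ρ W).mul_mem ((stab ρ W).mul_mem hg hl) ((stab ρ W).inv_mem hg)
  · rw [C_val (Ne.symm hql) (Ne.symm hrq), c_apply_of_ne hil (Ne.symm hqi) (Ne.symm hri)]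
  · rw [C_val (Ne.symm hql) (Ne.symm hrq), c_apply_of_ne hjl (Ne.symm hqj) (Ne.symm hrj)]
  · rw [C_val (Ne.symm hql) (Ne.symm hrq), c_apply_fst (Ne.symm hql) (Ne.symm hrl)]

end Cfsg.Agent.H180.AltFive
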