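import Cfsg.Agent.H911.TwoPt

/-!
# Operators of order 3 and 7 on a 5-dimensional space

Tools for `AltFive`: fixed space `F T`, kernel `R T` of `1 + T + T²`, lines, ranks.
-/

set_option autoImplicit false
set_option linter.unusedSectionVars false
set_option linter.unusedVariables false

namespace Cfsg.Agent.H180.AltFive

open Module

variable {K : Type*} [Field K] {V : Type*} [AddCommGroup V] [Module K V]

/-- fixed space -/
def F (T : Module.End K V) : Submodule K V := LinearMap.ker (T - 1)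

/-- kernel of `1 + T + T²` -/
def R (T : Module.End K V) : Submodule K V := LinearMap.ker (1 + T + T * T)

theorem mem_F {T : Module.End K V} {v : V} : v ∈ F T ↔ T v = v := by
  unfold F
  rw [LinearMap.mem_ker, LinearMap.sub_apply, Module.End.one_apply, sub_eq_zero]

theorem mem_R {T : Module.End K V} {v : V} : v ∈ R T ↔ v + T v + T (T v) = 0 := by
  unfold R
  rw [LinearMap.mem_ker, LinearMap.add_apply, LinearMap.add_apply, Module.End.one_apply, Module.End.mul_apply]

theorem three_smul' (v : V) : v + v + v = (3 : K) • v := by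
  rw [show (3 : K) = 1 + 1 + 1 by norm_num, add_smul, add_smul, one_smul]

theorem F_inf_R (h3 : (3 : K) ≠ 0) (T : Module.End K V) : F T ⊓ R T = ⊥ := by
  rw [eq_bot_iff]
  rintro v ⟨h1, h2⟩
  rw [SetLike.mem_coe, mem_F] at h1
  rw [SetLike.mem_coe, mem_R, h1, h1, three_smul' (K := K)] at h2
  rw [Submodule.mem_bot]
  exact (smul_eq_zero.1 h2).resolve_left h3

/-- decomposition inside an invariant subspace -/
theorem decomp (h3 : (3 : K) ≠ 0) {T : Module.End K V} (hT : ∀ v, T (T (T v)) = v) {W : Submodule K V}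
    (hW : ∀ v ∈ W, T v ∈ W) : W ≤ (W ⊓ F T) ⊔ (W ⊓ R T) := by
  intro v hv
  set a : V := (3 : K)⁻¹ • (v + T v + T (T v)) with ha
  have haW : a ∈ W := W.smul_mem _ (W.add_mem (W.add_mem hv (hW _ hv)) (hW _ (hW _ hv)))
  have haF : T a = a := by
    rw [ha, map_smul, map_add, map_add, hT v]
    congr 1
    abel
  have e : v = a + (v - a) := by abel
  rw [e]
  refine Submodule.add_mem_sup ⟨haW, mem_F.2 haF⟩ ⟨W.sub_mem hv haW, mem_R.2 ?_⟩
  rw [map_sub, map_sub, haF, haF]
  have h1 : (3 : K) • a = v + T v + T (T v) := by rw [ha, smul_smul, mul_inv_cancel₀ h3, one_smul]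
  rw [← three_smul' (K := K)] at h1
  calc v - a + (T v - a) + (T (T v) - a) = (v + T v + T (T v)) - (a + a + a) := by abel
    _ = 0 := by rw [h1, sub_self]

theorem sup_eq_top (h3 : (3 : K) ≠ 0) {T : Module.End K V} (hT : ∀ v, T (T (T v)) = v) : F T ⊔ R T = ⊤ := by
  rw [eq_top_iff]
  have := decomp h3 hT (W := ⊤) (fun _ _ => trivial)
  rwa [top_inf_eq, top_inf_eq] at this

theorem finrank_add [FiniteDimensional K V] (h3 : (3 : K) ≠ 0) {T : Module.End K V} (hT : ∀ v, T (T (T v)) = v) :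
    finrank K (F T) + finrank K (R T) = finrank K V := by
  have := Submodule.finrank_sup_add_finrank_inf_eq (F T) (R T)
  rw [sup_eq_top h3 hT, F_inf_R h3, finrank_top, finrank_bot, add_zero] at this
  exact this.symm

/-- **no invariant line** -/
theorem no_line (h3 : (3 : K) ≠ 0) {T h : Module.End K V} (hh : Function.Injective h)
    (hTh : ∀ v, h (T v) = T (T (h v))) {W : Submodule K V} (hW1 : finrank K W = 1)
    (hWT : ∀ v ∈ W, T v ∈ W) (hWh : ∀ v ∈ W, h v ∈ W) (hR : W ≤ R T) : False := by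
  obtain ⟨v, hv0, hv⟩ := finrank_eq_one_iff'.1 hW1
  have hv0' : (v : V) ≠ 0 := fun h => hv0 (Subtype.ext h)
  obtain ⟨μ, hμ⟩ := hv ⟨T v, hWT v v.2⟩
  obtain ⟨ν, hν⟩ := hv ⟨h v, hWh v v.2⟩
  have hμ' : T v = μ • (v : V) := (congrArg Subtype.val hμ).symm
  have hν' : h v = ν • (v : V) := (congrArg Subtype.val hν).symm
  have hν0 : ν ≠ 0 := by
    rintro rfl
    rw [zero_smul] at hν'
    exact hv0' (hh (by rw [hν', map_zero]))
  have h1 := hTh v
  rw [hμ', map_smul, hν', map_smul, map_smul, hμ', map_smul, hμ', smul_smul, smul_smul, smul_smul] at h1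
  have h2 : (μ * ν - ν * μ * μ) • (v : V) = 0 := by rw [sub_smul, h1, sub_self]
  have h3' : μ * ν - ν * μ * μ = 0 := (smul_eq_zero.1 h2).resolve_right hv0'
  have h4 := mem_R.1 (hR v.2)
  rw [hμ', map_smul, hμ', smul_smul] at h4
  have h5 : (1 + μ + μ * μ) • (v : V) = 0 := by rw [add_smul, add_smul, one_smul, h4]
  have h6 : 1 + μ + μ * μ = 0 := (smul_eq_zero.1 h5).resolve_right hv0'
  have h7 : ν * (μ * (1 - μ)) = 0 := by linear_combination h3'
  rcases mul_eq_zero.1 h7 with h8 | h8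
  · exact hν0 h8
  rcases mul_eq_zero.1 h8 with h9 | h9
  · rw [h9] at h6; norm_num at h6
  · have h10 : μ = 1 := (sub_eq_zero.1 h9).symm
    rw [h10] at h6
    apply h3
    linear_combination h6

/-- one-dimensional fixed spaces -/
theorem caseB [FiniteDimensional K V] (h3 : (3 : K) ≠ 0) {T B h : Module.End K V} (hT : ∀ v, T (T (T v)) = v)
    (hB : ∀ v, B (B (B v)) = v) (hTB : ∀ v, T (B v) = B (T v)) (hh : Function.Injective h)
    (hhT : ∀ v, h (T v) = T (T (h v))) (hhB : ∀ v, h (B v) = B (B (h v))) (hF : finrank K (F T) = 1) :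
    F T ≤ F B := by
  have hFB : ∀ v ∈ F T, B v ∈ F T := fun v hv => mem_F.2 (by rw [hTB, mem_F.1 hv])
  have hFh : ∀ v ∈ F T, h v ∈ F T := by
    intro v hv
    have h1 := hhT v
    rw [mem_F.1 hv] at h1
    rw [mem_F]
    conv_lhs => rw [h1]
    exact hT _
  have h1 := decomp h3 hB hFB
  by_cases h2 : F T ⊓ F B = ⊥
  · exfalso
    rw [h2, bot_sup_eq] at h1
    exact no_line h3 hh hhB hF hFB hFh (h1.trans inf_le_right)
  · have h4 : 0 < finrank K (F T ⊓ F B : Submodule K V) := by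
      rw [Nat.pos_iff_ne_zero]
      intro h5
      exact h2 (Submodule.finrank_eq_zero.1 h5)
    have h5 : F T ⊓ F B = F T := Submodule.eq_of_le_of_finrank_le inf_le_left (by omega)
    exact inf_eq_left.1 h5

/-- two-dimensional commutator spaces -/
theorem caseA [FiniteDimensional K V] (h3 : (3 : K) ≠ 0) {T B h : Module.End K V} (hT : ∀ v, T (T (T v)) = v)
    (hB : ∀ v, B (B (B v)) = v) (hTB : ∀ v, T (B v) = B (T v)) (hh : Function.Injective h)
    (hhT : ∀ v, h (T v) = T (T (h v))) (hhB : ∀ v, h (B v) = B (B (h v))) (hR : finrank K (R T) = 2) :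
    R T ≤ F B ∨ R T ≤ R B := by
  have hRB : ∀ v ∈ R T, B v ∈ R T := by
    intro v hv
    rw [mem_R] at hv ⊢
    rw [hTB, hTB, ← map_add, ← map_add, hv, map_zero]
  have hRT : ∀ v ∈ R T, T v ∈ R T := by
    intro v hv
    rw [mem_R] at hv ⊢
    rw [← map_add, ← map_add, hv, map_zero]
  have hRh : ∀ v ∈ R T, h v ∈ R T := by
    intro v hv
    rw [mem_R] at hv ⊢
    have e1 : T (h v) = h (T (T v)) := by
      rw [hhT, hhT, hT]
    have e2 : T (T (h v)) = h (T v) := (hhT v).symm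
    rw [e2, e1, add_assoc, add_comm (h (T (T v))), ← add_assoc, ← map_add, ← map_add, hv, map_zero]
  have h1 := decomp h3 hB hRB
  have hle : finrank K (R T ⊓ F B : Submodule K V) ≤ 2 := by
    rw [← hR]; exact Submodule.finrank_mono inf_le_left
  have hne : finrank K (R T ⊓ F B : Submodule K V) ≠ 1 := by
    intro h2
    refine no_line h3 hh hhT h2 ?_ ?_ inf_le_left
    · rintro v ⟨hv1, hv2⟩
      refine ⟨hRT v hv1, ?_⟩
      rw [SetLike.mem_coe, mem_F] at hv2 ⊢
      rw [← hTB, hv2]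
    · rintro v ⟨hv1, hv2⟩
      refine ⟨hRh v hv1, ?_⟩
      rw [SetLike.mem_coe, mem_F] at hv2 ⊢
      have h4 := hhB v
      rw [hv2] at h4
      conv_lhs => rw [h4]
      exact hB _
  rcases Nat.lt_or_ge (finrank K (R T ⊓ F B : Submodule K V)) 1 with h2 | h2
  · right
    have h4 : R T ⊓ F B = ⊥ := Submodule.finrank_eq_zero.1 (by omega)
    rw [h4, bot_sup_eq] at h1
    exact h1.trans inf_le_right
  · left
    have h4 : R T ⊓ F B = R T := Submodule.eq_of_le_of_finrank_le inf_le_left (by omega)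
    exact inf_eq_left.1 h4

variable [IsAlgClosed K] [FiniteDimensional K V]

open H911.Eig in
/-- ranks of an inverted operator of order 3 -/
theorem ranks (h3 : (3 : K) ≠ 0) (h5 : finrank K V = 5) {T h h' : Module.End K V} (hT : T ^ 3 = 1) (hT1 : T ≠ 1)
    (hh : h' * h = 1) (hhT : h * T * h' = T ^ 2) :
    (finrank K (F T) = 1 ∧ finrank K (R T) = 4) ∨ (finrank K (F T) = 3 ∧ finrank K (R T) = 2) := by
  have h3p : Nat.Prime 3 := Nat.prime_three
  have h3c : ((3 : ℕ) : K) ≠ 0 := by exact_mod_cast h3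
  obtain ⟨ζ, hζ⟩ := exists_root h3p h3c
  have hs := sum_d (A := T) h3p h3c hζ hT
  have h12 := d_le (A := T) h3p hζ hh hhT (1 : ZMod 3)
  have h21 := d_le (A := T) h3p hζ hh hhT (2 : ZMod 3)
  have e1 : ((2 : ℕ) : ZMod 3) * 1 = 2 := by decide
  have e2 : ((2 : ℕ) : ZMod 3) * 2 = 1 := by decide
  rw [e1] at h12
  rw [e2] at h21
  have hlt := d_lt (ζ := ζ) (r := 3) hT1
  rw [h5] at hs hlt
  have hF : d T ζ (0 : ZMod 3) = finrank K (F T) := by
    have h10 : E T ζ (0 : ZMod 3) = F T := by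
      ext v
      rw [mem_E, mem_F, ZMod.val_zero, pow_zero, one_smul]
    unfold d
    rw [h10]
  have hsum : d T ζ (0 : ZMod 3) + d T ζ (1 : ZMod 3) + d T ζ (2 : ZMod 3) = 5 := by
    exact (Fin.sum_univ_three (fun j : ZMod 3 => d T ζ j)).symm.trans hs
  have hTv : ∀ v, T (T (T v)) = v := by
    intro v
    have := congrArg (fun f : Module.End K V => f v) hT
    simpa [pow_succ] using this
  have hadd := finrank_add h3 hTv
  rw [h5] at hadd
  rw [hF] at hsum hlt
  omega

open H911.Eig in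
/-- the norm kernel of an operator of order 7 -/
theorem ker_norm_le (h7 : (7 : K) ≠ 0) (h5 : finrank K V = 5) {X Z Z' : Module.End K V} (hX : X ^ 7 = 1)
    (hZ : Z' * Z = 1) (hZX : Z * X * Z' = X ^ 2) :
    finrank K (LinearMap.ker (∑ i ∈ Finset.range 7, X ^ i)) ≤ 3 := by
  have h7p : Nat.Prime 7 := by norm_num
  have h7c : ((7 : ℕ) : K) ≠ 0 := by exact_mod_cast h7
  obtain ⟨ζ, hζ⟩ := exists_root h7p h7c
  have hs := sum_d (A := X) h7p h7c hζ hX
  have hd := d_le (A := X) h7p hζ hZ hZX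
  have e1 := hd (1 : ZMod 7)
  have e2 := hd (2 : ZMod 7)
  have e4 := hd (4 : ZMod 7)
  have e3 := hd (3 : ZMod 7)
  have e6 := hd (6 : ZMod 7)
  have e5 := hd (5 : ZMod 7)
  rw [show ((2 : ℕ) : ZMod 7) * 1 = 2 by decide] at e1
  rw [show ((2 : ℕ) : ZMod 7) * 2 = 4 by decide] at e2
  rw [show ((2 : ℕ) : ZMod 7) * 4 = 1 by decide] at e4
  rw [show ((2 : ℕ) : ZMod 7) * 3 = 6 by decide] at e3
  rw [show ((2 : ℕ) : ZMod 7) * 6 = 5 by decide] at e6
  rw [show ((2 : ℕ) : ZMod 7) * 5 = 3 by decide] at e5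
  rw [h5] at hs
  have hF : d X ζ (0 : ZMod 7) = finrank K (F X) := by
    have h10 : E X ζ (0 : ZMod 7) = F X := by
      ext v
      rw [mem_E, mem_F, ZMod.val_zero, pow_zero, one_smul]
    unfold d
    rw [h10]
  have hsum : d X ζ (0 : ZMod 7) + d X ζ (1 : ZMod 7) + d X ζ (2 : ZMod 7) + d X ζ (3 : ZMod 7) +
      d X ζ (4 : ZMod 7) + d X ζ (5 : ZMod 7) + d X ζ (6 : ZMod 7) = 5 := by
    exact (Fin.sum_univ_seven (fun j : ZMod 7 => d X ζ j)).symm.trans hs
  rw [hF] at hsum
  have hinf : F X ⊓ LinearMap.ker (∑ i ∈ Finset.range 7, X ^ i) = ⊥ := by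
    rw [eq_bot_iff]
    rintro v ⟨hv1, hv2⟩
    rw [SetLike.mem_coe, mem_F] at hv1
    rw [SetLike.mem_coe, LinearMap.mem_ker, LinearMap.sum_apply] at hv2
    have hp : ∀ i : ℕ, (X ^ i) v = v := by
      intro i
      induction i with
      | zero => simp
      | succ i ih => rw [pow_succ, Module.End.mul_apply, hv1, ih]
    rw [Finset.sum_congr rfl fun i _ => hp i, Finset.sum_const, Finset.card_range] at hv2
    rw [Submodule.mem_bot]
    have hv3 : (7 : K) • v = 0 := by
      rw [← hv2]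
      exact (Nat.cast_smul_eq_nsmul K 7 v)
    exact (smul_eq_zero.1 hv3).resolve_left h7
  have h8 := Submodule.finrank_sup_add_finrank_inf_eq (F X) (LinearMap.ker (∑ i ∈ Finset.range 7, X ^ i))
  rw [hinf, finrank_bot, add_zero] at h8
  have h9 := Submodule.finrank_le (F X ⊔ LinearMap.ker (∑ i ∈ Finset.range 7, X ^ i))
  rw [h5] at h9
  omega

end Cfsg.Agent.H180.AltFive
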