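import Mathlib

/-!
# Orbits on vectors of linear groups; transvections (team ELUSIVE, small groups)
-/

set_option autoImplicit false

namespace Cfsg.Agent.H180.LEl

open Module

/-- fixed points in an invariant set, for a permutation of prime order -/
theorem card_mod {α : Type*} [DecidableEq α] {p : ℕ} [hp : Fact p.Prime] {σ : Equiv.Perm α} (hσ : σ ^ p = 1)
    (D : Finset α) (hD : ∀ q ∈ D, σ q ∈ D) : D.card ≡ (D.filter fun q => σ q = q).card [MOD p] := by
  classical
  let f : D → D := fun q => ⟨σ q.1, hD _ q.2⟩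
  have hf : ∀ (n : ℕ) (q : D), (((show Function.End D from f) ^ n) q).1 = (σ ^ n) q.1 := by
    intro n
    induction n with
    | zero => intro q; rfl
    | succ n ih =>
      intro q
      rw [pow_succ, pow_succ]
      exact ih (f q)
  have hp1 : (show Function.End D from f) ^ p ^ 1 = 1 := by
    rw [pow_one]
    funext q
    apply Subtype.ext
    rw [hf, hσ]
    rfl
  have h := Equiv.Perm.card_fixedPoints_modEq hp1
  have e1 : Fintype.card D = D.card := Fintype.card_coe D
  have e2 : Fintype.card (Function.fixedPoints f) = (D.filter fun q => σ q = q).card := by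
    rw [← Fintype.card_coe]
    refine Fintype.card_congr ⟨fun q => ⟨q.1.1, Finset.mem_filter.2 ⟨q.1.2, congrArg Subtype.val q.2⟩⟩,
      fun q => ⟨⟨q.1, (Finset.mem_filter.1 q.2).1⟩, Subtype.ext (Finset.mem_filter.1 q.2).2⟩,
      fun q => rfl, fun q => rfl⟩
  rw [e1] at h
  have h' : D.card ≡ Fintype.card (Function.fixedPoints f) [MOD p] := by convert h
  rwa [e2] at h'

section Lin

variable {F : Type*} [Field F] {V : Type*} [AddCommGroup V] [Module F V]

theorem pow_apply_perm (x : V ≃ₗ[F] V) (n : ℕ) (v : V) : ((x.toEquiv : Equiv.Perm V) ^ n) v = (x ^ n) v := by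
  induction n generalizing v with
  | zero => rfl
  | succ n ih =>
    rw [pow_succ, pow_succ]
    exact ih (x v)

theorem perm_pow_eq_one {x : V ≃ₗ[F] V} {p : ℕ} (hx : x ^ p = 1) : (x.toEquiv : Equiv.Perm V) ^ p = 1 := by
  ext v
  rw [pow_apply_perm, hx]
  rfl

variable [Fintype V] [DecidableEq V]

/-- the fixed vectors -/
def fixF (x : V ≃ₗ[F] V) : Finset V := Finset.univ.filter fun v => x v = v

theorem mem_fixF {x : V ≃ₗ[F] V} {v : V} : v ∈ fixF x ↔ x v = v := by
  unfold fixF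
  rw [Finset.mem_filter]
  exact and_iff_right (Finset.mem_univ _)

theorem zero_mem_fixF (x : V ≃ₗ[F] V) : (0 : V) ∈ fixF x := mem_fixF.2 (map_zero x)

theorem card_mod' {p : ℕ} [hp : Fact p.Prime] {x : V ≃ₗ[F] V} (hx : x ^ p = 1)
    (D : Finset V) (hD : ∀ q ∈ D, x q ∈ D) : D.card ≡ (D ∩ fixF x).card [MOD p] := by
  have h := card_mod (perm_pow_eq_one hx) D hD
  have e : (D.filter fun q => (x.toEquiv : Equiv.Perm V) q = q) = D ∩ fixF x := by
    ext q
    rw [Finset.mem_filter, Finset.mem_inter, mem_fixF]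
    rfl
  rwa [e] at h

/-- the fixed space -/
def fixS (x : V ≃ₗ[F] V) : Submodule F V where
  carrier := {v | x v = v}
  add_mem' := fun {a b} ha hb => by
    show x (a + b) = a + b
    rw [map_add, ha, hb]
  zero_mem' := map_zero x
  smul_mem' := fun c {a} ha => by
    show x (c • a) = c • a
    rw [map_smul, ha]

/-- the number of fixed vectors is a power of `q`, smaller than `|V|` -/
theorem card_fixF [Fintype F] {p : ℕ} [hp : Fact p.Prime] {x : V ≃ₗ[F] V} (hx : orderOf x = p) :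
    ∃ k < finrank F V, (fixF x).card = Fintype.card F ^ k ∧
      Fintype.card F ^ finrank F V ≡ Fintype.card F ^ k [MOD p] := by
  have hfin : FiniteDimensional F V := Module.Finite.of_finite
  have h1 : (fixF x).card = Fintype.card F ^ finrank F (fixS x) := by
    rw [← Nat.card_eq_fintype_card, ← Module.natCard_eq_pow_finrank (K := F), ← Fintype.card_coe, ← Nat.card_eq_fintype_card]
    exact Nat.card_congr (Equiv.subtypeEquivRight fun v => mem_fixF)
  have hV : Fintype.card V = Fintype.card F ^ finrank F V := Module.card_eq_pow_finrank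
  refine ⟨finrank F (fixS x), ?_, h1, ?_⟩
  · apply Submodule.finrank_lt
    intro htop
    have h2 : x = 1 := by
      ext v
      have : v ∈ fixS x := by rw [htop]; trivial
      exact this
    rw [h2, orderOf_one] at hx
    exact hp.out.one_lt.ne hx
  · have h2 := card_mod' (p := p) (x := x) (by rw [← hx, pow_orderOf_eq_one]) Finset.univ (fun _ _ => Finset.mem_univ _)
    rw [Finset.univ_inter, Finset.card_univ, hV, h1] at h2
    exact h2

open Classical in
/-- the orbit of a vector -/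
noncomputable def orb (X : Subgroup (V ≃ₗ[F] V)) (v : V) : Finset V := Finset.univ.filter fun w => ∃ g ∈ X, g v = w

omit [DecidableEq V] in
theorem mem_orb {X : Subgroup (V ≃ₗ[F] V)} {v w : V} : w ∈ orb X v ↔ ∃ g ∈ X, g v = w := by
  classical
  unfold orb
  rw [Finset.mem_filter]
  exact and_iff_right (Finset.mem_univ _)

omit [DecidableEq V] in
theorem self_mem_orb (X : Subgroup (V ≃ₗ[F] V)) (v : V) : v ∈ orb X v := mem_orb.2 ⟨1, X.one_mem, rfl⟩

omit [DecidableEq V] in
theorem orb_inv {X : Subgroup (V ≃ₗ[F] V)} {v : V} {x : V ≃ₗ[F] V} (hx : x ∈ X) : ∀ q ∈ orb X v, x q ∈ orb X v := by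
  intro q hq
  obtain ⟨g, hg, rfl⟩ := mem_orb.1 hq
  exact mem_orb.2 ⟨x * g, X.mul_mem hx hg, rfl⟩

omit [DecidableEq V] in
theorem orb_pos (X : Subgroup (V ≃ₗ[F] V)) (v : V) : 0 < (orb X v).card := Finset.card_pos.2 ⟨v, self_mem_orb X v⟩

omit [DecidableEq V] in
theorem orb_ne_zero {X : Subgroup (V ≃ₗ[F] V)} {v : V} (hv : v ≠ 0) {w : V} (hw : w ∈ orb X v) : w ≠ 0 := by
  obtain ⟨g, hg, rfl⟩ := mem_orb.1 hw
  intro h
  exact hv (g.map_eq_zero_iff.1 h)

theorem orb_sub {X : Subgroup (V ≃ₗ[F] V)} {v : V} (hv : v ≠ 0) : orb X v ⊆ Finset.univ.erase 0 := fun _ hw =>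
  Finset.mem_erase.2 ⟨orb_ne_zero hv hw, Finset.mem_univ _⟩

omit [DecidableEq V] in
/-- two vectors in the same orbit -/
theorem orb_symm {X : Subgroup (V ≃ₗ[F] V)} {v w : V} (h : w ∈ orb X v) : v ∈ orb X w := by
  obtain ⟨g, hg, rfl⟩ := mem_orb.1 h
  exact mem_orb.2 ⟨g⁻¹, X.inv_mem hg, LinearEquiv.symm_apply_apply g v⟩

omit [DecidableEq V] in
theorem orb_trans {X : Subgroup (V ≃ₗ[F] V)} {u v w : V} (h1 : v ∈ orb X u) (h2 : w ∈ orb X v) : w ∈ orb X u := by
  obtain ⟨g, hg, rfl⟩ := mem_orb.1 h1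
  obtain ⟨k, hk, rfl⟩ := mem_orb.1 h2
  exact mem_orb.2 ⟨k * g, X.mul_mem hk hg, rfl⟩

omit [DecidableEq V] in
theorem orb_eq {X : Subgroup (V ≃ₗ[F] V)} {u v : V} (h : v ∈ orb X u) : orb X v = orb X u := by
  ext w
  exact ⟨fun h2 => orb_trans h h2, fun h2 => orb_trans (orb_symm h) h2⟩

/-- transitivity from the size of one orbit -/
theorem trans_of_card {X : Subgroup (V ≃ₗ[F] V)} {v : V} (hv : v ≠ 0) (h : (orb X v).card + 1 = Fintype.card V) :
    ∀ u w : V, u ≠ 0 → w ≠ 0 → ∃ g ∈ X, g u = w := by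
  have h1 : orb X v = Finset.univ.erase 0 := by
    apply Finset.eq_of_subset_of_card_le (orb_sub hv)
    rw [Finset.card_erase_of_mem (Finset.mem_univ _), Finset.card_univ]
    omega
  intro u w hu hw
  have hu' : u ∈ orb X v := by rw [h1]; exact Finset.mem_erase.2 ⟨hu, Finset.mem_univ _⟩
  have hw' : w ∈ orb X v := by rw [h1]; exact Finset.mem_erase.2 ⟨hw, Finset.mem_univ _⟩
  exact mem_orb.1 (orb_trans (orb_symm hu') hw')

end Lin

/-! ### transvections -/

section Transv

variable {F : Type*} [Field F] {V : Type*} [AddCommGroup V] [Module F V]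

/-- `X` contains the transvection `w ↦ w + f w • v` -/
def HasT (X : Subgroup (V ≃ₗ[F] V)) (v : V) (f : Dual F V) : Prop := ∃ t ∈ X, ∀ w, t w = w + f w • v

theorem HasT.conj {X : Subgroup (V ≃ₗ[F] V)} {v : V} {f : Dual F V} (h : HasT X v f) {g : V ≃ₗ[F] V} (hg : g ∈ X) :
    HasT X (g v) (f.comp (g⁻¹ : V ≃ₗ[F] V).toLinearMap) := by
  obtain ⟨t, ht, h⟩ := h
  refine ⟨g * t * g⁻¹, X.mul_mem (X.mul_mem hg ht) (X.inv_mem hg), fun w => ?_⟩
  show g (t (g⁻¹ w)) = w + f (g⁻¹ w) • g v
  rw [h, map_add, map_smul]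
  congr 1
  exact LinearEquiv.apply_symm_apply g w

theorem HasT.conj' {X : Subgroup (V ≃ₗ[F] V)} {v : V} {f : Dual F V} (h : HasT X v f) {g : V ≃ₗ[F] V} (hg : g ∈ X) :
    HasT X (g⁻¹ v) (f.comp g.toLinearMap) := by
  have := h.conj (X.inv_mem hg)
  rwa [inv_inv] at this

theorem HasT.zero (X : Subgroup (V ≃ₗ[F] V)) (v : V) : HasT X v 0 :=
  ⟨1, X.one_mem, fun w => by
    rw [LinearMap.zero_apply, zero_smul, add_zero]
    rfl⟩

theorem HasT.add {X : Subgroup (V ≃ₗ[F] V)} {v : V} {f f' : Dual F V} (h : HasT X v f) (h' : HasT X v f') (hf : f v = 0) :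
    HasT X v (f + f') := by
  obtain ⟨t, ht, h⟩ := h
  obtain ⟨t', ht', h'⟩ := h'
  refine ⟨t * t', X.mul_mem ht ht', fun w => ?_⟩
  show t (t' w) = _
  rw [h', h, map_add, map_smul, hf, smul_zero, add_zero, LinearMap.add_apply, add_smul]
  abel

theorem HasT.smul_iff {X : Subgroup (V ≃ₗ[F] V)} {v : V} {f : Dual F V} (c : F) : HasT X (c • v) f ↔ HasT X v (c • f) := by
  unfold HasT
  refine exists_congr fun t => and_congr_right fun _ => forall_congr' fun w => ?_
  rw [LinearMap.smul_apply, smul_smul, smul_eq_mul, mul_comm]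

/-- averaging over the powers of an element -/
theorem sum_fix {x : V ≃ₗ[F] V} {p : ℕ} (hx : x ^ p = 1) (v : V) :
    x (∑ i ∈ Finset.range p, (x ^ i) v) = ∑ i ∈ Finset.range p, (x ^ i) v := by
  have h1 : x (∑ i ∈ Finset.range p, (x ^ i) v) = ∑ i ∈ Finset.range p, (x ^ (i + 1)) v := by
    rw [map_sum]
    refine Finset.sum_congr rfl fun i _ => ?_
    rw [pow_succ']
    rfl
  rw [h1]
  have h2 := Finset.sum_range_succ' (fun i => (x ^ i) v) p
  have h3 := Finset.sum_range_succ (fun i => (x ^ i) v) p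
  rw [h2] at h3
  have h4 : (x ^ 0) v = (x ^ p) v := by rw [hx, pow_zero]
  rw [h4] at h3
  exact add_right_cancel h3

theorem comp_pow {x : V ≃ₗ[F] V} {f : Dual F V} (hf : ∀ v, f (x v) = f v) (i : ℕ) (v : V) : f ((x ^ i) v) = f v := by
  induction i with
  | zero => rfl
  | succ i ih =>
    rw [pow_succ']
    show f (x ((x ^ i) v)) = f v
    rw [hf, ih]

/-- an invariant functional vanishing on the fixed vectors is zero -/
theorem eq_zero_of_fix {x : V ≃ₗ[F] V} {p : ℕ} (hx : x ^ p = 1) (hp : (p : F) ≠ 0) {f : Dual F V}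
    (hf : ∀ v, f (x v) = f v) (h0 : ∀ v, x v = v → f v = 0) : f = 0 := by
  ext v
  have h1 := h0 _ (sum_fix hx v)
  rw [map_sum, Finset.sum_congr rfl fun i _ => comp_pow hf i v, Finset.sum_const, Finset.card_range, nsmul_eq_mul] at h1
  rw [LinearMap.zero_apply]
  exact (mul_eq_zero.1 h1).resolve_left hp

end Transv

end Cfsg.Agent.H180.LEl
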