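import Cfsg.Agent.H180.LElSL

/-!
# Subgroups of `GL₄(4)` (team ELUSIVE, small groups)
-/

set_option autoImplicit false

namespace Cfsg.Agent.H180.LEl

open Module

theorem odd_ne_zero' {F : Type*} [Field F] (h2 : (2 : F) = 0) {n : ℕ} (hn : Odd n) : (n : F) ≠ 0 := by
  obtain ⟨k, rfl⟩ := hn
  push_cast
  rw [h2, zero_mul, zero_add]
  exact one_ne_zero

theorem two_eq_zero_of_card {F : Type*} [Field F] [Fintype F] (hF : Fintype.card F = 4) : (2 : F) = 0 := by
  have h := FiniteField.cast_card_eq_zero F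
  rw [hF] at h
  have h2 : (2 : F) * 2 = 0 := by
    rw [← h]; norm_num
  rcases mul_eq_zero.1 h2 with h3 | h3 <;> exact h3

/-- multiplication by a unit -/
def scal {F : Type*} [Field F] (V : Type*) [AddCommGroup V] [Module F V] (c : F) (hc : c ≠ 0) : V ≃ₗ[F] V :=
  LinearEquiv.smulOfNeZero F V c hc

theorem scal_apply {F : Type*} [Field F] {V : Type*} [AddCommGroup V] [Module F V] {c : F} {hc : c ≠ 0} (v : V) :
    scal V c hc v = c • v := rfl

/-- the group generated by `X` and the scalars -/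
def withScal {F : Type*} [Field F] {V : Type*} [AddCommGroup V] [Module F V] (X : Subgroup (V ≃ₗ[F] V)) :
    Subgroup (V ≃ₗ[F] V) where
  carrier := {g | ∃ (c : F) (hc : c ≠ 0), scal V c hc * g ∈ X}
  mul_mem' := by
    rintro a b ⟨c, hc, ha⟩ ⟨c', hc', hb⟩
    refine ⟨c * c', mul_ne_zero hc hc', ?_⟩
    have h := X.mul_mem ha hb
    have e : scal V (c * c') (mul_ne_zero hc hc') * (a * b) = scal V c hc * a * (scal V c' hc' * b) := by
      ext v
      show (c * c') • a (b v) = c • a (c' • b v)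
      rw [map_smul, smul_smul]
    rwa [e]
  one_mem' := ⟨1, one_ne_zero, by
    have e : scal V (1 : F) one_ne_zero * 1 = (1 : V ≃ₗ[F] V) := by
      ext v
      show (1 : F) • v = v
      rw [one_smul]
    rw [e]
    exact X.one_mem⟩
  inv_mem' := by
    rintro a ⟨c, hc, ha⟩
    refine ⟨c⁻¹, inv_ne_zero hc, ?_⟩
    have h := X.inv_mem ha
    have e : scal V c⁻¹ (inv_ne_zero hc) * a⁻¹ = (scal V c hc * a)⁻¹ := by
      rw [eq_inv_iff_mul_eq_one]
      ext v
      show c⁻¹ • a⁻¹ (c • a v) = v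
      rw [map_smul, smul_smul, inv_mul_cancel₀ hc, one_smul]
      exact LinearEquiv.symm_apply_apply a v
    rwa [e]

section

variable {F : Type*} [Field F] {V : Type*} [AddCommGroup V] [Module F V]

theorem le_withScal (X : Subgroup (V ≃ₗ[F] V)) : X ≤ withScal X := by
  intro g hg
  refine ⟨1, one_ne_zero, ?_⟩
  have e : scal V (1 : F) one_ne_zero * g = g := by
    ext v
    show (1 : F) • g v = g v
    rw [one_smul]
  rwa [e]

theorem scal_mem (X : Subgroup (V ≃ₗ[F] V)) (c : F) (hc : c ≠ 0) : scal V c hc ∈ withScal X := by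
  refine ⟨c⁻¹, inv_ne_zero hc, ?_⟩
  have e : scal V c⁻¹ (inv_ne_zero hc) * scal V c hc = 1 := by
    ext v
    show c⁻¹ • c • v = v
    rw [smul_smul, inv_mul_cancel₀ hc, one_smul]
  rw [e]
  exact X.one_mem

/-- a homology with center `c` -/
def IsHom (h : V ≃ₗ[F] V) (lam mu : F) (c : V) : Prop := h c = mu • c ∧ ∀ v, ∃ a : F, h v = lam • v + a • c

theorem IsHom.conj {h : V ≃ₗ[F] V} {lam mu : F} {c : V} (H : IsHom h lam mu c) (g : V ≃ₗ[F] V) :
    IsHom (g * h * g⁻¹) lam mu (g c) := by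
  constructor
  · show g (h ((g⁻¹ : V ≃ₗ[F] V) (g c))) = mu • g c
    rw [show (g⁻¹ : V ≃ₗ[F] V) (g c) = c from LinearEquiv.symm_apply_apply g c, H.1, map_smul]
  · intro v
    obtain ⟨a, ha⟩ := H.2 ((g⁻¹ : V ≃ₗ[F] V) v)
    refine ⟨a, ?_⟩
    show g (h ((g⁻¹ : V ≃ₗ[F] V) v)) = _
    rw [ha, map_add, map_smul, map_smul]
    rw [show g ((g⁻¹ : V ≃ₗ[F] V) v) = v from LinearEquiv.apply_symm_apply g v]

theorem IsHom.smul {h : V ≃ₗ[F] V} {lam mu : F} {c : V} (H : IsHom h lam mu c) {b : F} (hb : b ≠ 0) :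
    IsHom h lam mu (b • c) := by
  refine ⟨by rw [map_smul, H.1, smul_comm], fun v => ?_⟩
  obtain ⟨a, ha⟩ := H.2 v
  refine ⟨a * b⁻¹, ?_⟩
  rw [ha, smul_smul, mul_assoc, inv_mul_cancel₀ hb, mul_one]

end

section Four

variable {F : Type*} [Field F] [Fintype F] {V : Type*} [AddCommGroup V] [Module F V] [Fintype V] [DecidableEq V]

theorem four_cases (hF : Fintype.card F = 4) {ω : F} (h0 : ω ≠ 0) (h1 : ω ≠ 1) (c : F) :
    c = 0 ∨ c = 1 ∨ c = ω ∨ c = 1 + ω := by
  classical
  by_contra h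
  push Not at h
  obtain ⟨a0, a1, a2, a3⟩ := h
  have h2 := two_eq_zero_of_card hF
  have e1 : (1 : F) + ω ≠ 0 := by
    intro he
    apply h1
    have h3 : (1 : F) + ω + ω = ω := by rw [he, zero_add]
    rw [add_assoc, ← two_mul, h2, zero_mul, add_zero] at h3
    exact h3.symm
  have hcard : ({0, 1, ω, 1 + ω, c} : Finset F).card ≤ 4 := by
    rw [← hF]
    exact Finset.card_le_univ _
  rw [Finset.card_insert_of_notMem, Finset.card_insert_of_notMem, Finset.card_insert_of_notMem,
    Finset.card_insert_of_notMem, Finset.card_singleton] at hcard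
  · norm_num at hcard
  · rw [Finset.mem_singleton]; exact a3.symm
  · simp only [Finset.mem_insert, Finset.mem_singleton]
    push Not
    exact ⟨fun h => one_ne_zero (add_eq_right.1 h.symm), a2.symm⟩
  · simp only [Finset.mem_insert, Finset.mem_singleton]
    push Not
    exact ⟨h1.symm, fun h => h0 (add_eq_left.1 h.symm), a1.symm⟩
  · simp only [Finset.mem_insert, Finset.mem_singleton]
    push Not
    exact ⟨zero_ne_one, h0.symm, e1.symm, a0.symm⟩

/-- the main theorem for `GL₄(4)` -/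
theorem main4 (hF : Fintype.card F = 4) (hV : finrank F V = 4) {X : Subgroup (V ≃ₗ[F] V)} {x y h : V ≃ₗ[F] V}
    (hxX : x ∈ X) (hx : orderOf x = 7) (hyX : y ∈ X) (hy : orderOf y = 17)
    {lam mu : F} {c : V} (hlam : lam ≠ 0) (hmu : mu ≠ 0) (hlm : lam ≠ mu) (hc0 : c ≠ 0) (hhX : h ∈ X)
    (hh : IsHom h lam mu c)
    {v1 : V} {f1 : Dual F V} (h1 : HasT X v1 f1) (hv1 : v1 ≠ 0) (hf1 : f1 ≠ 0) (hfv1 : f1 v1 = 0) :
    ∀ (v : V) (f : Dual F V), f v = 0 → HasT X v f := by
  classical
  have hfin : FiniteDimensional F V := Module.Finite.of_finite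
  have hfinD : Finite (Dual F V) := Module.finite_of_finite F
  have : Fintype (Dual F V) := Fintype.ofFinite _
  have h2 := two_eq_zero_of_card hF
  obtain ⟨ω, hω⟩ : ∃ ω : F, ω = mu⁻¹ * lam := ⟨_, rfl⟩
  have hω0 : ω ≠ 0 := by rw [hω]; exact mul_ne_zero (inv_ne_zero hmu) hlam
  have hω1 : ω ≠ 1 := by
    intro h3
    apply hlm
    have h4 : mu * ω = mu := by rw [h3, mul_one]
    rw [hω, ← mul_assoc, mul_inv_cancel₀ hmu, one_mul] at h4
    exact h4
  have hcV : Fintype.card V = 256 := by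
    rw [Module.card_eq_pow_finrank (K := F), hF, hV]; norm_num
  have p17 : Fact (Nat.Prime 17) := ⟨by norm_num⟩
  have p7 : Fact (Nat.Prime 7) := ⟨by norm_num⟩
  have p3 : Fact (Nat.Prime 3) := ⟨by norm_num⟩
  have hy17 : y ^ 17 = 1 := by rw [← hy, pow_orderOf_eq_one]
  have hfy' : ∀ v, y v = v → v = 0 := by
    obtain ⟨k, hk, hk1, hk2⟩ := card_fixF hy
    rw [hF, hV] at hk2
    rw [hF] at hk1
    rw [hV] at hk
    have hk3 : k = 0 := by
      interval_cases k <;> first | rfl | (exfalso; revert hk2; decide)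
    rw [hk3, pow_zero] at hk1
    obtain ⟨a, ha⟩ := Finset.card_eq_one.1 hk1
    have h0 := zero_mem_fixF y
    rw [ha, Finset.mem_singleton] at h0
    intro v hv
    have : v ∈ fixF y := mem_fixF.2 hv
    rwa [ha, Finset.mem_singleton, ← h0] at this
  -- the fixed vectors of an element of order 7
  have hfx : ∀ x : V ≃ₗ[F] V, orderOf x = 7 → (fixF x).card = 4 := by
    intro x hx
    obtain ⟨k, hk, hk1, hk2⟩ := card_fixF hx
    rw [hF, hV] at hk2
    rw [hF] at hk1
    rw [hV] at hk
    have hk3 : k = 1 := by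
      interval_cases k <;> first | rfl | (exfalso; revert hk2; decide)
    rw [hk1, hk3, pow_one]
  have hfx' : ∀ x : V ≃ₗ[F] V, orderOf x = 7 → ∀ v, v ≠ 0 → x v = v → ∀ w, x w = w → ∃ a : F, w = a • v := by
    intro x hx v hv hxv w hw
    have h3 : (Finset.univ.image fun a : F => a • v) = fixF x := by
      apply Finset.eq_of_subset_of_card_le
      · intro u hu
        obtain ⟨a, -, rfl⟩ := Finset.mem_image.1 hu
        rw [mem_fixF, map_smul, hxv]
      · rw [hfx x hx, Finset.card_image_of_injective _ (smul_left_injective F hv), Finset.card_univ, hF]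
    have h4 : w ∈ fixF x := mem_fixF.2 hw
    rw [← h3] at h4
    obtain ⟨a, -, ha⟩ := Finset.mem_image.1 h4
    exact ⟨a, ha.symm⟩
  obtain ⟨v0, hv00, hxv0⟩ : ∃ v0, v0 ≠ 0 ∧ x v0 = v0 := by
    have h3 : 1 < (fixF x).card := by rw [hfx x hx]; norm_num
    obtain ⟨a, ha, ha0⟩ := Finset.exists_mem_ne h3 0
    exact ⟨a, ha0, mem_fixF.1 ha⟩
  -- transitivity
  have hω3 : ω ^ 3 = 1 := by
    have := FiniteField.pow_card_sub_one_eq_one ω hω0
    rwa [hF] at this
  have htr : ∀ u w : V, u ≠ 0 → w ≠ 0 → ∃ g ∈ withScal X, g u = w := by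
    apply trans_of_card hv00
    set O := orb (withScal X) v0 with hO
    have hx7 : x ^ 7 = 1 := by rw [← hx, pow_orderOf_eq_one]
    have m1 := card_mod' hx7 O (orb_inv (le_withScal X hxX))
    have m2 := card_mod' hy17 O (orb_inv (le_withScal X hyX))
    have m3 := card_mod' (p := 3) (x := scal V ω hω0) (by
      ext v
      show ω • ω • ω • v = v
      rw [smul_smul, smul_smul, show ω * ω * ω = ω ^ 3 by ring, hω3, one_smul]) O (orb_inv (scal_mem X ω hω0))
    have e1 : O ∩ fixF x = (fixF x).erase 0 := by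
      ext w
      rw [Finset.mem_inter, Finset.mem_erase]
      constructor
      · rintro ⟨h3, h4⟩
        exact ⟨orb_ne_zero hv00 h3, h4⟩
      · rintro ⟨h3, h4⟩
        refine ⟨?_, h4⟩
        obtain ⟨a, rfl⟩ := hfx' x hx v0 hv00 hxv0 w (mem_fixF.1 h4)
        have ha : a ≠ 0 := by
          rintro rfl
          exact h3 (zero_smul _ _)
        exact mem_orb.2 ⟨scal V a ha, scal_mem X a ha, rfl⟩
    have e2 : O ∩ fixF y = ∅ := by
      rw [Finset.eq_empty_iff_forall_notMem]
      intro w hw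
      rw [Finset.mem_inter, mem_fixF] at hw
      exact orb_ne_zero hv00 hw.1 (hfy' w hw.2)
    have e3 : O ∩ fixF (scal V ω hω0) = ∅ := by
      rw [Finset.eq_empty_iff_forall_notMem]
      intro w hw
      rw [Finset.mem_inter, mem_fixF] at hw
      apply orb_ne_zero hv00 hw.1
      have h3 : (ω - 1) • w = 0 := by
        rw [sub_smul, one_smul]
        exact sub_eq_zero.2 hw.2
      exact (smul_eq_zero.1 h3).resolve_left (sub_ne_zero.2 hω1)
    rw [e1, Finset.card_erase_of_mem (zero_mem_fixF x), hfx x hx] at m1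
    rw [e2, Finset.card_empty] at m2
    rw [e3, Finset.card_empty] at m3
    have hle : O.card ≤ 255 := by
      have := Finset.card_le_card (orb_sub (X := withScal X) hv00)
      rw [Finset.card_erase_of_mem (Finset.mem_univ _), Finset.card_univ, hcV] at this
      exact this
    have hpos := orb_pos (withScal X) v0
    rw [← hO] at hpos
    unfold Nat.ModEq at m1 m2 m3
    rw [hcV]
    omega
  -- moving transvections
  have hmove : ∀ (v : V) (f : Dual F V) (g : V ≃ₗ[F] V), g ∈ withScal X → HasT X v f → f v = 0 → v ≠ 0 → f ≠ 0 →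
      ∃ f' : Dual F V, f' ≠ 0 ∧ f' (g v) = 0 ∧ HasT X (g v) f' := by
    rintro v f g ⟨a, ha, hag⟩ hT hfv hv hf
    set k : V ≃ₗ[F] V := scal V a ha * g with hk
    have hgk : ∀ w, g w = a⁻¹ • k w := by
      intro w
      show g w = a⁻¹ • a • g w
      rw [smul_smul, inv_mul_cancel₀ ha, one_smul]
    have h3 := hT.conj hag
    refine ⟨a • f.comp (k⁻¹ : V ≃ₗ[F] V).toLinearMap, ?_, ?_, ?_⟩
    · intro h4
      apply hf
      ext w
      have h5 := congrArg (fun φ : Dual F V => φ (k w)) h4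
      have h6 : a * f ((k⁻¹ : V ≃ₗ[F] V) (k w)) = 0 := h5
      rw [show (k⁻¹ : V ≃ₗ[F] V) (k w) = w from LinearEquiv.symm_apply_apply k w] at h6
      exact (mul_eq_zero.1 h6).resolve_left ha
    · rw [hgk]
      show a * f ((k⁻¹ : V ≃ₗ[F] V) (a⁻¹ • k v)) = 0
      rw [map_smul, show (k⁻¹ : V ≃ₗ[F] V) (k v) = v from LinearEquiv.symm_apply_apply k v, map_smul, hfv, smul_zero, mul_zero]
    · rw [hgk, HasT.smul_iff, smul_smul, inv_mul_cancel₀ ha, one_smul]
      exact h3
  -- all functionals vanishing on `v`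
  have hall : ∀ v : V, v ≠ 0 → ∀ f : Dual F V, f v = 0 → HasT X v f := by
    intro v hv
    -- a homology with center `v`
    obtain ⟨k, hkX, hkH⟩ : ∃ k ∈ X, IsHom k lam mu v := by
      obtain ⟨g, ⟨a, ha, hag⟩, hgc⟩ := htr c v hc0 hv
      refine ⟨_, X.mul_mem (X.mul_mem hag hhX) (X.inv_mem hag), ?_⟩
      have h3 := (hh.conj (scal V a ha * g)).smul (inv_ne_zero ha)
      have e : a⁻¹ • (scal V a ha * g) c = v := by
        show a⁻¹ • a • g c = v
        rw [smul_smul, inv_mul_cancel₀ ha, one_smul, hgc]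
      rwa [e] at h3
    obtain ⟨x', hx'X, hx', hx'v⟩ : ∃ x' ∈ X, orderOf x' = 7 ∧ x' v = v := by
      obtain ⟨g, ⟨a, ha, hag⟩, hgc⟩ := htr v0 v hv00 hv
      refine ⟨_, X.mul_mem (X.mul_mem hag hxX) (X.inv_mem hag), ?_, ?_⟩
      · rw [← hx]
        exact orderOf_injective (MulAut.conj (scal V a ha * g)).toMonoidHom (MulAut.conj (scal V a ha * g)).injective x
      · set k : V ≃ₗ[F] V := scal V a ha * g with hk
        have h3 : v = a⁻¹ • k v0 := by
          show v = a⁻¹ • a • g v0
          rw [smul_smul, inv_mul_cancel₀ ha, one_smul, hgc]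
        rw [h3, map_smul]
        congr 1
        show k (x ((k⁻¹ : V ≃ₗ[F] V) (k v0))) = k v0
        rw [show (k⁻¹ : V ≃ₗ[F] V) (k v0) = v0 from LinearEquiv.symm_apply_apply k v0, hxv0]
    have hclω : ∀ f : Dual F V, f v = 0 → HasT X v f → HasT X v (ω • f) := by
      intro f hf hT
      have h3 := hT.conj' hkX
      have h4 : (k⁻¹ : V ≃ₗ[F] V) v = mu⁻¹ • v := by
        have h5 : (k⁻¹ : V ≃ₗ[F] V) (k v) = v := LinearEquiv.symm_apply_apply k v
        rw [hkH.1, map_smul] at h5
        have h6 := congrArg (fun u => mu⁻¹ • u) h5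
        simp only [smul_smul, inv_mul_cancel₀ hmu, one_smul] at h6
        exact h6
      rw [h4, HasT.smul_iff] at h3
      have e : mu⁻¹ • f.comp k.toLinearMap = ω • f := by
        ext w
        obtain ⟨b, hb⟩ := hkH.2 w
        show mu⁻¹ * f (k w) = ω * f w
        rw [hb, map_add, map_smul, map_smul, hf, smul_zero, add_zero, smul_eq_mul, hω]
        ring
      rwa [e] at h3
    let E : Submodule F (Dual F V) :=
      { carrier := {f | f v = 0 ∧ HasT X v f}
        add_mem' := fun {a b} ha hb => ⟨by rw [LinearMap.add_apply, ha.1, hb.1, add_zero], ha.2.add hb.2 ha.1⟩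
        zero_mem' := ⟨rfl, HasT.zero X v⟩
        smul_mem' := fun b {a} ha => by
          have ha1 : a v = 0 := ha.1
          have hω := hclω a ha.1 ha.2
          refine ⟨by rw [LinearMap.smul_apply, ha1, smul_zero], ?_⟩
          rcases four_cases hF hω0 hω1 b with rfl | rfl | rfl | rfl
          · rw [zero_smul]; exact HasT.zero X v
          · rw [one_smul]; exact ha.2
          · exact hω
          · rw [add_smul, one_smul]
            exact ha.2.add hω ha.1 }
    have hE : ∀ f, f ∈ E ↔ f v = 0 ∧ HasT X v f := fun f => Iff.rfl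
    let S : Finset (Dual F V) := Finset.univ.filter fun f => f ∈ E
    have hSc : S.card = 4 ^ finrank F E := by
      rw [← hF]
      exact card_sub E S (fun f => by rw [Finset.mem_filter]; exact and_iff_right (Finset.mem_univ _))
    have h7 : x' ^ 7 = 1 := by rw [← hx', pow_orderOf_eq_one]
    have hm := card_mod' (dualMap_pow_eq_one h7) S (by
      intro f hf
      have h3 := (hE f).1 (Finset.mem_filter.1 hf).2
      refine Finset.mem_filter.2 ⟨Finset.mem_univ _, (hE _).2 ⟨?_, ?_⟩⟩
      · show f (x' v) = 0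
        rw [hx'v, h3.1]
      · have h4 := h3.2.conj' hx'X
        have h5 : (x'⁻¹ : V ≃ₗ[F] V) v = v := by
          have h6 : (x'⁻¹ : V ≃ₗ[F] V) (x' v) = v := LinearEquiv.symm_apply_apply x' v
          rwa [hx'v] at h6
        rw [h5] at h4
        exact h4)
    have he : S ∩ fixF x'.dualMap = {0} := by
      ext f
      rw [Finset.mem_inter, mem_fixF, Finset.mem_singleton]
      constructor
      · rintro ⟨h3, h4⟩
        have h5 := (hE f).1 (Finset.mem_filter.1 h3).2
        refine eq_zero_of_fix h7 (odd_ne_zero' h2 (by decide)) (fun w => ?_) fun w hw => ?_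
        · exact congrArg (fun φ : Dual F V => φ w) h4
        · obtain ⟨a, rfl⟩ := hfx' x' hx' v hv hx'v w hw
          rw [map_smul, h5.1, smul_zero]
      · rintro rfl
        exact ⟨Finset.mem_filter.2 ⟨Finset.mem_univ _, Submodule.zero_mem _⟩, map_zero _⟩
    rw [he, Finset.card_singleton, hSc] at hm
    have hle : E ≤ (ann v : Submodule F (Dual F V)) := fun f hf => hf.1
    have hfr := Submodule.finrank_mono hle
    have hfa := finrank_ann (F := F) hv
    have hne : E ≠ ⊥ := by
      obtain ⟨g, hg, hgv⟩ := htr v1 v hv1 hv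
      obtain ⟨f', hf', hf'v, hf'T⟩ := hmove v1 f1 g hg h1 hfv1 hv1 hf1
      rw [hgv] at hf'v hf'T
      rw [Submodule.ne_bot_iff]
      exact ⟨f', (hE f').2 ⟨hf'v, hf'T⟩, hf'⟩
    have hne' : finrank F E ≠ 0 := fun h => hne (Submodule.finrank_eq_zero.1 h)
    have h3 : finrank F E = 3 := by
      have h4 : finrank F E ≤ 3 := by omega
      set j := finrank F E
      interval_cases j <;> first | rfl | exact absurd rfl hne' | (exfalso; revert hm; decide)
    have h5 : E = (ann v : Submodule F (Dual F V)) := Submodule.eq_of_le_of_finrank_le hle (by omega)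
    intro f hf
    have h6 : f ∈ E := by rw [h5]; exact hf
    exact ((hE f).1 h6).2
  intro v f hf
  by_cases hv : v = 0
  · refine ⟨1, X.one_mem, fun w => ?_⟩
    rw [hv, smul_zero, add_zero]
    rfl
  · exact hall v hv f hf

end Four

end Cfsg.Agent.H180.LEl
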