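import Cfsg.Agent.H180.LElFour
import Cfsg.Agent.H180.MElNum

/-!
# Transvections, homologies and fixed point free elements by centralizer conditions
-/

set_option autoImplicit false

namespace Cfsg.Agent.H180.LEl

open Module

section

variable {F : Type*} [Field F] {V : Type*} [AddCommGroup V] [Module F V]

/-- the difference `t - 1` -/
def Nm (t : V ≃ₗ[F] V) : V →ₗ[F] V := t.toLinearMap - LinearMap.id

theorem Nm_apply (t : V ≃ₗ[F] V) (v : V) : Nm t v = t v - v := rfl

theorem Nm_ne_zero {t : V ≃ₗ[F] V} (ht : t ≠ 1) : Nm t ≠ 0 := by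
  intro h
  apply ht
  ext v
  have h1 := congrArg (fun φ : V →ₗ[F] V => φ v) h
  exact sub_eq_zero.1 h1

theorem Nm_Nm (h2 : (2 : F) = 0) {t : V ≃ₗ[F] V} (ht : t ^ 2 = 1) (v : V) : Nm t (Nm t v) = 0 := by
  have h1 : t (t v) = v := by
    have := congrArg (fun φ : V ≃ₗ[F] V => φ v) ht
    rw [pow_two] at this
    exact this
  rw [Nm_apply, Nm_apply, map_sub, h1]
  have h3 : v - t v - (t v - v) = (2 : F) • (v - t v) := by rw [two_smul]; abel
  rw [h3, h2, zero_smul]

/-- the data of a transvection -/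
theorem transv_of_range {t : V ≃ₗ[F] V} {v : V} (hv : v ≠ 0) (h : ∀ w, ∃ a : F, Nm t w = a • v) (hvt : Nm t v = 0)
    (ht : t ≠ 1) [FiniteDimensional F V] : ∃ f : Dual F V, f ≠ 0 ∧ f v = 0 ∧ ∀ w, t w = w + f w • v := by
  obtain ⟨g, hg⟩ := exists_dual_ne (F := F) hv
  have hf : ∀ w, Nm t w = ((g v)⁻¹ * g (Nm t w)) • v := by
    intro w
    obtain ⟨a, ha⟩ := h w
    rw [ha, map_smul, smul_eq_mul, mul_comm a, ← mul_assoc, inv_mul_cancel₀ hg, one_mul]
  refine ⟨(g v)⁻¹ • g.comp (Nm t), ?_, ?_, ?_⟩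
  · intro h0
    apply Nm_ne_zero ht
    ext w
    rw [hf w]
    have h1 := congrArg (fun φ : Dual F V => φ w) h0
    have h2 : (g v)⁻¹ * g (Nm t w) = 0 := h1
    rw [h2, zero_smul]
    rfl
  · show (g v)⁻¹ * g (Nm t v) = 0
    rw [hvt, map_zero, mul_zero]
  · intro w
    show t w = w + ((g v)⁻¹ * g (Nm t w)) • v
    rw [← hf w, Nm_apply]
    abel

end

section

variable {F : Type*} [Field F] [Fintype F] {V : Type*} [AddCommGroup V] [Module F V] [Fintype V] [DecidableEq V]

/-- an involution commuting with an element of order 5 or 31 with 4 fixed vectors is a transvection -/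
theorem transv_of_comm (hF : Fintype.card F = 2) {p : ℕ} [hp : Fact p.Prime] (hp' : p = 5 ∨ p = 31)
    {t s : V ≃ₗ[F] V} (ht : t ^ 2 = 1) (ht1 : t ≠ 1) (hs : orderOf s = p) (hc : Commute t s)
    (hfix : (fixF s).card = 4) (hV : finrank F V ≤ 7) :
    ∃ (v : V) (f : Dual F V), v ≠ 0 ∧ f ≠ 0 ∧ f v = 0 ∧ ∀ w, t w = w + f w • v := by
  classical
  have hfin : FiniteDimensional F V := Module.Finite.of_finite
  have h2 : (2 : F) = 0 := by rw [← one_add_one_eq_two]; exact one_add_one' hF
  have hodd : Odd p := by rcases hp' with rfl | rfl <;> decide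
  have hsp : s ^ p = 1 := by rw [← hs, pow_orderOf_eq_one]
  have hcomm : ∀ w, Nm t (s w) = s (Nm t w) := by
    intro w
    rw [Nm_apply, Nm_apply, map_sub]
    congr 1
    exact congrArg (fun φ : V ≃ₗ[F] V => φ w) hc.eq
  have hcomm' : ∀ (i : ℕ) (w : V), Nm t ((s ^ i) w) = (s ^ i) (Nm t w) := by
    intro i
    induction i with
    | zero => intro w; rfl
    | succ i ih =>
      intro w
      rw [pow_succ']
      show Nm t (s ((s ^ i) w)) = s ((s ^ i) (Nm t w))
      rw [hcomm, ih]
  set I := LinearMap.range (Nm t) with hI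
  have hIK : I ≤ LinearMap.ker (Nm t) := by
    rintro _ ⟨w, rfl⟩
    exact Nm_Nm h2 ht w
  have hfr : finrank F I ≤ 3 := by
    have h3 := LinearMap.finrank_range_add_finrank_ker (Nm t)
    have h4 := Submodule.finrank_mono hIK
    rw [← hI] at h3
    omega
  let S : Finset V := Finset.univ.filter fun w => w ∈ I
  have hmS : ∀ w, w ∈ S ↔ w ∈ I := fun w => by rw [Finset.mem_filter]; exact and_iff_right (Finset.mem_univ _)
  have hSc : S.card = 2 ^ finrank F I := by rw [← hF]; exact card_sub I S hmS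
  have hm := card_mod' hsp S (by
    intro w hw
    obtain ⟨u, rfl⟩ := (hmS w).1 hw
    exact (hmS _).2 ⟨s u, hcomm u⟩)
  -- `s` acts trivially on `I`
  have hS' : (S ∩ fixF s).card = 2 ^ finrank F (I ⊓ fixS s : Submodule F V) := by
    rw [← hF]
    exact card_sub (I ⊓ fixS s) _ (fun w => by
      rw [Finset.mem_inter, hmS, mem_fixF]
      rfl)
  have hfr2 : finrank F (I ⊓ fixS s : Submodule F V) ≤ finrank F I := Submodule.finrank_mono inf_le_left
  rw [hS', hSc] at hm
  have heq : finrank F (I ⊓ fixS s : Submodule F V) = finrank F I := by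
    set i := finrank F I
    set j := finrank F (I ⊓ fixS s : Submodule F V)
    rcases hp' with rfl | rfl <;> interval_cases i <;> interval_cases j <;>
      first | rfl | (exfalso; revert hm; decide)
  have hIfix : I ≤ fixS s := by
    have h3 := Submodule.eq_of_le_of_finrank_eq (inf_le_left : I ⊓ fixS s ≤ I) heq
    rw [← h3]
    exact inf_le_right
  have hS4 : S ⊆ fixF s := fun w hw => mem_fixF.2 (hIfix ((hmS w).1 hw))
  have hle4 := Finset.card_le_card hS4
  rw [hfix] at hle4
  have hne4 : S.card ≠ 4 := by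
    intro h4
    have h5 : S = fixF s := Finset.eq_of_subset_of_card_le hS4 (by rw [hfix, h4])
    apply Nm_ne_zero ht1
    ext w
    have h6 : Nm t (∑ i ∈ Finset.range p, (s ^ i) w) = (p : F) • Nm t w := by
      rw [map_sum]
      have h7 : ∀ i ∈ Finset.range p, Nm t ((s ^ i) w) = Nm t w := by
        intro i _
        rw [hcomm']
        have h8 : s (Nm t w) = Nm t w := hIfix ⟨w, rfl⟩
        have h9 : ∀ i : ℕ, (s ^ i) (Nm t w) = Nm t w := by
          intro i
          induction i with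
          | zero => rfl
          | succ i ih =>
            rw [pow_succ']
            show s ((s ^ i) (Nm t w)) = _
            rw [ih, h8]
        exact h9 i
      rw [Finset.sum_congr rfl h7, Finset.sum_const, Finset.card_range, Nat.cast_smul_eq_nsmul]
    have h7 : (∑ i ∈ Finset.range p, (s ^ i) w) ∈ S := by
      rw [h5, mem_fixF]
      exact sum_fix hsp w
    have h8 : Nm t (∑ i ∈ Finset.range p, (s ^ i) w) = 0 := hIK ((hmS _).1 h7)
    rw [h6] at h8
    exact (smul_eq_zero.1 h8).resolve_left (odd_ne_zero hF hodd)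
  have hfr1 : finrank F I = 1 := by
    have h3 : finrank F I ≠ 0 := by
      intro h0
      apply Nm_ne_zero ht1
      exact LinearMap.range_eq_bot.1 (Submodule.finrank_eq_zero.1 h0)
    have h4 : finrank F I ≠ 2 := by
      intro h0
      apply hne4
      rw [hSc, h0]
      norm_num
    have h5 : finrank F I ≠ 3 := by
      intro h0
      rw [hSc, h0] at hle4
      norm_num at hle4
    omega
  obtain ⟨v, hvI, hv, hspan⟩ : ∃ v ∈ I, v ≠ 0 ∧ ∀ w ∈ I, ∃ a : F, w = a • v := by
    obtain ⟨⟨v, hvI⟩, hv, hsp⟩ := finrank_eq_one_iff'.1 hfr1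
    refine ⟨v, hvI, fun h => hv (Subtype.ext h), fun w hw => ?_⟩
    obtain ⟨a, ha⟩ := hsp ⟨w, hw⟩
    exact ⟨a, (congrArg Subtype.val ha).symm⟩
  obtain ⟨f, hf⟩ := transv_of_range hv (fun w => hspan _ ⟨w, rfl⟩) (hIK hvI) ht1
  exact ⟨v, f, hv, hf⟩

/-- the cube of an element of order 9 of `GL₆(2)` -/
theorem cube_fix (hF : Fintype.card F = 2) (hV : finrank F V = 6) {g : V ≃ₗ[F] V} (hg : orderOf g = 9) :
    ∀ v, v + (g ^ 3) v + (g ^ 3) ((g ^ 3) v) = 0 := by
  classical
  have hfin : FiniteDimensional F V := Module.Finite.of_finite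
  have p3 : Fact (Nat.Prime 3) := ⟨by norm_num⟩
  have hd : orderOf (g ^ 3) = 3 := by
    rw [orderOf_pow_of_dvd (by norm_num) (by rw [hg]; norm_num), hg]
  obtain ⟨k, hk, hk1, hk2⟩ := card_fixF hd
  rw [hV] at hk
  rw [hF] at hk1
  have hcV : Fintype.card V = 64 := by
    rw [Module.card_eq_pow_finrank (K := F), hF, hV]; norm_num
  let S := {v : V // (g ^ 3) v ≠ v}
  have hgp : ∀ (z : Subgroup.zpowers g) (v : V), (g ^ 3) ((z : V ≃ₗ[F] V) v) = (z : V ≃ₗ[F] V) ((g ^ 3) v) := by
    intro z v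
    obtain ⟨n, hn⟩ := Subgroup.mem_zpowers_iff.1 z.2
    have h1 : Commute (g ^ 3) (z : V ≃ₗ[F] V) := by
      rw [← hn]
      exact ((Commute.refl g).pow_left 3).zpow_right n
    exact congrArg (fun φ : V ≃ₗ[F] V => φ v) h1.eq
  let act : MulAction (Subgroup.zpowers g) S :=
    { smul := fun z v => ⟨(z : V ≃ₗ[F] V) v.1, fun h => v.2 (by
        rw [hgp] at h
        exact (z : V ≃ₗ[F] V).injective h)⟩
      one_smul := fun v => rfl
      mul_smul := fun a b v => rfl }
  have h9 : 9 ∣ Nat.card S := by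
    have h1 : Nat.card (Subgroup.zpowers g) ∣ Nat.card S := by
      refine Cfsg.Agent.H180.MEl.card_dvd_of_free (G := Subgroup.zpowers g) (α := S) fun v => ?_
      rw [eq_bot_iff]
      intro z hz
      rw [Subgroup.mem_bot]
      by_contra hz1
      have hzv : (z : V ≃ₗ[F] V) v.1 = v.1 := congrArg Subtype.val hz
      obtain ⟨n, hn⟩ : ∃ n : ℕ, g ^ n = (z : V ≃ₗ[F] V) := by
        have hfo : IsOfFinOrder g := orderOf_pos_iff.1 (by rw [hg]; norm_num)
        have h3 : (z : V ≃ₗ[F] V) ∈ Submonoid.powers g := hfo.mem_powers_iff_mem_zpowers.2 z.2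
        exact h3
      have h9n : ¬ 9 ∣ n := by
        intro h3
        apply hz1
        apply Subtype.ext
        rw [← hn]
        obtain ⟨m, rfl⟩ := h3
        rw [pow_mul, ← hg, pow_orderOf_eq_one, one_pow]
        rfl
      have h3 : ∃ m : ℕ, (n * m) % 9 = 3 := by
        have h4 : ∀ r : ℕ, r < 9 → r ≠ 0 → ∃ m : ℕ, (r * m) % 9 = 3 := by
          intro r hr hr0
          interval_cases r
          · exact absurd rfl hr0
          · exact ⟨3, rfl⟩
          · exact ⟨6, rfl⟩
          · exact ⟨1, rfl⟩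
          · exact ⟨3, rfl⟩
          · exact ⟨6, rfl⟩
          · exact ⟨2, rfl⟩
          · exact ⟨3, rfl⟩
          · exact ⟨6, rfl⟩
        obtain ⟨m, hm⟩ := h4 (n % 9) (Nat.mod_lt _ (by norm_num)) (by omega)
        exact ⟨m, by rw [Nat.mul_mod, ← Nat.mod_mod n 9, ← Nat.mul_mod, hm]⟩
      obtain ⟨m, hm⟩ := h3
      apply v.2
      have h4 : (z : V ≃ₗ[F] V) ^ m = g ^ 3 := by
        rw [← hn, ← pow_mul, ← hm, ← hg, pow_mod_orderOf]
      have h5 : ∀ m : ℕ, ((z : V ≃ₗ[F] V) ^ m) v.1 = v.1 := by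
        intro m
        induction m with
        | zero => rfl
        | succ m ih =>
          rw [pow_succ']
          show (z : V ≃ₗ[F] V) (((z : V ≃ₗ[F] V) ^ m) v.1) = v.1
          rw [ih, hzv]
      exact (congrArg (fun φ : V ≃ₗ[F] V => φ v.1) h4).symm.trans (h5 m)
    rwa [Nat.card_zpowers, hg] at h1
  have hS : Nat.card S + (fixF (g ^ 3)).card = 64 := by
    have h1 : Nat.card S = (Finset.univ.filter fun v => (g ^ 3) v ≠ v).card := by
      rw [Nat.card_eq_fintype_card, Fintype.card_subtype]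
    rw [h1, ← hcV, ← Finset.card_univ]
    have h2 := Finset.card_filter_add_card_filter_not (s := (Finset.univ : Finset V)) (fun v => (g ^ 3) v = v)
    rw [add_comm]
    exact h2
  have hk0 : k = 0 := by
    rw [hk1] at hS
    interval_cases k <;> omega
  rw [hk0, pow_zero] at hk1
  intro v
  have h1 : v + (g ^ 3) v + (g ^ 3) ((g ^ 3) v) ∈ fixF (g ^ 3) := by
    rw [mem_fixF, map_add, map_add]
    have h3 : (g ^ 3) ((g ^ 3) ((g ^ 3) v)) = v := by
      have h4 : (g ^ 3) ^ 3 = 1 := by
        rw [← pow_mul, show 3 * 3 = orderOf g by rw [hg], pow_orderOf_eq_one]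
      have h5 := congrArg (fun φ : V ≃ₗ[F] V => φ v) h4
      exact h5
    rw [h3]
    abel
  obtain ⟨a, ha⟩ := Finset.card_eq_one.1 hk1
  have h0 := zero_mem_fixF (g ^ 3)
  rw [ha, Finset.mem_singleton] at h0
  rw [ha, Finset.mem_singleton, ← h0] at h1
  exact h1

end

section Eig

variable {F : Type*} [Field F] {V : Type*} [AddCommGroup V] [Module F V]

/-- the eigenspace -/
def eig (h : V ≃ₗ[F] V) (c : F) : Submodule F V where
  carrier := {v | h v = c • v}
  add_mem' := fun {a b} ha hb => by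
    show h (a + b) = c • (a + b)
    rw [map_add, ha, hb, smul_add]
  zero_mem' := by
    show h 0 = c • (0 : V)
    rw [map_zero, smul_zero]
  smul_mem' := fun d {a} ha => by
    show h (d • a) = c • d • a
    rw [map_smul, ha, smul_comm]

theorem mem_eig {h : V ≃ₗ[F] V} {c : F} {v : V} : v ∈ eig h c ↔ h v = c • v := Iff.rfl

end Eig

section Four

variable {F : Type*} [Field F] [Fintype F] {V : Type*} [AddCommGroup V] [Module F V] [Fintype V] [DecidableEq V]

/-- an element of order 3 commuting with an element of order 7 of `GL₄(4)` -/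
theorem isHom_of_comm (hF : Fintype.card F = 4) (hV : finrank F V = 4) {h z : V ≃ₗ[F] V} (hz : orderOf z = 7)
    (hc : Commute h z) (h3 : h ^ 3 = 1) (hns : ∀ c : F, ∃ v, h v ≠ c • v) :
    ∃ (lam mu : F) (c : V), lam ≠ 0 ∧ mu ≠ 0 ∧ lam ≠ mu ∧ c ≠ 0 ∧ IsHom h lam mu c ∧ finrank F (eig h lam) = 3 := by
  classical
  have hfin : FiniteDimensional F V := Module.Finite.of_finite
  have p7 : Fact (Nat.Prime 7) := ⟨by norm_num⟩
  have h2 := two_eq_zero_of_card hF
  have hz7 : z ^ 7 = 1 := by rw [← hz, pow_orderOf_eq_one]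
  have hhh : ∀ v, h (h (h v)) = v := fun v => congrArg (fun φ : V ≃ₗ[F] V => φ v) h3
  have hcz : ∀ v, h (z v) = z (h v) := fun v => congrArg (fun φ : V ≃ₗ[F] V => φ v) hc.eq
  have hcV : Fintype.card V = 256 := by
    rw [Module.card_eq_pow_finrank (K := F), hF, hV]; norm_num
  obtain ⟨ω, hω0, hω1⟩ : ∃ ω : F, ω ≠ 0 ∧ ω ≠ 1 := by
    by_contra hno
    push Not at hno
    have h4 : (Finset.univ : Finset F) ⊆ {0, 1} := by
      intro a _
      rw [Finset.mem_insert, Finset.mem_singleton]
      by_cases ha : a = 0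
      · exact Or.inl ha
      · exact Or.inr (hno a ha)
    have h5 := (Finset.card_le_card h4).trans Finset.card_le_two
    rw [Finset.card_univ, hF] at h5
    norm_num at h5
  have hω3 : ω ^ 3 = 1 := by
    have := FiniteField.pow_card_sub_one_eq_one ω hω0
    rwa [hF] at this
  have hωs : 1 + ω + ω ^ 2 = 0 := by
    have h4 : (ω - 1) * (1 + ω + ω ^ 2) = 0 := by
      have : (ω - 1) * (1 + ω + ω ^ 2) = ω ^ 3 - 1 := by ring
      rw [this, hω3, sub_self]
    exact (mul_eq_zero.1 h4).resolve_left (sub_ne_zero.2 hω1)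
  -- fixed vectors of `z`
  obtain ⟨k, hk, hk1, hk2⟩ := card_fixF hz
  rw [hF, hV] at hk2
  rw [hF] at hk1
  rw [hV] at hk
  have hk3 : k = 1 := by
    interval_cases k <;> first | rfl | (exfalso; revert hk2; decide)
  rw [hk3, pow_one] at hk1
  obtain ⟨c, hcf, hc0⟩ := Finset.exists_mem_ne (show 1 < (fixF z).card by rw [hk1]; norm_num) 0
  have hzc : z c = c := mem_fixF.1 hcf
  have hfz : ∀ w, z w = w → ∃ a : F, w = a • c := by
    intro w hw
    have h4 : (Finset.univ.image fun a : F => a • c) = fixF z := by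
      apply Finset.eq_of_subset_of_card_le
      · intro u hu
        obtain ⟨a, -, rfl⟩ := Finset.mem_image.1 hu
        rw [mem_fixF, map_smul, hzc]
      · rw [hk1, Finset.card_image_of_injective _ (smul_left_injective F hc0), Finset.card_univ, hF]
    have h5 : w ∈ fixF z := mem_fixF.2 hw
    rw [← h4] at h5
    obtain ⟨a, -, ha⟩ := Finset.mem_image.1 h5
    exact ⟨a, ha.symm⟩
  obtain ⟨mu, hmu⟩ := hfz (h c) (by rw [← hcz, hzc])
  have hmu0 : mu ≠ 0 := by
    rintro rfl
    rw [zero_smul] at hmu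
    exact hc0 (h.map_eq_zero_iff.1 hmu)
  -- sizes of the eigenspaces
  have hcard : ∀ a : F, 4 ^ finrank F (eig h a) ≡ 4 ^ finrank F (eig h a ⊓ fixS z : Submodule F V) [MOD 7] := by
    intro a
    let S : Finset V := Finset.univ.filter fun w => w ∈ eig h a
    have hmS : ∀ w, w ∈ S ↔ w ∈ eig h a := fun w => by rw [Finset.mem_filter]; exact and_iff_right (Finset.mem_univ _)
    have hm := card_mod' hz7 S (by
      intro w hw
      have h4 := mem_eig.1 ((hmS w).1 hw)
      refine (hmS _).2 (mem_eig.2 ?_)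
      rw [hcz, h4, map_smul])
    rwa [card_sub (eig h a) S hmS, hF, card_sub (eig h a ⊓ fixS z) (S ∩ fixF z) (fun w => by
      rw [Finset.mem_inter, hmS, mem_fixF]
      rfl), hF] at hm
  have hle4 : ∀ a : F, finrank F (eig h a) ≤ 4 := fun a => by rw [← hV]; exact Submodule.finrank_le _
  have hfixfr : finrank F (fixS z) = 1 := by
    have h4 := card_sub (fixS z) (fixF z) (fun w => by rw [mem_fixF]; rfl)
    rw [hk1, hF] at h4
    have h5 : (4 : ℕ) ^ 1 = 4 ^ finrank F (fixS z) := by rw [pow_one]; exact h4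
    exact (Nat.pow_right_injective (le_refl 2 |>.trans (by norm_num)) h5).symm
  have hcmu : c ∈ eig h mu ⊓ fixS z := ⟨mem_eig.2 hmu, hzc⟩
  have hfmu : finrank F (eig h mu) = 1 := by
    have h4 : finrank F (eig h mu ⊓ fixS z : Submodule F V) = 1 := by
      apply le_antisymm
      · rw [← hfixfr]; exact Submodule.finrank_mono inf_le_right
      · rw [Nat.succ_le_iff, Nat.pos_iff_ne_zero]
        intro h5
        rw [Submodule.finrank_eq_zero] at h5
        rw [h5] at hcmu
        exact hc0 hcmu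
    have h5 := hcard mu
    rw [h4] at h5
    have h6 := hle4 mu
    have h7 : finrank F (eig h mu) ≠ 4 := by
      intro h8
      have h9 : eig h mu = ⊤ := Submodule.eq_top_of_finrank_eq (by rw [h8, hV])
      obtain ⟨v, hv⟩ := hns mu
      exact hv (mem_eig.1 (by rw [h9]; trivial))
    set j := finrank F (eig h mu)
    interval_cases j <;> first | rfl | exact absurd rfl h7 | (exfalso; revert h5; decide)
  have hoth : ∀ a : F, a ≠ mu → finrank F (eig h a) = 0 ∨ finrank F (eig h a) = 3 := by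
    intro a ha
    have h4 : finrank F (eig h a ⊓ fixS z : Submodule F V) = 0 := by
      rw [Submodule.finrank_eq_zero, eq_bot_iff]
      rintro w ⟨hw1, hw2⟩
      obtain ⟨b, rfl⟩ := hfz w hw2
      have h5 : h (b • c) = a • b • c := hw1
      rw [map_smul, hmu, smul_comm] at h5
      have h6 : (mu - a) • b • c = 0 := by rw [sub_smul, h5, sub_self]
      exact (smul_eq_zero.1 h6).resolve_left (sub_ne_zero.2 ha.symm)
    have h5 := hcard a
    rw [h4] at h5
    have h6 := hle4 a
    set j := finrank F (eig h a)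
    interval_cases j <;> first | exact Or.inl rfl | exact Or.inr rfl | (exfalso; revert h5; decide)
  -- the projections
  have hproj : ∀ (a : F), a ^ 3 = 1 → ∀ v, v + a ^ 2 • h v + a • h (h v) ∈ eig h a := by
    intro a ha v
    rw [mem_eig, map_add, map_add, map_smul, map_smul, hhh, smul_add, smul_add, smul_smul, smul_smul,
      show a * a ^ 2 = 1 by rw [← ha]; ring, one_smul, show a * a = a ^ 2 by ring]
    abel
  have hsum : ∀ v, (v + (1 : F) ^ 2 • h v + (1 : F) • h (h v)) + (v + ω ^ 2 • h v + ω • h (h v)) +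
      (v + (ω ^ 2) ^ 2 • h v + ω ^ 2 • h (h v)) = v := by
    intro v
    have e1 : (v + (1 : F) ^ 2 • h v + (1 : F) • h (h v)) + (v + ω ^ 2 • h v + ω • h (h v)) +
      (v + (ω ^ 2) ^ 2 • h v + ω ^ 2 • h (h v)) = (v + v + v) + (1 + ω ^ 2 + ω ^ 4) • h v + (1 + ω + ω ^ 2) • h (h v) := by
      simp only [add_smul, one_smul, one_pow]
      rw [show (ω ^ 2) ^ 2 = ω ^ 4 by ring]
      abel
    have e2 : 1 + ω ^ 2 + ω ^ 4 = 0 := by
      rw [← hωs, show ω ^ 4 = ω ^ 3 * ω by ring, hω3]
      ring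
    have e3 : v + v = 0 := by rw [← two_smul F v, h2, zero_smul]
    rw [e1, e2, hωs, zero_smul, zero_smul, add_zero, add_zero, e3, zero_add]
  have hcount : 4 ≤ finrank F (eig h 1) + finrank F (eig h ω) + finrank F (eig h (ω ^ 2)) := by
    let φ : V → eig h (1 : F) × eig h ω × eig h (ω ^ 2) := fun v =>
      (⟨_, hproj 1 (one_pow 3) v⟩, ⟨_, hproj ω hω3 v⟩, ⟨_, hproj (ω ^ 2) (by
        rw [← pow_mul, mul_comm, pow_mul, hω3, one_pow]) v⟩)
    have hφ : Function.Injective φ := by
      intro u v huv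
      have e1 := congrArg (fun q => (q.1 : V)) huv
      have e2 := congrArg (fun q => (q.2.1 : V)) huv
      have e3 := congrArg (fun q => (q.2.2 : V)) huv
      have e4 := hsum u
      have e5 := hsum v
      rw [← e4, ← e5]
      exact congrArg₂ (· + ·) (congrArg₂ (· + ·) e1 e2) e3
    have h4 := Nat.card_le_card_of_injective φ hφ
    rw [Nat.card_prod, Nat.card_prod, Module.natCard_eq_pow_finrank (K := F) (V := eig h (1 : F)),
      Module.natCard_eq_pow_finrank (K := F) (V := eig h ω), Module.natCard_eq_pow_finrank (K := F) (V := eig h (ω ^ 2)),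
      Nat.card_eq_fintype_card, Nat.card_eq_fintype_card, hF, hcV, ← pow_add, ← pow_add] at h4
    have h5 : (4 : ℕ) ^ 4 ≤ 4 ^ (finrank F (eig h 1) + (finrank F (eig h ω) + finrank F (eig h (ω ^ 2)))) := by
      norm_num at h4 ⊢
      exact h4
    have h6 := (Nat.pow_le_pow_iff_right (by norm_num)).1 h5
    omega
  obtain ⟨lam, hlm, hl0, hl3⟩ : ∃ lam : F, lam ≠ mu ∧ lam ≠ 0 ∧ finrank F (eig h lam) = 3 := by
    by_contra hno
    push Not at hno
    have key : ∀ a : F, a ≠ 0 → finrank F (eig h a) ≤ if a = mu then 1 else 0 := by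
      intro a ha
      split_ifs with hh
      · rw [hh, hfmu]
      · rcases hoth a hh with h4 | h4
        · rw [h4]
        · exact absurd h4 (hno a hh ha)
    have k1 := key 1 one_ne_zero
    have k2 := key ω hω0
    have k3 := key (ω ^ 2) (pow_ne_zero 2 hω0)
    have hω2 : ω ^ 2 ≠ 1 := by
      intro h4
      rw [h4] at hωs
      apply hω0
      have : (1 : F) + ω + 1 = ω + 2 := by ring
      rw [this, h2, add_zero] at hωs
      exact hωs
    have hω2' : ω ^ 2 ≠ ω := by
      intro h4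
      rw [pow_two] at h4
      exact hω1 (mul_left_cancel₀ hω0 (h4.trans (mul_one ω).symm))
    split_ifs at k1 k2 k3 with a1 a2 a3 <;> first | omega | (exfalso; simp_all)
  refine ⟨lam, mu, c, hl0, hmu0, hlm, hc0, ⟨hmu, fun v => ?_⟩, hl3⟩
  -- `V` is the sum of the eigenspace and the line
  have hcU : c ∉ eig h lam := by
    intro h4
    rw [mem_eig, hmu] at h4
    have h6 : (mu - lam) • c = 0 := by rw [sub_smul, h4, sub_self]
    exact hc0 ((smul_eq_zero.1 h6).resolve_left (sub_ne_zero.2 hlm.symm))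
  have htop : eig h lam ⊔ Submodule.span F {c} = ⊤ := by
    apply Submodule.eq_top_of_finrank_eq
    have h4 : eig h lam < eig h lam ⊔ Submodule.span F {c} := by
      refine lt_of_le_of_ne le_sup_left fun h5 => hcU ?_
      rw [h5]
      exact Submodule.mem_sup_right (Submodule.mem_span_singleton_self c)
    have h5 := Submodule.finrank_lt_finrank_of_lt h4
    have h6 := Submodule.finrank_le (eig h lam ⊔ Submodule.span F {c})
    rw [hl3] at h5
    rw [hV] at h6 ⊢
    omega
  have hv : v ∈ eig h lam ⊔ Submodule.span F {c} := by rw [htop]; trivial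
  obtain ⟨u, hu, w, hw, rfl⟩ := Submodule.mem_sup.1 hv
  obtain ⟨a, rfl⟩ := Submodule.mem_span_singleton.1 hw
  refine ⟨a * (mu - lam), ?_⟩
  rw [map_add, map_smul, hmu, mem_eig.1 hu, smul_add, smul_smul, smul_smul, mul_sub, sub_smul, mul_comm lam a]
  abel

/-- an involution commuting with a homology is a transvection -/
theorem transv_of_hom (hF : Fintype.card F = 4) (hV : finrank F V = 4) {t h : V ≃ₗ[F] V} (ht : t ^ 2 = 1) (ht1 : t ≠ 1)
    (hc : Commute t h) {lam mu : F} {c : V} (hlm : lam ≠ mu) (hc0 : c ≠ 0) (hh : IsHom h lam mu c) :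
    ∃ (v : V) (f : Dual F V), v ≠ 0 ∧ f ≠ 0 ∧ f v = 0 ∧ ∀ w, t w = w + f w • v := by
  classical
  have hfin : FiniteDimensional F V := Module.Finite.of_finite
  have h2 := two_eq_zero_of_card hF
  have hth : ∀ w, t (h w) = h (t w) := fun w => congrArg (fun φ : V ≃ₗ[F] V => φ w) hc.eq
  have hNh : ∀ w, Nm t (h w) = h (Nm t w) := by
    intro w
    rw [Nm_apply, Nm_apply, map_sub, hth]
  have hmuline : ∀ w, h w = mu • w → ∃ b : F, w = b • c := by
    intro w hw
    obtain ⟨a, ha⟩ := hh.2 w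
    rw [hw] at ha
    refine ⟨(mu - lam)⁻¹ * a, ?_⟩
    have h3 : (mu - lam) • w = a • c := by rw [sub_smul, ha, add_sub_cancel_left]
    rw [mul_smul, ← h3, smul_smul, inv_mul_cancel₀ (sub_ne_zero.2 hlm.symm), one_smul]
  have hNc : Nm t c = 0 := by
    obtain ⟨b, hb⟩ := hmuline (Nm t c) (by rw [← hNh, hh.1, map_smul])
    have h3 := Nm_Nm h2 ht c
    rw [hb, map_smul, hb, smul_smul] at h3
    have h4 : b = 0 := by
      rcases smul_eq_zero.1 h3 with h5 | h5
      · exact mul_self_eq_zero.1 h5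
      · exact absurd h5 hc0
    rw [hb, h4, zero_smul]
  -- the image lies in the other eigenspace
  have hIm : ∀ w, h (Nm t w) = lam • Nm t w := by
    intro w
    obtain ⟨a, ha⟩ := hh.2 w
    rw [← hNh, ha, map_add, map_smul, map_smul, hNc, smul_zero, add_zero]
  set I := LinearMap.range (Nm t) with hI
  have hIK : I ≤ LinearMap.ker (Nm t) := by
    rintro _ ⟨w, rfl⟩
    exact Nm_Nm h2 ht w
  have hcI : c ∉ I := by
    rintro ⟨w, hw⟩
    have h3 := hIm w
    rw [hw, hh.1] at h3
    have h6 : (mu - lam) • c = 0 := by rw [sub_smul, h3, sub_self]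
    exact hc0 ((smul_eq_zero.1 h6).resolve_left (sub_ne_zero.2 hlm.symm))
  have hlt : I < LinearMap.ker (Nm t) := by
    refine lt_of_le_of_ne hIK fun h3 => hcI ?_
    rw [h3]
    exact hNc
  have hfr := LinearMap.finrank_range_add_finrank_ker (Nm t)
  have h4 := Submodule.finrank_lt_finrank_of_lt hlt
  rw [← hI, hV] at hfr
  have hfr1 : finrank F I = 1 := by
    have h3 : finrank F I ≠ 0 := by
      intro h0
      apply Nm_ne_zero ht1
      exact LinearMap.range_eq_bot.1 (Submodule.finrank_eq_zero.1 h0)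
    omega
  obtain ⟨v, hvI, hv, hspan⟩ : ∃ v ∈ I, v ≠ 0 ∧ ∀ w ∈ I, ∃ a : F, w = a • v := by
    obtain ⟨⟨v, hvI⟩, hv, hsp⟩ := finrank_eq_one_iff'.1 hfr1
    refine ⟨v, hvI, fun h => hv (Subtype.ext h), fun w hw => ?_⟩
    obtain ⟨a, ha⟩ := hsp ⟨w, hw⟩
    exact ⟨a, (congrArg Subtype.val ha).symm⟩
  obtain ⟨f, hf⟩ := transv_of_range hv (fun w => hspan _ ⟨w, rfl⟩) (hIK hvI) ht1
  exact ⟨v, f, hv, hf⟩

end Four

end Cfsg.Agent.H180.LEl
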