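import Cfsg.Agent.H180.LElBase

/-!
# Subgroups of `GL₆(2)` (team ELUSIVE, small groups)
-/

set_option autoImplicit false

namespace Cfsg.Agent.H180.LEl

open Module

section Two

variable {F : Type*} [Field F] [Fintype F] (hF : Fintype.card F = 2)
include hF

theorem two_cases (c : F) : c = 0 ∨ c = 1 := by
  classical
  by_contra h
  push Not at h
  have h1 : ({0, 1, c} : Finset F).card ≤ 2 := by
    rw [← hF]
    exact Finset.card_le_univ _
  rw [Finset.card_insert_of_notMem, Finset.card_pair h.2.symm] at h1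
  · norm_num at h1
  · rw [Finset.mem_insert, Finset.mem_singleton]
    push Not
    exact ⟨zero_ne_one, h.1.symm⟩

theorem one_add_one' : (1 : F) + 1 = 0 := by
  rcases two_cases hF ((1 : F) + 1) with h | h
  · exact h
  · exact absurd (add_eq_left.1 h) one_ne_zero

theorem add_self' {V : Type*} [AddCommGroup V] [Module F V] (v : V) : v + v = 0 := by
  have h : ((1 : F) + 1) • v = 0 := by rw [one_add_one' hF, zero_smul]
  rwa [add_smul, one_smul] at h

theorem odd_ne_zero {n : ℕ} (hn : Odd n) : (n : F) ≠ 0 := by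
  obtain ⟨k, rfl⟩ := hn
  push_cast
  have h : (2 : F) = 0 := by
    rw [← one_add_one_eq_two]
    exact one_add_one' hF
  rw [h, zero_mul, zero_add]
  exact one_ne_zero

end Two

section Dual

variable {F : Type*} [Field F] {V : Type*} [AddCommGroup V] [Module F V]

/-- functionals vanishing on `v` -/
def ann (v : V) : Submodule F (Dual F V) where
  carrier := {f | f v = 0}
  add_mem' := fun {a b} ha hb => by
    show (a + b) v = 0
    rw [LinearMap.add_apply, ha, hb, add_zero]
  zero_mem' := rfl
  smul_mem' := fun c {a} ha => by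
    show (c • a) v = 0
    rw [LinearMap.smul_apply, ha, smul_zero]

theorem exists_dual_ne [FiniteDimensional F V] {v : V} (hv : v ≠ 0) : ∃ f : Dual F V, f v ≠ 0 := by
  by_contra h
  push Not at h
  exact hv ((Module.forall_dual_apply_eq_zero_iff F v).1 h)

theorem finrank_ann [FiniteDimensional F V] {v : V} (hv : v ≠ 0) :
    finrank F (ann v : Submodule F (Dual F V)) < finrank F V := by
  rw [← Subspace.dual_finrank_eq (K := F) (V := V)]
  apply Submodule.finrank_lt
  intro h
  obtain ⟨f, hf⟩ := exists_dual_ne (F := F) hv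
  have : f ∈ (ann v : Submodule F (Dual F V)) := by rw [h]; trivial
  exact hf this

theorem card_sub [Fintype F] {M : Type*} [AddCommGroup M] [Module F M] [FiniteDimensional F M] (W : Submodule F M) (S : Finset M)
    (h : ∀ m, m ∈ S ↔ m ∈ W) : S.card = Fintype.card F ^ finrank F W := by
  rw [← Nat.card_eq_fintype_card, ← Module.natCard_eq_pow_finrank (K := F) (V := W), ← Fintype.card_coe, ← Nat.card_eq_fintype_card]
  exact Nat.card_congr (Equiv.subtypeEquivRight h)

theorem card_ann_le [Fintype F] [FiniteDimensional F V] {v : V} (hv : v ≠ 0) (A : Finset (Dual F V))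
    (h : ∀ f, f ∈ A ↔ f v = 0) {n : ℕ} (hV : finrank F V = n + 1) : A.card ≤ Fintype.card F ^ n := by
  rw [card_sub (ann v : Submodule F (Dual F V)) A h]
  have := finrank_ann (F := F) hv
  exact Nat.pow_le_pow_right Fintype.card_pos (by omega)

theorem dualMap_pow (x : V ≃ₗ[F] V) (n : ℕ) (f : Dual F V) : (x.dualMap ^ n) f = f.comp (x ^ n : V ≃ₗ[F] V).toLinearMap := by
  induction n generalizing f with
  | zero => rfl
  | succ n ih =>
    rw [pow_succ, pow_succ']
    show (x.dualMap ^ n) (x.dualMap f) = _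
    rw [ih]
    rfl

theorem dualMap_pow_eq_one {x : V ≃ₗ[F] V} {p : ℕ} (hx : x ^ p = 1) : x.dualMap ^ p = 1 := by
  ext f v
  rw [dualMap_pow, hx]
  rfl

end Dual

/-- from one vector to all vectors -/
theorem hasT_all {F : Type*} [Field F] {V : Type*} [AddCommGroup V] [Module F V] {X : Subgroup (V ≃ₗ[F] V)}
    (htr : ∀ u w : V, u ≠ 0 → w ≠ 0 → ∃ g ∈ X, g u = w) {v0 : V} (hv0 : v0 ≠ 0)
    (h0 : ∀ f : Dual F V, f v0 = 0 → HasT X v0 f) (v : V) (f : Dual F V) (hf : f v = 0) : HasT X v f := by
  by_cases hv : v = 0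
  · refine ⟨1, X.one_mem, fun w => ?_⟩
    rw [hv, smul_zero, add_zero]
    rfl
  obtain ⟨g, hg, hgv⟩ := htr v0 v hv0 hv
  have h1 := (h0 (f.comp g.toLinearMap) (by rw [LinearMap.comp_apply]; exact (congrArg f hgv).trans hf)).conj hg
  rw [hgv] at h1
  have e : (f.comp g.toLinearMap).comp (g⁻¹ : V ≃ₗ[F] V).toLinearMap = f := by
    ext w
    exact congrArg f (LinearEquiv.apply_symm_apply g w)
  rwa [e] at h1

theorem order_three {F : Type*} [Field F] {V : Type*} [AddCommGroup V] [Module F V] {d : V ≃ₗ[F] V} (hd : ∀ v, v + d v + d (d v) = 0) : d ^ 3 = 1 := by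
  ext v
  have h1 := hd v
  have h2 := hd (d v)
  show d (d (d v)) = v
  have h3 : v + d v + d (d v) = d v + d (d v) + d (d (d v)) := by rw [h1, h2]
  rw [add_assoc, add_comm v] at h3
  exact (add_left_cancel h3).symm

section Main

variable {F : Type*} [Field F] [Fintype F] {V : Type*} [AddCommGroup V] [Module F V] [Fintype V] [DecidableEq V]

/-- the main theorem for `GL₆(2)` -/
theorem main6 (hF : Fintype.card F = 2) (hV : finrank F V = 6) {X : Subgroup (V ≃ₗ[F] V)} {x : V ≃ₗ[F] V}
    (hxX : x ∈ X) (hx : orderOf x = 31) {d : V ≃ₗ[F] V} (hdX : d ∈ X) (hd : ∀ v, v + d v + d (d v) = 0)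
    {v1 : V} {f1 : Dual F V} (h1 : HasT X v1 f1) (hv1 : v1 ≠ 0) (hf1 : f1 ≠ 0) (hfv1 : f1 v1 = 0) :
    ∀ (v : V) (f : Dual F V), f v = 0 → HasT X v f := by
  classical
  have hfin : FiniteDimensional F V := Module.Finite.of_finite
  have hcV : Fintype.card V = 64 := by
    rw [Module.card_eq_pow_finrank (K := F), hF, hV]; norm_num
  have p31 : Fact (Nat.Prime 31) := ⟨by norm_num⟩
  have p3 : Fact (Nat.Prime 3) := ⟨by norm_num⟩
  have hx31 : x ^ 31 = 1 := by rw [← hx, pow_orderOf_eq_one]
  -- the fixed vectors of `x`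
  obtain ⟨k, hk, hk1, hk2⟩ := card_fixF hx
  rw [hF, hV] at hk2
  rw [hF] at hk1
  rw [hV] at hk
  have hfix : (fixF x).card = 2 := by
    have hk3 : k = 1 := by
      interval_cases k <;> first | rfl | (exfalso; revert hk2; decide)
    rw [hk1, hk3, pow_one]
  obtain ⟨v0, hv0⟩ : ∃ v0, fixF x = {0, v0} := by
    obtain ⟨a, b, hab, hab'⟩ := Finset.card_eq_two.1 hfix
    have h0 := zero_mem_fixF x
    rw [hab', Finset.mem_insert, Finset.mem_singleton] at h0
    rcases h0 with rfl | rfl
    · exact ⟨b, hab'⟩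
    · exact ⟨a, by rw [hab', Finset.pair_comm]⟩
  have hv00 : v0 ≠ 0 := by
    rintro rfl
    rw [hv0] at hfix
    simp at hfix
  have hxv0 : x v0 = v0 := mem_fixF.1 (by rw [hv0]; simp)
  have hfixd : ∀ v, d v = v → v = 0 := by
    intro v hv
    have := hd v
    rw [hv, hv, add_self' hF, zero_add] at this
    exact this
  -- transitivity
  have htr : ∀ u w : V, u ≠ 0 → w ≠ 0 → ∃ g ∈ X, g u = w := by
    apply trans_of_card hv00
    have m1 := card_mod' hx31 (orb X v0) (orb_inv hxX)
    have m2 := card_mod' (order_three hd) (orb X v0) (orb_inv hdX)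
    have e1 : orb X v0 ∩ fixF x = {v0} := by
      ext w
      rw [Finset.mem_inter, hv0, Finset.mem_insert, Finset.mem_singleton]
      constructor
      · rintro ⟨h1, h2 | h2⟩
        · exact absurd h2 (orb_ne_zero hv00 h1)
        · exact h2
      · rintro rfl
        exact ⟨self_mem_orb X w, Or.inr rfl⟩
    have e2 : orb X v0 ∩ fixF d = ∅ := by
      rw [Finset.eq_empty_iff_forall_notMem]
      intro w hw
      rw [Finset.mem_inter, mem_fixF] at hw
      exact orb_ne_zero hv00 hw.1 (hfixd w hw.2)
    rw [e1, Finset.card_singleton] at m1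
    rw [e2, Finset.card_empty] at m2
    have hle : (orb X v0).card ≤ 63 := by
      have := Finset.card_le_card (orb_sub (X := X) hv00)
      rw [Finset.card_erase_of_mem (Finset.mem_univ _), Finset.card_univ, hcV] at this
      exact this
    have hpos := orb_pos X v0
    unfold Nat.ModEq at m1 m2
    rw [hcV]
    omega
  -- the transvections with center `v0`
  have hfinD : Finite (Dual F V) := Module.finite_of_finite F
  have : Fintype (Dual F V) := Fintype.ofFinite _
  refine hasT_all htr hv00 ?_
  let E : Finset (Dual F V) := Finset.univ.filter fun f => f v0 = 0 ∧ HasT X v0 f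
  let A : Finset (Dual F V) := Finset.univ.filter fun f => f v0 = 0
  have hA : A.card ≤ 32 := by
    have h2 := card_ann_le hv00 A (fun f => by
      rw [Finset.mem_filter]
      exact and_iff_right (Finset.mem_univ _)) (n := 5) hV
    rwa [hF] at h2
  have hEA : E ⊆ A := fun f hf => Finset.mem_filter.2 ⟨Finset.mem_univ _, (Finset.mem_filter.1 hf).2.1⟩
  have hE1 : 1 < E.card := by
    rw [Finset.one_lt_card]
    obtain ⟨g, hg, hgv⟩ := htr v1 v0 hv1 hv00
    have h2 := h1.conj hg
    rw [hgv] at h2
    refine ⟨0, Finset.mem_filter.2 ⟨Finset.mem_univ _, rfl, HasT.zero X v0⟩, _,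
      Finset.mem_filter.2 ⟨Finset.mem_univ _, ?_, h2⟩, ?_⟩
    · rw [← hgv]
      exact (congrArg f1 (LinearEquiv.symm_apply_apply g v1)).trans hfv1
    · intro h3
      apply hf1
      ext w
      have := congrArg (fun φ : Dual F V => φ (g w)) h3
      simp only [LinearMap.zero_apply] at this
      rw [LinearMap.zero_apply, this]
      exact congrArg f1 (LinearEquiv.symm_apply_apply g w).symm
  have hEm := card_mod' (dualMap_pow_eq_one hx31) E (by
    intro f hf
    obtain ⟨-, h2, h3⟩ := Finset.mem_filter.1 hf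
    refine Finset.mem_filter.2 ⟨Finset.mem_univ _, ?_, ?_⟩
    · show f (x v0) = 0
      rw [hxv0, h2]
    · have h4 := h3.conj' hxX
      have h5 : (x⁻¹ : V ≃ₗ[F] V) v0 = v0 := by
        have h6 : (x⁻¹ : V ≃ₗ[F] V) (x v0) = v0 := LinearEquiv.symm_apply_apply x v0
        rwa [hxv0] at h6
      rw [h5] at h4
      exact h4)
  have hE2 : E ∩ fixF x.dualMap = {0} := by
    ext f
    rw [Finset.mem_inter, mem_fixF, Finset.mem_singleton]
    constructor
    · rintro ⟨h2, h3⟩
      obtain ⟨-, h4, -⟩ := Finset.mem_filter.1 h2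
      refine eq_zero_of_fix hx31 (odd_ne_zero hF (by decide)) (fun v => ?_) fun v hv => ?_
      · exact congrArg (fun φ : Dual F V => φ v) h3
      · have h5 : v ∈ fixF x := mem_fixF.2 hv
        rw [hv0, Finset.mem_insert, Finset.mem_singleton] at h5
        rcases h5 with rfl | rfl
        · exact map_zero f
        · exact h4
    · rintro rfl
      exact ⟨Finset.mem_filter.2 ⟨Finset.mem_univ _, rfl, HasT.zero X v0⟩, map_zero _⟩
  rw [hE2, Finset.card_singleton] at hEm
  have hEA' : E = A := by
    apply Finset.eq_of_subset_of_card_le hEA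
    have h2 := Finset.card_le_card hEA
    unfold Nat.ModEq at hEm
    omega
  intro f hf
  have : f ∈ E := by
    rw [hEA']
    exact Finset.mem_filter.2 ⟨Finset.mem_univ _, hf⟩
  exact (Finset.mem_filter.1 this).2.2

end Main

end Cfsg.Agent.H180.LEl
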