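import Cfsg.Agent.H180.LElSL
import Cfsg.Agent.S0752

/-!
# Subgroups of `GL₇(2)` (team ELUSIVE, small groups)
-/

set_option autoImplicit false

namespace Cfsg.Agent.H180.LEl

open Module

/-- the functionals `f` such that the transvection with center `v` and functional `f` is in `X` -/
def Esub {F : Type*} [Field F] [Fintype F] (hF : Fintype.card F = 2) {V : Type*} [AddCommGroup V] [Module F V]
    (X : Subgroup (V ≃ₗ[F] V)) (v : V) : Submodule F (Dual F V) where
  carrier := {f | f v = 0 ∧ HasT X v f}
  add_mem' := fun {a b} ha hb => ⟨by rw [LinearMap.add_apply, ha.1, hb.1, add_zero], ha.2.add hb.2 ha.1⟩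
  zero_mem' := ⟨rfl, HasT.zero X v⟩
  smul_mem' := fun c {a} ha => by
    rcases two_cases hF c with rfl | rfl
    · rw [zero_smul]; exact ⟨rfl, HasT.zero X v⟩
    · rw [one_smul]; exact ha

section Seven

variable {F : Type*} [Field F] [Fintype F] {V : Type*} [AddCommGroup V] [Module F V] [Fintype V] [DecidableEq V]

omit [Fintype V] [DecidableEq V] in
theorem mem_Esub {hF : Fintype.card F = 2} {X : Subgroup (V ≃ₗ[F] V)} {v : V} {f : Dual F V} :
    f ∈ Esub hF X v ↔ f v = 0 ∧ HasT X v f := Iff.rfl

omit [Fintype V] [DecidableEq V] in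
theorem Esub_comp {hF : Fintype.card F = 2} {X : Subgroup (V ≃ₗ[F] V)} {v : V} {f : Dual F V} {g : V ≃ₗ[F] V}
    (hg : g ∈ X) (h : f ∈ Esub hF X (g v)) : f.comp g.toLinearMap ∈ Esub hF X v := by
  refine ⟨h.1, ?_⟩
  have h2 := h.2.conj' hg
  have h6 : (g⁻¹ : V ≃ₗ[F] V) (g v) = v := LinearEquiv.symm_apply_apply g v
  rwa [h6] at h2

omit [Fintype V] [DecidableEq V] in
theorem Esub_comp' {hF : Fintype.card F = 2} {X : Subgroup (V ≃ₗ[F] V)} {v : V} {f : Dual F V} {g : V ≃ₗ[F] V}
    (hg : g ∈ X) (h : f ∈ Esub hF X v) : f.comp (g⁻¹ : V ≃ₗ[F] V).toLinearMap ∈ Esub hF X (g v) := by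
  refine ⟨?_, h.2.conj hg⟩
  rw [LinearMap.comp_apply]
  exact (congrArg f (LinearEquiv.symm_apply_apply g v)).trans h.1

omit [Fintype V] [DecidableEq V] in
theorem finrank_Esub {hF : Fintype.card F = 2} {X : Subgroup (V ≃ₗ[F] V)} {v : V} {g : V ≃ₗ[F] V}
    (hg : g ∈ X) : finrank F (Esub hF X (g v)) = finrank F (Esub hF X v) := by
  refine LinearEquiv.finrank_eq
    { toFun := fun f => ⟨f.1.comp g.toLinearMap, Esub_comp hg f.2⟩
      map_add' := fun a b => rfl
      map_smul' := fun c a => rfl
      invFun := fun f => ⟨f.1.comp (g⁻¹ : V ≃ₗ[F] V).toLinearMap, Esub_comp' hg f.2⟩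
      left_inv := fun f => ?_
      right_inv := fun f => ?_ }
  · apply Subtype.ext
    ext w
    exact congrArg f.1 (LinearEquiv.apply_symm_apply g w)
  · apply Subtype.ext
    ext w
    exact congrArg f.1 (LinearEquiv.symm_apply_apply g w)

/-- the sizes for a vector fixed by an element of order 31 -/
theorem card_E (hF : Fintype.card F = 2) (hV : finrank F V = 7) {X : Subgroup (V ≃ₗ[F] V)} {x : V ≃ₗ[F] V}
    (hxX : x ∈ X) (hx : orderOf x = 31) {v : V} (hv : v ≠ 0) (hxv : x v = v) (hne : Esub hF X v ≠ ⊥) :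
    (fixF x).card = 4 ∧ (finrank F (Esub hF X v) = 1 ∨ finrank F (Esub hF X v) = 5 ∨ finrank F (Esub hF X v) = 6) := by
  classical
  have hfin : FiniteDimensional F V := Module.Finite.of_finite
  have hfinD : Finite (Dual F V) := Module.finite_of_finite F
  have : Fintype (Dual F V) := Fintype.ofFinite _
  have p31 : Fact (Nat.Prime 31) := ⟨by norm_num⟩
  have hx31 : x ^ 31 = 1 := by rw [← hx, pow_orderOf_eq_one]
  obtain ⟨k, hk, hk1, hk2⟩ := card_fixF hx
  rw [hF, hV] at hk2
  rw [hF] at hk1
  rw [hV] at hk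
  have hfix : (fixF x).card = 4 := by
    have hk3 : k = 2 := by
      interval_cases k <;> first | rfl | (exfalso; revert hk2; decide)
    rw [hk1, hk3]
    norm_num
  refine ⟨hfix, ?_⟩
  let E : Finset (Dual F V) := Finset.univ.filter fun f => f ∈ Esub hF X v
  have hEc : E.card = 2 ^ finrank F (Esub hF X v) := by
    rw [← hF]
    exact card_sub (Esub hF X v) E (fun f => by rw [Finset.mem_filter]; exact and_iff_right (Finset.mem_univ _))
  have hEm := card_mod' (dualMap_pow_eq_one hx31) E (by
    intro f hf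
    have h2 := (Finset.mem_filter.1 hf).2
    refine Finset.mem_filter.2 ⟨Finset.mem_univ _, ?_⟩
    have h3 : f ∈ Esub hF X (x v) := by rw [hxv]; exact h2
    exact Esub_comp hxX h3)
  -- at most two invariant functionals vanish on `v`
  obtain ⟨b, hb⟩ : ∃ b ∈ fixF x, b ≠ 0 ∧ b ≠ v := by
    by_contra hno
    push Not at hno
    have h1 : fixF x ⊆ {0, v} := by
      intro b hb
      rw [Finset.mem_insert, Finset.mem_singleton]
      by_cases h0 : b = 0
      · exact Or.inl h0
      · exact Or.inr (hno b hb h0)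
    have h2 := (Finset.card_le_card h1).trans (Finset.card_le_two)
    rw [hfix] at h2
    norm_num at h2
  have hfix4 : fixF x = {0, v, b, v + b} := by
    symm
    apply Finset.eq_of_subset_of_card_le
    · intro w hw
      simp only [Finset.mem_insert, Finset.mem_singleton] at hw
      rcases hw with rfl | rfl | rfl | rfl
      · exact zero_mem_fixF x
      · exact mem_fixF.2 hxv
      · exact hb.1
      · rw [mem_fixF, map_add, hxv, mem_fixF.1 hb.1]
    · rw [hfix, Finset.card_insert_of_notMem, Finset.card_insert_of_notMem, Finset.card_pair]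
      · intro h
        exact hv (add_eq_right.1 h.symm)
      · rw [Finset.mem_insert, Finset.mem_singleton]
        push Not
        exact ⟨hb.2.2.symm, fun h => hb.2.1 (add_eq_left.1 h.symm)⟩
      · simp only [Finset.mem_insert, Finset.mem_singleton]
        push Not
        refine ⟨hv.symm, hb.2.1.symm, fun h => ?_⟩
        have h3 : b = v := by
          have h4 := add_self' hF v
          rw [← h4] at h
          exact (add_left_cancel h).symm
        exact hb.2.2 h3
  have hdet : ∀ f : Dual F V, (∀ w, f (x w) = f w) → f v = 0 → f b = 0 → f = 0 := by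
    intro f h1 h2 h3
    refine eq_zero_of_fix hx31 (odd_ne_zero hF (by decide)) h1 fun w hw => ?_
    have h5 : w ∈ fixF x := mem_fixF.2 hw
    rw [hfix4] at h5
    simp only [Finset.mem_insert, Finset.mem_singleton] at h5
    rcases h5 with rfl | rfl | rfl | rfl
    · exact map_zero f
    · exact h2
    · exact h3
    · rw [map_add, h2, h3, add_zero]
  have hle : (E ∩ fixF x.dualMap).card ≤ 2 := by
    have h1 : Set.InjOn (fun f : Dual F V => f b) (E ∩ fixF x.dualMap : Finset (Dual F V)) := by
      intro f hf f' hf' he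
      rw [Finset.mem_coe, Finset.mem_inter, mem_fixF] at hf hf'
      have h2 := hdet (f - f') (fun w => by
        rw [LinearMap.sub_apply, LinearMap.sub_apply]
        have e1 : f (x w) = f w := congrArg (fun φ : Dual F V => φ w) hf.2
        have e2 : f' (x w) = f' w := congrArg (fun φ : Dual F V => φ w) hf'.2
        rw [e1, e2]) (by
        rw [LinearMap.sub_apply, (Finset.mem_filter.1 hf.1).2.1, (Finset.mem_filter.1 hf'.1).2.1, sub_zero]) (by
        rw [LinearMap.sub_apply]
        exact sub_eq_zero.2 he)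
      exact sub_eq_zero.1 h2
    rw [← Finset.card_image_of_injOn h1, ← hF, ← Finset.card_univ]
    exact Finset.card_le_univ _
  have hpos : 1 ≤ (E ∩ fixF x.dualMap).card := by
    refine Finset.card_pos.2 ⟨0, Finset.mem_inter.2 ⟨Finset.mem_filter.2 ⟨Finset.mem_univ _, Submodule.zero_mem _⟩, zero_mem_fixF _⟩⟩
  have hfr : finrank F (Esub hF X v) ≤ 6 := by
    have h1 : Esub hF X v ≤ (ann v : Submodule F (Dual F V)) := fun f hf => hf.1
    have h2 := Submodule.finrank_mono h1
    have h3 := finrank_ann (F := F) hv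
    omega
  have hfr0 : finrank F (Esub hF X v) ≠ 0 := fun h => hne (Submodule.finrank_eq_zero.1 h)
  rw [hEc] at hEm
  set j := finrank F (Esub hF X v)
  have hcases : (E ∩ fixF x.dualMap).card = 1 ∨ (E ∩ fixF x.dualMap).card = 2 := by omega
  rcases hcases with h | h <;> rw [h] at hEm <;> interval_cases j <;>
    first
      | exact absurd rfl hfr0
      | exact Or.inl rfl
      | exact Or.inr (Or.inl rfl)
      | exact Or.inr (Or.inr rfl)
      | (exfalso; revert hEm; decide)

/-- the main theorem for `GL₇(2)` -/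
theorem main7 (hF : Fintype.card F = 2) (hV : finrank F V = 7) {X : Subgroup (V ≃ₗ[F] V)} {x y : V ≃ₗ[F] V}
    (hxX : x ∈ X) (hx : orderOf x = 31) (hyX : y ∈ X) (hy : orderOf y = 127)
    {v1 : V} {f1 : Dual F V} (h1 : HasT X v1 f1) (hv1 : v1 ≠ 0) (hf1 : f1 ≠ 0) (hfv1 : f1 v1 = 0) :
    ∀ (v : V) (f : Dual F V), f v = 0 → HasT X v f := by
  classical
  have hfin : FiniteDimensional F V := Module.Finite.of_finite
  have hfinD : Finite (Dual F V) := Module.finite_of_finite F
  have : Fintype (Dual F V) := Fintype.ofFinite _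
  have hcV : Fintype.card V = 128 := by
    rw [Module.card_eq_pow_finrank (K := F), hF, hV]; norm_num
  have p127 : Fact (Nat.Prime 127) := ⟨by norm_num⟩
  have hy127 : y ^ 127 = 1 := by rw [← hy, pow_orderOf_eq_one]
  -- `y` has no fixed vectors
  have hfy : fixF y = {0} := by
    obtain ⟨k, hk, hk1, hk2⟩ := card_fixF hy
    rw [hF, hV] at hk2
    rw [hF] at hk1
    rw [hV] at hk
    have hk3 : k = 0 := by
      interval_cases k <;> first | rfl | (exfalso; revert hk2; decide)
    rw [hk3, pow_zero] at hk1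
    obtain ⟨a, ha⟩ := Finset.card_eq_one.1 hk1
    have h0 := zero_mem_fixF y
    rw [ha, Finset.mem_singleton] at h0
    rw [ha, h0]
  have hfy' : ∀ v, y v = v → v = 0 := by
    intro v hv
    have : v ∈ fixF y := mem_fixF.2 hv
    rwa [hfy, Finset.mem_singleton] at this
  -- transitivity
  have htr : ∀ u w : V, u ≠ 0 → w ≠ 0 → ∃ g ∈ X, g u = w := by
    apply trans_of_card hv1
    have m1 := card_mod' hy127 (orb X v1) (orb_inv hyX)
    have e1 : orb X v1 ∩ fixF y = ∅ := by
      rw [Finset.eq_empty_iff_forall_notMem]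
      intro w hw
      rw [Finset.mem_inter, mem_fixF] at hw
      exact orb_ne_zero hv1 hw.1 (hfy' w hw.2)
    rw [e1, Finset.card_empty] at m1
    have hle : (orb X v1).card ≤ 127 := by
      have := Finset.card_le_card (orb_sub (X := X) hv1)
      rw [Finset.card_erase_of_mem (Finset.mem_univ _), Finset.card_univ, hcV] at this
      exact this
    have hpos := orb_pos X v1
    unfold Nat.ModEq at m1
    rw [hcV]
    omega
  -- every vector is fixed by an element of order 31
  obtain ⟨v0, hv00, hxv0⟩ : ∃ v0, v0 ≠ 0 ∧ x v0 = v0 := by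
    have p31 : Fact (Nat.Prime 31) := ⟨by norm_num⟩
    obtain ⟨k, hk, hk1, hk2⟩ := card_fixF hx
    rw [hF, hV] at hk2
    rw [hF] at hk1
    rw [hV] at hk
    have hk3 : k = 2 := by
      interval_cases k <;> first | rfl | (exfalso; revert hk2; decide)
    rw [hk3] at hk1
    have h2 : 1 < (fixF x).card := by rw [hk1]; norm_num
    obtain ⟨a, ha, ha0⟩ := Finset.exists_mem_ne h2 0
    exact ⟨a, ha0, mem_fixF.1 ha⟩
  have hx31 : ∀ v : V, v ≠ 0 → ∃ x' ∈ X, orderOf x' = 31 ∧ x' v = v := by
    intro v hv
    obtain ⟨g, hg, rfl⟩ := htr v0 v hv00 hv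
    refine ⟨g * x * g⁻¹, X.mul_mem (X.mul_mem hg hxX) (X.inv_mem hg), ?_, ?_⟩
    · rw [← hx]
      exact orderOf_injective (MulAut.conj g).toMonoidHom (MulAut.conj g).injective x
    · show g (x ((g⁻¹ : V ≃ₗ[F] V) (g v0))) = g v0
      rw [show (g⁻¹ : V ≃ₗ[F] V) (g v0) = v0 from LinearEquiv.symm_apply_apply g v0, hxv0]
  have hfr : ∀ v : V, v ≠ 0 → finrank F (Esub hF X v) = finrank F (Esub hF X v0) := by
    intro v hv
    obtain ⟨g, hg, rfl⟩ := htr v0 v hv00 hv
    exact finrank_Esub hg
  have hne0 : Esub hF X v1 ≠ ⊥ := by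
    intro h
    have : f1 ∈ Esub hF X v1 := ⟨hfv1, h1⟩
    rw [h] at this
    exact hf1 this
  have hne : ∀ v : V, v ≠ 0 → Esub hF X v ≠ ⊥ := by
    intro v hv h
    apply hne0
    rw [← Submodule.finrank_eq_zero, hfr v1 hv1, ← hfr v hv, h, finrank_bot]
  obtain ⟨-, hj⟩ := card_E hF hV hxX hx hv00 hxv0 (hne v0 hv00)
  rcases hj with hj | hj | hj
  · -- one transvection for each vector
    exfalso
    have hex : ∀ v : V, v ≠ 0 → ∃ f : Dual F V, f ≠ 0 ∧ f v = 0 ∧ HasT X v f := by
      intro v hv
      obtain ⟨f, hf, hf0⟩ := (Submodule.ne_bot_iff _).1 (hne v hv)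
      exact ⟨f, hf0, hf.1, hf.2⟩
    have huniq : ∀ (v : V) (f f' : Dual F V), v ≠ 0 → f ≠ 0 → f' ≠ 0 → f v = 0 → f' v = 0 → HasT X v f → HasT X v f' →
        f = f' := by
      intro v f f' hv hf hf' hfv hfv' h2 h3
      have h4 := finrank_eq_one_iff_of_nonzero' (K := F) (⟨f, hfv, h2⟩ : Esub hF X v) (fun h => hf (congrArg Subtype.val h))
      obtain ⟨c, hc⟩ := h4.1 ((hfr v hv).trans hj) ⟨f', hfv', h3⟩
      have hc' : c • f = f' := congrArg Subtype.val hc
      rcases two_cases hF c with rfl | rfl
      · rw [zero_smul] at hc'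
        exact absurd hc'.symm hf'
      · rwa [one_smul] at hc'
    choose! φ hφ0 hφv hφT using hex
    -- injectivity
    have hinj : Set.InjOn φ (Finset.univ.erase (0 : V) : Finset V) := by
      rw [← Finset.card_image_iff]
      have hcard : (Finset.univ.erase (0 : V)).card = 127 := by
        rw [Finset.card_erase_of_mem (Finset.mem_univ _), Finset.card_univ, hcV]
      have hle : (Finset.image φ (Finset.univ.erase (0 : V))).card ≤ 127 := by
        rw [← hcard]; exact Finset.card_image_le
      have hpos : 0 < (Finset.image φ (Finset.univ.erase (0 : V))).card := by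
        refine Finset.card_pos.2 ⟨φ v0, Finset.mem_image.2 ⟨v0, Finset.mem_erase.2 ⟨hv00, Finset.mem_univ _⟩, rfl⟩⟩
      have hm := card_mod' (dualMap_pow_eq_one hy127) (Finset.image φ (Finset.univ.erase (0 : V))) (by
        intro f hf
        obtain ⟨v, hv, rfl⟩ := Finset.mem_image.1 hf
        have hv0' := Finset.ne_of_mem_erase hv
        refine Finset.mem_image.2 ⟨(y⁻¹ : V ≃ₗ[F] V) v, Finset.mem_erase.2 ⟨fun h => hv0' ?_, Finset.mem_univ _⟩, ?_⟩
        · exact (y⁻¹ : V ≃ₗ[F] V).map_eq_zero_iff.1 h
        · have hyv : (y⁻¹ : V ≃ₗ[F] V) v ≠ 0 := fun h => hv0' ((y⁻¹ : V ≃ₗ[F] V).map_eq_zero_iff.1 h)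
          refine huniq _ _ _ hyv (hφ0 _ hyv) ?_ (hφv _ hyv) ?_ (hφT _ hyv) ?_
          · intro h
            apply hφ0 v hv0'
            ext w
            have h2 := congrArg (fun ψ : Dual F V => ψ ((y⁻¹ : V ≃ₗ[F] V) w)) h
            have h3 : φ v (y ((y⁻¹ : V ≃ₗ[F] V) w)) = 0 := h2
            rw [show y ((y⁻¹ : V ≃ₗ[F] V) w) = w from LinearEquiv.apply_symm_apply y w] at h3
            exact h3
          · show φ v (y ((y⁻¹ : V ≃ₗ[F] V) v)) = 0
            rw [show y ((y⁻¹ : V ≃ₗ[F] V) v) = v from LinearEquiv.apply_symm_apply y v]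
            exact hφv v hv0'
          · exact (hφT v hv0').conj' hyX)
      have he : Finset.image φ (Finset.univ.erase (0 : V)) ∩ fixF y.dualMap = ∅ := by
        rw [Finset.eq_empty_iff_forall_notMem]
        intro f hf
        rw [Finset.mem_inter, mem_fixF] at hf
        obtain ⟨v, hv, rfl⟩ := Finset.mem_image.1 hf.1
        apply hφ0 v (Finset.ne_of_mem_erase hv)
        refine eq_zero_of_fix hy127 (odd_ne_zero hF (by decide)) (fun w => ?_) fun w hw => ?_
        · exact congrArg (fun ψ : Dual F V => ψ w) hf.2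
        · rw [hfy' w hw, map_zero]
      rw [he, Finset.card_empty] at hm
      unfold Nat.ModEq at hm
      rw [hcard]
      omega
    -- symmetry
    have hsym1 : ∀ u v : V, u ≠ 0 → v ≠ 0 → φ v u = 1 → φ u v = 1 := by
      intro u v hu hv h
      by_contra hno
      have h0 : φ u v = 0 := (two_cases hF _).resolve_right hno
      obtain ⟨t, ht, htw⟩ := hφT v hv
      have htu : t u = u + v := by rw [htw, h, one_smul]
      have huv : u + v ≠ 0 := by
        intro h2
        have h3 : u = v := by
          rw [← add_self' hF v] at h2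
          exact add_right_cancel h2
        rw [h3, hφv v hv] at h
        exact zero_ne_one h
      have h2 : HasT X (u + v) (φ u) := by
        have h3 := (hφT u hu).conj ht
        rw [htu] at h3
        have e : (φ u).comp (t⁻¹ : V ≃ₗ[F] V).toLinearMap = φ u := by
          ext w
          show φ u ((t⁻¹ : V ≃ₗ[F] V) w) = φ u w
          have h4 : t ((t⁻¹ : V ≃ₗ[F] V) w) = w := LinearEquiv.apply_symm_apply t w
          rw [htw] at h4
          have h5 := congrArg (φ u) h4
          rw [map_add, map_smul, h0, smul_zero, add_zero] at h5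
          exact h5
        rwa [e] at h3
      have h3 : φ (u + v) = φ u :=
        huniq (u + v) _ _ huv (hφ0 _ huv) (hφ0 u hu) (hφv _ huv) (by rw [map_add, hφv u hu, h0, add_zero]) (hφT _ huv) h2
      have h4 := hinj (Finset.mem_coe.2 (Finset.mem_erase.2 ⟨huv, Finset.mem_univ _⟩))
        (Finset.mem_coe.2 (Finset.mem_erase.2 ⟨hu, Finset.mem_univ _⟩)) h3
      exact hv (add_eq_left.1 h4)
    have hsym : ∀ u v : V, u ≠ 0 → v ≠ 0 → φ u v = φ v u := by
      intro u v hu hv
      rcases two_cases hF (φ v u) with h | h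
      · rcases two_cases hF (φ u v) with h2 | h2
        · rw [h, h2]
        · rw [hsym1 v u hv hu h2] at h
          exact absurd h one_ne_zero
      · rw [h, hsym1 u v hu hv h]
    -- the form
    let ψ : V → Dual F V := fun v => if v = 0 then 0 else φ v
    have hψ0 : ψ 0 = 0 := if_pos rfl
    have hψ : ∀ v, v ≠ 0 → ψ v = φ v := fun v hv => if_neg hv
    have hψs : ∀ u v, ψ u v = ψ v u := by
      intro u v
      by_cases hu : u = 0
      · rw [hu, hψ0, map_zero, LinearMap.zero_apply]
      · by_cases hv : v = 0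
        · rw [hv, hψ0, map_zero, LinearMap.zero_apply]
        · rw [hψ u hu, hψ v hv, hsym u v hu hv]
    let B : LinearMap.BilinForm F V := LinearMap.mk₂ F (fun u v => ψ u v)
      (fun a b c => by rw [hψs, map_add, hψs c a, hψs c b])
      (fun c a b => by rw [hψs, map_smul, hψs b a])
      (fun a b c => map_add _ _ _) (fun c a b => map_smul _ _ _)
    have hB : ∀ u v, B u v = ψ u v := fun u v => rfl
    have hA : B.IsAlt := by
      intro v
      rw [hB]
      by_cases hv : v = 0
      · rw [hv, map_zero]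
      · rw [hψ v hv]
        exact hφv v hv
    obtain ⟨m, l, b, -, -, -, h4⟩ := Cfsg.Agent.S0752.result B hA
    have hl : l = 0 := by
      by_contra hl
      have h5 := h4 ⟨0, Nat.pos_of_ne_zero hl⟩
      have hb := b.ne_zero (Sum.inr ⟨0, Nat.pos_of_ne_zero hl⟩)
      apply hφ0 _ hb
      ext w
      have h6 := h5 w
      rw [hB, hψ _ hb] at h6
      exact h6
    subst hl
    have hm := Module.finrank_eq_card_basis b
    rw [hV] at hm
    simp only [Fintype.card_sum, Fintype.card_fin] at hm
    omega
  · -- five-dimensional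
    exfalso
    have hW : ∀ v : V, v ≠ 0 → ∀ x' ∈ X, orderOf x' = 31 → x' v = v →
        (Finset.univ.filter fun w => ∀ f ∈ Esub hF X v, f w = 0) = fixF x' := by
      intro v hv x' hx'X hx' hx'v
      have p31 : Fact (Nat.Prime 31) := ⟨by norm_num⟩
      have h31 : x' ^ 31 = 1 := by rw [← hx', pow_orderOf_eq_one]
      set W : Finset V := Finset.univ.filter fun w => ∀ f ∈ Esub hF X v, f w = 0 with hWdef
      have hc : W.card = 4 := by
        have h5 := card_sub (F := F) (Submodule.dualCoannihilator (Esub hF X v)) W (fun w => by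
          rw [hWdef, Finset.mem_filter, Submodule.mem_dualCoannihilator]
          exact and_iff_right (Finset.mem_univ _))
        have h6 := Subspace.finrank_add_finrank_dualCoannihilator_eq (Esub hF X v)
        rw [hfr v hv, hj, hV] at h6
        have h7 : finrank F (Submodule.dualCoannihilator (Esub hF X v)) = 2 := by omega
        rw [h5, h7, hF]
        norm_num
      have hinv : ∀ w ∈ W, x' w ∈ W := by
        intro w hw
        refine Finset.mem_filter.2 ⟨Finset.mem_univ _, fun f hf => ?_⟩
        have h5 : f ∈ Esub hF X (x' v) := by rw [hx'v]; exact hf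
        exact (Finset.mem_filter.1 hw).2 _ (Esub_comp hx'X h5)
      have hm := card_mod' h31 W hinv
      have hle : (W ∩ fixF x').card ≤ 4 := by rw [← hc]; exact Finset.card_le_card Finset.inter_subset_left
      rw [hc] at hm
      have h4 : (W ∩ fixF x').card = 4 := by
        unfold Nat.ModEq at hm
        omega
      have h5 : W ∩ fixF x' = W := Finset.eq_of_subset_of_card_le Finset.inter_subset_left (by rw [h4, hc])
      apply Finset.eq_of_subset_of_card_le (Finset.inter_eq_left.1 h5)
      rw [hc, (card_E hF hV hx'X hx' hv hx'v (hne v hv)).1]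
    let W : V → Finset V := fun v => Finset.univ.filter fun w => ∀ f ∈ Esub hF X v, f w = 0
    have hself : ∀ v, v ∈ W v := fun v => Finset.mem_filter.2 ⟨Finset.mem_univ _, fun f hf => hf.1⟩
    have hW4 : ∀ v, v ≠ 0 → (W v).card = 4 := by
      intro v hv
      obtain ⟨x', hx'X, hx', hx'v⟩ := hx31 v hv
      rw [show W v = fixF x' from hW v hv x' hx'X hx' hx'v]
      exact (card_E hF hV hx'X hx' hv hx'v (hne v hv)).1
    have heq : ∀ v, v ≠ 0 → ∀ u ∈ W v, u ≠ 0 → W u = W v := by
      intro v hv u hu hu0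
      obtain ⟨x', hx'X, hx', hx'v⟩ := hx31 v hv
      have h5 : W v = fixF x' := hW v hv x' hx'X hx' hx'v
      have h6 : x' u = u := by rw [h5] at hu; exact mem_fixF.1 hu
      rw [h5]
      exact hW u hu0 x' hx'X hx' h6
    have hsum := Finset.card_eq_sum_card_image W (Finset.univ.erase (0 : V))
    have hconst : ∀ S ∈ (Finset.univ.erase (0 : V)).image W, ((Finset.univ.erase (0 : V)).filter fun u => W u = S).card = 3 := by
      intro S hS
      obtain ⟨v, hv, rfl⟩ := Finset.mem_image.1 hS
      have hv0' := Finset.ne_of_mem_erase hv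
      have e : ((Finset.univ.erase (0 : V)).filter fun u => W u = W v) = (W v).erase 0 := by
        ext u
        rw [Finset.mem_filter, Finset.mem_erase, Finset.mem_erase]
        constructor
        · rintro ⟨⟨h5, -⟩, h6⟩
          exact ⟨h5, by rw [← h6]; exact hself u⟩
        · rintro ⟨h5, h6⟩
          exact ⟨⟨h5, Finset.mem_univ _⟩, heq v hv0' u h6 h5⟩
      rw [e, Finset.card_erase_of_mem, hW4 v hv0']
      exact Finset.mem_filter.2 ⟨Finset.mem_univ _, fun f _ => map_zero f⟩
    rw [Finset.sum_congr rfl hconst, Finset.sum_const, Finset.card_erase_of_mem (Finset.mem_univ _), Finset.card_univ, hcV,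
      smul_eq_mul] at hsum
    omega
  · -- everything
    refine hasT_all htr hv00 fun f hf => ?_
    have h5 : Esub hF X v0 = (ann v0 : Submodule F (Dual F V)) := by
      have hle : Esub hF X v0 ≤ (ann v0 : Submodule F (Dual F V)) := fun f hf => hf.1
      apply Submodule.eq_of_le_of_finrank_le hle
      have h3 := finrank_ann (F := F) hv00
      omega
    have h6 : f ∈ Esub hF X v0 := by rw [h5]; exact hf
    exact h6.2

end Seven

end Cfsg.Agent.H180.LEl
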