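import Cfsg.Agent.H180.LElInv
import Cfsg.Agent.H180.LElSeven
import Cfsg.Agent.LieClassical.SLGen
import Cfsg.Agent.H278.ElDefs
import Cfsg.Agent.S0243
import Cfsg.Agent.SporadicA.FieldFour

/-!
# `ClMaxA` for `L₆(2)`, `L₇(2)`, `L₄(4)` (team ELUSIVE, small groups)
-/

set_option autoImplicit false

namespace Cfsg.Agent.H180.LEl

open Module Matrix
open Cfsg.Agent.H396 (Der der_of_prime)
open Cfsg.Agent.H278.El (ClMaxA ClMax ClT)

/-- block diagonal matrices -/
noncomputable def pairM {F : Type*} [Field F] (m n : ℕ) (A : Matrix (Fin m) (Fin m) F) (B : Matrix (Fin n) (Fin n) F) :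
    Matrix (Fin (m + n)) (Fin (m + n)) F :=
  (Matrix.fromBlocks A 0 0 B).submatrix finSumFinEquiv.symm finSumFinEquiv.symm

theorem pairM_mul {F : Type*} [Field F] {m n : ℕ} (A A' : Matrix (Fin m) (Fin m) F) (B B' : Matrix (Fin n) (Fin n) F) :
    pairM m n (A * A') (B * B') = pairM m n A B * pairM m n A' B' := by
  unfold pairM
  rw [Matrix.submatrix_mul_equiv, Matrix.fromBlocks_multiply]
  simp

theorem pairM_det {F : Type*} [Field F] {m n : ℕ} (A : Matrix (Fin m) (Fin m) F) (B : Matrix (Fin n) (Fin n) F) :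
    (pairM m n A B).det = A.det * B.det := by
  unfold pairM
  rw [Matrix.det_submatrix_equiv_self, Matrix.det_fromBlocks_zero₂₁]

/-- block diagonal embedding -/
noncomputable def pairHom {F : Type*} [Field F] (m n : ℕ) :
    SpecialLinearGroup (Fin m) F × SpecialLinearGroup (Fin n) F →* SpecialLinearGroup (Fin (m + n)) F where
  toFun p := ⟨pairM m n p.1 p.2, by rw [pairM_det, p.1.2, p.2.2, one_mul]⟩
  map_one' := Subtype.ext (by
    show pairM m n 1 1 = 1
    unfold pairM
    rw [Matrix.fromBlocks_one, Matrix.submatrix_one_equiv])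
  map_mul' a b := Subtype.ext (pairM_mul _ _ _ _)

theorem pairHom_injective {F : Type*} [Field F] (m n : ℕ) : Function.Injective (pairHom (F := F) m n) := by
  intro a b h
  have h1 : pairM m n (a.1 : Matrix (Fin m) (Fin m) F) (a.2 : Matrix (Fin n) (Fin n) F) =
      pairM m n (b.1 : Matrix (Fin m) (Fin m) F) (b.2 : Matrix (Fin n) (Fin n) F) := congrArg Subtype.val h
  have h2 : Matrix.fromBlocks (a.1 : Matrix (Fin m) (Fin m) F) 0 0 (a.2 : Matrix (Fin n) (Fin n) F) =
      Matrix.fromBlocks (b.1 : Matrix (Fin m) (Fin m) F) 0 0 (b.2 : Matrix (Fin n) (Fin n) F) :=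
    (Matrix.reindex (finSumFinEquiv (m := m) (n := n)) finSumFinEquiv).injective h1
  have h3 := Matrix.fromBlocks_inj.1 h2
  exact Prod.ext (Subtype.ext h3.1) (Subtype.ext h3.2.2.2)

theorem orderOf_pair_left {F : Type*} [Field F] {m n : ℕ} (A : SpecialLinearGroup (Fin m) F) :
    orderOf (pairHom (F := F) m n (A, 1)) = orderOf A := by
  rw [orderOf_injective _ (pairHom_injective m n), Prod.orderOf_mk, orderOf_one, Nat.lcm_one_right]

theorem orderOf_pair_right {F : Type*} [Field F] {m n : ℕ} (B : SpecialLinearGroup (Fin n) F) :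
    orderOf (pairHom (F := F) m n (1, B)) = orderOf B := by
  rw [orderOf_injective _ (pairHom_injective m n), Prod.orderOf_mk, orderOf_one, Nat.lcm_one_left]

theorem commute_pair {F : Type*} [Field F] {m n : ℕ} (A : SpecialLinearGroup (Fin m) F) (B : SpecialLinearGroup (Fin n) F) :
    Commute (pairHom (F := F) m n (A, 1)) (pairHom m n (1, B)) := by
  show pairHom m n (A, 1) * pairHom m n (1, B) = pairHom m n (1, B) * pairHom m n (A, 1)
  rw [← map_mul, ← map_mul]
  congr 1
  simp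

/-- elements of prime order in `SL` -/
theorem exists_SL {F : Type*} [Field F] [Fintype F] {n p c : ℕ} [hp : Fact p.Prime]
    (hc : Nat.card (SpecialLinearGroup (Fin n) F) = p * c) : ∃ x : SpecialLinearGroup (Fin n) F, orderOf x = p := by
  classical
  exact exists_prime_orderOf_dvd_card' (G := SpecialLinearGroup (Fin n) F) p ⟨c, hc⟩

theorem dvd_of_not_der {T : Type*} [Group T] [Finite T] {R : Subgroup T} (h : ¬ Der T R) {p : ℕ} (hp : p.Prime)
    (hd : p ∣ Nat.card T) : p ∣ Nat.card R := by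
  by_contra hn
  exact h (der_of_prime hp hd hn)

theorem exists_of_not_der {T : Type*} [Group T] {R : Subgroup T} (h : ¬ Der T R) {x : T} (hx : (orderOf x).Prime) :
    ∃ φ : T ≃* T, φ x ∈ R := by
  by_contra hno
  push Not at hno
  exact h ⟨x, hx, hno⟩

theorem orderOf_aut {T : Type*} [Group T] (φ : T ≃* T) (x : T) : orderOf (φ x) = orderOf x :=
  orderOf_injective φ.toMonoidHom φ.injective x

/-- all transvections imply everything -/
theorem eq_top_of_hasT {F : Type*} [Field F] {n : ℕ} {R : Subgroup (SpecialLinearGroup (Fin n) F)}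
    (h : ∀ (v : Fin n → F) (f : Dual F (Fin n → F)), f v = 0 →
      HasT (R.map (SpecialLinearGroup.toLin' : SpecialLinearGroup (Fin n) F →* _)) v f) : R = ⊤ := by
  rw [← top_le_iff, ← Cfsg.Agent.LieClassical.SLGen.closure_transvections (ι := Fin n) (F := F), Subgroup.closure_le]
  rintro _ ⟨i, j, hij, c, rfl⟩
  obtain ⟨t, ⟨r, hr, rfl⟩, ht⟩ := h (Pi.single i 1) (c • LinearMap.proj j) (by
    show c * (Pi.single i (1 : F) : Fin n → F) j = 0
    rw [Pi.single_eq_of_ne hij.symm, mul_zero])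
  have e : r = SpecialLinearGroup.transvection hij c := by
    apply Cfsg.Agent.LieClassical.SLGen.smul_ext
    intro v
    rw [Cfsg.Agent.LieClassical.SLGen.transvection_smul]
    exact ht v
  rw [← e]
  exact hr

instance fact31 : Fact (Nat.Prime 31) := ⟨by norm_num⟩
instance fact127 : Fact (Nat.Prime 127) := ⟨by norm_num⟩
instance fact17 : Fact (Nat.Prime 17) := ⟨by norm_num⟩
instance fact7 : Fact (Nat.Prime 7) := ⟨by norm_num⟩
instance fact5 : Fact (Nat.Prime 5) := ⟨by norm_num⟩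

/-- the order of `SL_n(2)` -/
theorem card_SL_two {n : ℕ} (hn : 1 ≤ n) {N : ℕ} (hN : (∏ i : Fin n, (2 ^ n - 2 ^ (i : ℕ)) : ℕ) = N) :
    Nat.card (SpecialLinearGroup (Fin n) (ZMod 2)) = N := by
  have h := Cfsg.Agent.S0242.result (F := ZMod 2) (q := 2) (by simp) n hn
  rw [hN] at h
  omega

theorem card_two : Nat.card (SpecialLinearGroup (Fin 2) (ZMod 2)) = 6 := card_SL_two (by norm_num) (by decide +kernel)
theorem card_four : Nat.card (SpecialLinearGroup (Fin 4) (ZMod 2)) = 20160 :=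
  card_SL_two (by norm_num) (by decide +kernel)
theorem card_five : Nat.card (SpecialLinearGroup (Fin 5) (ZMod 2)) = 9999360 :=
  card_SL_two (by norm_num) (by decide +kernel)
theorem card_six : Nat.card (SpecialLinearGroup (Fin 6) (ZMod 2)) = 20158709760 :=
  card_SL_two (by norm_num) (by decide +kernel)
theorem card_seven : Nat.card (SpecialLinearGroup (Fin 7) (ZMod 2)) = 163849992929280 :=
  card_SL_two (by norm_num) (by decide +kernel)

theorem two_card : Fintype.card (ZMod 2) = 2 := by simp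

/-- the companion matrix of `X^6 + X^3 + 1` -/
def mat9 : Matrix (Fin 6) (Fin 6) (ZMod 2) :=
  !![0, 0, 0, 0, 0, 1; 1, 0, 0, 0, 0, 0; 0, 1, 0, 0, 0, 0; 0, 0, 1, 0, 0, 1; 0, 0, 0, 1, 0, 0; 0, 0, 0, 0, 1, 0]

/-- its cube -/
def mat3 : Matrix (Fin 6) (Fin 6) (ZMod 2) :=
  !![0, 0, 0, 1, 0, 0; 0, 0, 0, 0, 1, 0; 0, 0, 0, 0, 0, 1; 1, 0, 0, 1, 0, 0; 0, 1, 0, 0, 1, 0; 0, 0, 1, 0, 0, 1]

theorem mat9_cube : mat9 * mat9 * mat9 = mat3 := by decide +kernel

theorem mat3_cube : mat3 * mat3 * mat3 = 1 := by decide +kernel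

theorem mat3_ne : mat3 ≠ 1 := by decide +kernel

theorem det_two {n : ℕ} {A : Matrix (Fin n) (Fin n) (ZMod 2)} {B : Matrix (Fin n) (Fin n) (ZMod 2)} (h : A * B = 1) :
    A.det = 1 := by
  have h1 := congrArg Matrix.det h
  rw [Matrix.det_mul, Matrix.det_one] at h1
  rcases two_cases two_card A.det with h2 | h2
  · rw [h2, zero_mul] at h1
    exact absurd h1 (by decide)
  · exact h2

theorem det9 : mat9.det = 1 := by
  refine det_two (B := mat9 * (mat9 * (mat3 * mat3))) ?_
  rw [← Matrix.mul_assoc, ← Matrix.mul_assoc, mat9_cube, ← Matrix.mul_assoc, mat3_cube]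

/-- an element of order 9 of `SL₆(2)` -/
def y9 : SpecialLinearGroup (Fin 6) (ZMod 2) := ⟨mat9, det9⟩

theorem y9_cube : ((y9 ^ 3 : SpecialLinearGroup (Fin 6) (ZMod 2)) : Matrix (Fin 6) (Fin 6) (ZMod 2)) = mat3 := by
  rw [pow_succ, pow_two]
  exact mat9_cube

theorem orderOf_y9 : orderOf y9 = 9 := by
  have h1 : ¬ y9 ^ 3 ^ 1 = 1 := by
    rw [pow_one]
    intro h
    apply mat3_ne
    rw [← y9_cube, h]
    rfl
  have h2 : y9 ^ 3 ^ (1 + 1) = 1 := by
    rw [show 3 ^ (1 + 1) = 3 * 3 by norm_num, pow_mul, pow_succ, pow_two]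
    apply Subtype.ext
    show ((y9 ^ 3 : SpecialLinearGroup (Fin 6) (ZMod 2)) : Matrix (Fin 6) (Fin 6) (ZMod 2)) * (y9 ^ 3 : SpecialLinearGroup (Fin 6) (ZMod 2)) *
      (y9 ^ 3 : SpecialLinearGroup (Fin 6) (ZMod 2)) = 1
    rw [y9_cube]
    exact mat3_cube
  exact orderOf_eq_prime_pow h1 h2

/-- **`SL₆(2)`** -/
theorem der_SL6 {R : Subgroup (SpecialLinearGroup (Fin 6) (ZMod 2))} (hR : R ≠ ⊤) :
    Der (SpecialLinearGroup (Fin 6) (ZMod 2)) R := by
  by_contra hn
  apply hR
  let ρ : SpecialLinearGroup (Fin 6) (ZMod 2) →* ((Fin 6 → ZMod 2) ≃ₗ[ZMod 2] (Fin 6 → ZMod 2)) := SpecialLinearGroup.toLin'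
  have hρ : Function.Injective ρ := SpecialLinearGroup.toLin'_injective
  have hV : finrank (ZMod 2) (Fin 6 → ZMod 2) = 6 := Module.finrank_fin_fun _
  -- order 31
  obtain ⟨⟨x, hxR⟩, hx⟩ := exists_prime_orderOf_dvd_card' (G := R) 31
    (dvd_of_not_der hn (by norm_num) (by rw [card_six]; norm_num))
  rw [Subgroup.orderOf_mk] at hx
  -- order 3
  have o3 : orderOf (y9 ^ 3) = 3 := by
    rw [orderOf_pow_of_dvd (by norm_num) (by rw [orderOf_y9]; norm_num), orderOf_y9]
  obtain ⟨φ, hφ⟩ := exists_of_not_der hn (x := y9 ^ 3) (by rw [o3]; norm_num)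
  -- transvection
  obtain ⟨s, hs⟩ := exists_SL (F := ZMod 2) (n := 4) (p := 5) (c := 4032) (by rw [card_four])
  obtain ⟨t, ht⟩ := exists_SL (F := ZMod 2) (n := 2) (p := 2) (c := 3) (by rw [card_two])
  let s' : SpecialLinearGroup (Fin 6) (ZMod 2) := pairHom 4 2 (s, 1)
  let t' : SpecialLinearGroup (Fin 6) (ZMod 2) := pairHom 4 2 (1, t)
  have os : orderOf s' = 5 := (orderOf_pair_left s).trans hs
  have ot : orderOf t' = 2 := (orderOf_pair_right t).trans ht
  have hst : Commute t' s' := (commute_pair s t).symm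
  obtain ⟨ψ, hψ⟩ := exists_of_not_der hn (x := t') (by rw [ot]; norm_num)
  have ot' : orderOf (ρ (ψ t')) = 2 := by rw [orderOf_injective ρ hρ, orderOf_aut, ot]
  have os' : orderOf (ρ (ψ s')) = 5 := by rw [orderOf_injective ρ hρ, orderOf_aut, os]
  have hfix : (fixF (ρ (ψ s'))).card = 4 := by
    obtain ⟨k, hk, hk1, hk2⟩ := card_fixF os'
    rw [two_card, hV] at hk2
    rw [two_card] at hk1
    rw [hV] at hk
    have hk3 : k = 2 := by
      interval_cases k <;> first | rfl | (exfalso; revert hk2; decide)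
    rw [hk1, hk3]
    norm_num
  obtain ⟨v, f, hv, hf, hfv, htv⟩ := transv_of_comm two_card (Or.inl rfl) (t := ρ (ψ t')) (s := ρ (ψ s'))
    (orderOf_dvd_iff_pow_eq_one.1 (dvd_of_eq ot')) (fun h => by
      rw [h, orderOf_one] at ot'
      norm_num at ot') os' ((hst.map ψ.toMonoidHom).map ρ) hfix (by rw [hV]; norm_num)
  refine eq_top_of_hasT ?_
  refine main6 two_card hV (X := R.map ρ) (x := ρ x) (Subgroup.mem_map_of_mem ρ hxR) (by rw [orderOf_injective ρ hρ, hx])
    (d := ρ (φ (y9 ^ 3))) (Subgroup.mem_map_of_mem ρ hφ) ?_ (v1 := v) (f1 := f) ⟨ρ (ψ t'), Subgroup.mem_map_of_mem ρ hψ, htv⟩ hv hf hfv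
  have h9 := cube_fix two_card hV (g := ρ (φ y9)) (by rw [orderOf_injective ρ hρ, orderOf_aut, orderOf_y9])
  rw [← map_pow, ← map_pow] at h9
  exact h9

/-- **`SL₇(2)`** -/
theorem der_SL7 {R : Subgroup (SpecialLinearGroup (Fin 7) (ZMod 2))} (hR : R ≠ ⊤) :
    Der (SpecialLinearGroup (Fin 7) (ZMod 2)) R := by
  by_contra hn
  apply hR
  let ρ : SpecialLinearGroup (Fin 7) (ZMod 2) →* ((Fin 7 → ZMod 2) ≃ₗ[ZMod 2] (Fin 7 → ZMod 2)) := SpecialLinearGroup.toLin'
  have hρ : Function.Injective ρ := SpecialLinearGroup.toLin'_injective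
  have hV : finrank (ZMod 2) (Fin 7 → ZMod 2) = 7 := Module.finrank_fin_fun _
  obtain ⟨⟨x, hxR⟩, hx⟩ := exists_prime_orderOf_dvd_card' (G := R) 31
    (dvd_of_not_der hn (by norm_num) (by rw [card_seven]; norm_num))
  rw [Subgroup.orderOf_mk] at hx
  obtain ⟨⟨y, hyR⟩, hy⟩ := exists_prime_orderOf_dvd_card' (G := R) 127
    (dvd_of_not_der hn (by norm_num) (by rw [card_seven]; norm_num))
  rw [Subgroup.orderOf_mk] at hy
  -- transvection
  obtain ⟨s, hs⟩ := exists_SL (F := ZMod 2) (n := 5) (p := 31) (c := 322560) (by rw [card_five])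
  obtain ⟨t, ht⟩ := exists_SL (F := ZMod 2) (n := 2) (p := 2) (c := 3) (by rw [card_two])
  let s' : SpecialLinearGroup (Fin 7) (ZMod 2) := pairHom 5 2 (s, 1)
  let t' : SpecialLinearGroup (Fin 7) (ZMod 2) := pairHom 5 2 (1, t)
  have os : orderOf s' = 31 := (orderOf_pair_left s).trans hs
  have ot : orderOf t' = 2 := (orderOf_pair_right t).trans ht
  have hst : Commute t' s' := (commute_pair s t).symm
  obtain ⟨ψ, hψ⟩ := exists_of_not_der hn (x := t') (by rw [ot]; norm_num)
  have ot' : orderOf (ρ (ψ t')) = 2 := by rw [orderOf_injective ρ hρ, orderOf_aut, ot]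
  have os' : orderOf (ρ (ψ s')) = 31 := by rw [orderOf_injective ρ hρ, orderOf_aut, os]
  have hfix : (fixF (ρ (ψ s'))).card = 4 := by
    obtain ⟨k, hk, hk1, hk2⟩ := card_fixF os'
    rw [two_card, hV] at hk2
    rw [two_card] at hk1
    rw [hV] at hk
    have hk3 : k = 2 := by
      interval_cases k <;> first | rfl | (exfalso; revert hk2; decide)
    rw [hk1, hk3]
    norm_num
  obtain ⟨v, f, hv, hf, hfv, htv⟩ := transv_of_comm two_card (Or.inr rfl) (t := ρ (ψ t')) (s := ρ (ψ s'))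
    (orderOf_dvd_iff_pow_eq_one.1 (dvd_of_eq ot')) (fun h => by
      rw [h, orderOf_one] at ot'
      norm_num at ot') os' ((hst.map ψ.toMonoidHom).map ρ) hfix (by rw [hV])
  refine eq_top_of_hasT ?_
  exact main7 two_card hV (X := R.map ρ) (x := ρ x) (y := ρ y) (Subgroup.mem_map_of_mem ρ hxR) (by rw [orderOf_injective ρ hρ, hx])
    (Subgroup.mem_map_of_mem ρ hyR) (by rw [orderOf_injective ρ hρ, hy]) (v1 := v) (f1 := f)
    ⟨ρ (ψ t'), Subgroup.mem_map_of_mem ρ hψ, htv⟩ hv hf hfv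

/-! ### `SL₄(4)` -/

open Cfsg.Agent.SporadicA.FieldFour (F4)

theorem card_F4_of {n : ℕ} (hn : 1 ≤ n) {N : ℕ} (hN : (∏ i : Fin n, (4 ^ n - 4 ^ (i : ℕ)) : ℕ) = 3 * N) :
    Nat.card (SpecialLinearGroup (Fin n) F4) = N := by
  have h := Cfsg.Agent.S0242.result (F := F4) (q := 4) F4.card_eq n hn
  rw [hN] at h
  omega

theorem card_F4_three : Nat.card (SpecialLinearGroup (Fin 3) F4) = 60480 := card_F4_of (by norm_num) (by decide +kernel)
theorem card_F4_four : Nat.card (SpecialLinearGroup (Fin 4) F4) = 987033600 := card_F4_of (by norm_num) (by decide +kernel)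

theorem exists_omega : ∃ ω : F4, ω ≠ 0 ∧ ω ≠ 1 ∧ ω ^ 3 = 1 := by
  have hF : Fintype.card F4 = 4 := F4.card_eq
  obtain ⟨ω, h0, h1⟩ : ∃ ω : F4, ω ≠ 0 ∧ ω ≠ 1 := by
    by_contra hno
    push Not at hno
    have h4 : (Finset.univ : Finset F4) ⊆ {0, 1} := by
      intro a _
      rw [Finset.mem_insert, Finset.mem_singleton]
      by_cases ha : a = 0
      · exact Or.inl ha
      · exact Or.inr (hno a ha)
    have h5 := (Finset.card_le_card h4).trans Finset.card_le_two
    rw [Finset.card_univ, hF] at h5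
    norm_num at h5
  refine ⟨ω, h0, h1, ?_⟩
  have := FiniteField.pow_card_sub_one_eq_one ω h0
  rwa [hF] at this

/-- **`SL₄(4)`** -/
theorem der_SL4 {R : Subgroup (SpecialLinearGroup (Fin 4) F4)} (hR : R ≠ ⊤) :
    Der (SpecialLinearGroup (Fin 4) F4) R := by
  classical
  by_contra hn
  apply hR
  have hF : Fintype.card F4 = 4 := F4.card_eq
  let ρ : SpecialLinearGroup (Fin 4) F4 →* ((Fin 4 → F4) ≃ₗ[F4] (Fin 4 → F4)) := SpecialLinearGroup.toLin'
  have hρ : Function.Injective ρ := SpecialLinearGroup.toLin'_injective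
  have hV : finrank F4 (Fin 4 → F4) = 4 := Module.finrank_fin_fun _
  obtain ⟨⟨x, hxR⟩, hx⟩ := exists_prime_orderOf_dvd_card' (G := R) 7
    (dvd_of_not_der hn (by norm_num) (by rw [card_F4_four]; norm_num))
  rw [Subgroup.orderOf_mk] at hx
  obtain ⟨⟨y, hyR⟩, hy⟩ := exists_prime_orderOf_dvd_card' (G := R) 17
    (dvd_of_not_der hn (by norm_num) (by rw [card_F4_four]; norm_num))
  rw [Subgroup.orderOf_mk] at hy
  obtain ⟨z, hz⟩ := exists_SL (F := F4) (n := 3) (p := 7) (c := 8640) (by rw [card_F4_three])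
  obtain ⟨t, ht⟩ := exists_SL (F := F4) (n := 3) (p := 2) (c := 30240) (by rw [card_F4_three])
  obtain ⟨ω, hω0, hω1, hω3⟩ := exists_omega
  let h : SpecialLinearGroup (Fin 3) F4 := ⟨Matrix.scalar (Fin 3) ω, by
    rw [Matrix.scalar_apply, Matrix.det_diagonal, Finset.prod_const, Finset.card_univ, Fintype.card_fin, hω3]⟩
  have hh1 : h ≠ 1 := by
    intro he
    have h1 := congrArg (fun A : SpecialLinearGroup (Fin 3) F4 => (A : Matrix (Fin 3) (Fin 3) F4) 0 0) he
    exact hω1 h1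
  have hh3 : h ^ 3 = 1 := by
    rw [pow_succ, pow_two]
    apply Subtype.ext
    show (Matrix.scalar (Fin 3) ω) * (Matrix.scalar (Fin 3) ω) * (Matrix.scalar (Fin 3) ω) = 1
    rw [← map_mul, ← map_mul, show ω * ω * ω = ω ^ 3 by ring, hω3, map_one]
  have oh : orderOf h = 3 := orderOf_eq_prime hh3 hh1
  have hcomm : ∀ A : SpecialLinearGroup (Fin 3) F4, Commute A h := by
    intro A
    apply Subtype.ext
    show (A : Matrix (Fin 3) (Fin 3) F4) * Matrix.scalar (Fin 3) ω = Matrix.scalar (Fin 3) ω * A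
    exact ((Matrix.scalar_commute ω (fun r' => Commute.all ω r') (A : Matrix (Fin 3) (Fin 3) F4)).eq).symm
  let e : SpecialLinearGroup (Fin 3) F4 →* SpecialLinearGroup (Fin 4) F4 := (pairHom 3 1).comp (MonoidHom.inl _ _)
  have he : Function.Injective e := (pairHom_injective 3 1).comp (fun a b hab => congrArg Prod.fst hab)
  have oe : ∀ A, orderOf (e A) = orderOf A := fun A => orderOf_injective e he A
  -- homologies
  have key : ∀ φ : SpecialLinearGroup (Fin 4) F4 ≃* SpecialLinearGroup (Fin 4) F4,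
      ∃ (lam mu : F4) (c : Fin 4 → F4), lam ≠ 0 ∧ mu ≠ 0 ∧ lam ≠ mu ∧ c ≠ 0 ∧ IsHom (ρ (φ (e h))) lam mu c := by
    intro φ
    have oφ : orderOf (φ (e h)) = 3 := by rw [orderOf_aut, oe, oh]
    obtain ⟨lam, mu, c, h1, h2, h3, h4, h5, -⟩ := isHom_of_comm hF hV (h := ρ (φ (e h))) (z := ρ (φ (e z)))
      (by rw [orderOf_injective ρ hρ, orderOf_aut, oe, hz])
      ((((hcomm z).symm.map e).map φ.toMonoidHom).map ρ)
      (by rw [← map_pow, ← map_pow, ← map_pow, hh3, map_one, map_one, map_one]) (by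
        intro a
        by_contra hno
        push Not at hno
        have ha : (φ (e h) : Matrix (Fin 4) (Fin 4) F4) = Matrix.scalar (Fin 4) a := by
          apply Matrix.ext_of_mulVec_single
          intro i
          have h1 := hno (Pi.single i 1)
          have h2 : (φ (e h) : Matrix (Fin 4) (Fin 4) F4) *ᵥ Pi.single i 1 = a • Pi.single i 1 := h1
          rw [h2, Matrix.scalar_apply, ← Matrix.smul_one_eq_diagonal, Matrix.smul_mulVec, Matrix.one_mulVec]
        have hdet : a ^ 4 = 1 := by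
          have h1 := (φ (e h)).2
          rw [ha, Matrix.scalar_apply, Matrix.det_diagonal, Finset.prod_const, Finset.card_univ, Fintype.card_fin] at h1
          exact h1
        have ha0 : a ≠ 0 := by
          rintro rfl
          norm_num at hdet
        have ha3 : a ^ 3 = 1 := by
          have := FiniteField.pow_card_sub_one_eq_one a ha0
          rwa [hF] at this
        have ha1 : a = 1 := by
          rw [show a ^ 4 = a ^ 3 * a by ring, ha3, one_mul] at hdet
          exact hdet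
        have h1 : φ (e h) = 1 := by
          apply Subtype.ext
          rw [ha, ha1, map_one]
          rfl
        rw [h1, orderOf_one] at oφ
        norm_num at oφ)
    exact ⟨lam, mu, c, h1, h2, h3, h4, h5⟩
  obtain ⟨φ, hφ⟩ := exists_of_not_der hn (x := e h) (by rw [oe, oh]; norm_num)
  obtain ⟨ψ, hψ⟩ := exists_of_not_der hn (x := e t) (by rw [oe, ht]; norm_num)
  obtain ⟨lam, mu, c, k1, k2, k3, k4, k5⟩ := key φ
  obtain ⟨lam', mu', c', m1, m2, m3, m4, m5⟩ := key ψ
  have ot : orderOf (ρ (ψ (e t))) = 2 := by rw [orderOf_injective ρ hρ, orderOf_aut, oe, ht]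
  obtain ⟨v, f, hv, hf, hfv, htv⟩ := transv_of_hom hF hV (t := ρ (ψ (e t))) (h := ρ (ψ (e h)))
    (orderOf_dvd_iff_pow_eq_one.1 (dvd_of_eq ot)) (fun h => by
      rw [h, orderOf_one] at ot
      norm_num at ot) ((((hcomm t).map e).map ψ.toMonoidHom).map ρ) m3 m4 m5
  refine eq_top_of_hasT ?_
  exact main4 hF hV (X := R.map ρ) (x := ρ x) (y := ρ y) (h := ρ (φ (e h))) (Subgroup.mem_map_of_mem ρ hxR)
    (by rw [orderOf_injective ρ hρ, hx]) (Subgroup.mem_map_of_mem ρ hyR) (by rw [orderOf_injective ρ hρ, hy])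
    k1 k2 k3 k4 (Subgroup.mem_map_of_mem ρ hφ) k5 (v1 := v) (f1 := f)
    ⟨ρ (ψ (e t)), Subgroup.mem_map_of_mem ρ hψ, htv⟩ hv hf hfv

/-! ### the projective groups -/

/-- `PSL = SL` if the center is trivial -/
noncomputable def pslEquiv {F : Type*} [Field F] {n : ℕ} (h : Subgroup.center (SpecialLinearGroup (Fin n) F) = ⊥) :
    SpecialLinearGroup (Fin n) F ≃* ProjectiveSpecialLinearGroup (Fin n) F :=
  ((QuotientGroup.quotientMulEquivOfEq h).trans QuotientGroup.quotientBot).symm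

theorem center_bot {F : Type*} [Field F] {n : ℕ} [NeZero n] (h : ∀ a : F, a ^ n = 1 → a = 1) :
    Subgroup.center (SpecialLinearGroup (Fin n) F) = ⊥ := by
  rw [eq_bot_iff]
  intro A hA
  rw [Matrix.SpecialLinearGroup.mem_center_iff] at hA
  obtain ⟨r, hr, hA⟩ := hA
  rw [Fintype.card_fin] at hr
  rw [h r hr, map_one] at hA
  rw [Subgroup.mem_bot]
  exact Subtype.ext hA.symm

theorem center_bot_two {n : ℕ} [NeZero n] : Subgroup.center (SpecialLinearGroup (Fin n) (ZMod 2)) = ⊥ := by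
  apply center_bot
  intro a ha
  rcases two_cases two_card a with h | h
  · rw [h, zero_pow (NeZero.ne n)] at ha
    exact absurd ha (by decide)
  · exact h

theorem center_bot_F4 : Subgroup.center (SpecialLinearGroup (Fin 4) F4) = ⊥ := by
  apply center_bot
  intro a ha
  have ha0 : a ≠ 0 := by
    rintro rfl
    norm_num at ha
  have ha3 : a ^ 3 = 1 := by
    have := FiniteField.pow_card_sub_one_eq_one a ha0
    rwa [F4.card_eq] at this
  rw [show a ^ 4 = a ^ 3 * a by ring, ha3, one_mul] at ha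
  exact ha

/-- **`L₆(2)`** -/
theorem clMaxA_l62 {T : Type*} [Group T] {F : Type*} [Field F] [Fintype F] (hF : Fintype.card F = 2)
    (h : Nonempty (T ≃* Matrix.ProjectiveSpecialLinearGroup (Fin 6) F)) : ClMaxA T := by
  obtain ⟨e⟩ := h
  have eF : ProjectiveSpecialLinearGroup (Fin 6) (ZMod 2) ≃* ProjectiveSpecialLinearGroup (Fin 6) F :=
    Cfsg.Agent.SporadicA.FieldFour.pslCongr (FiniteField.ringEquivOfCardEq (two_card.trans hF.symm))
  exact Cfsg.Agent.H278.El.ClMaxA.congr (((pslEquiv center_bot_two).trans eF).trans e.symm) fun M hM => der_SL6 hM.1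

/-- **`L₇(2)`** -/
theorem clMaxA_l72 {T : Type*} [Group T] {F : Type*} [Field F] [Fintype F] (hF : Fintype.card F = 2)
    (h : Nonempty (T ≃* Matrix.ProjectiveSpecialLinearGroup (Fin 7) F)) : ClMaxA T := by
  obtain ⟨e⟩ := h
  have eF : ProjectiveSpecialLinearGroup (Fin 7) (ZMod 2) ≃* ProjectiveSpecialLinearGroup (Fin 7) F :=
    Cfsg.Agent.SporadicA.FieldFour.pslCongr (FiniteField.ringEquivOfCardEq (two_card.trans hF.symm))
  exact Cfsg.Agent.H278.El.ClMaxA.congr (((pslEquiv center_bot_two).trans eF).trans e.symm) fun M hM => der_SL7 hM.1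

/-- **`L₄(4)`** -/
theorem clMaxA_l44 {T : Type*} [Group T] {F : Type*} [Field F] [Fintype F] (hF : Fintype.card F = 4)
    (h : Nonempty (T ≃* Matrix.ProjectiveSpecialLinearGroup (Fin 4) F)) : ClMaxA T := by
  obtain ⟨e⟩ := h
  have eF : ProjectiveSpecialLinearGroup (Fin 4) F4 ≃* ProjectiveSpecialLinearGroup (Fin 4) F :=
    Cfsg.Agent.SporadicA.FieldFour.pslCongr (FiniteField.ringEquivOfCardEq (F4.card_eq.trans hF.symm))
  exact Cfsg.Agent.H278.El.ClMaxA.congr (((pslEquiv center_bot_F4).trans eF).trans e.symm) fun M hM => der_SL4 hM.1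

end Cfsg.Agent.H180.LEl
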