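import Cfsg.Agent.H180.LElInv
import Cfsg.Agent.S0752

/-!
# Transitivity on vectors for subgroups of `Sp₆(2)` and `Sp₈(2)` (team ELUSIVE, small groups)
-/

set_option autoImplicit false

namespace Cfsg.Agent.H180.LEl

open Module

/-- a space with a non-degenerate alternating form has even dimension -/
theorem finrank_even {F : Type*} [Field F] {W : Type*} [AddCommGroup W] [Module F W] [FiniteDimensional F W]
    (B : LinearMap.BilinForm F W) (hA : B.IsAlt) (hnd : ∀ u, (∀ v, B u v = 0) → u = 0) : Even (finrank F W) := by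
  obtain ⟨m, l, b, -, -, -, h4⟩ := Cfsg.Agent.S0752.result B hA
  have hl : l = 0 := by
    by_contra hl
    have h5 := h4 ⟨0, Nat.pos_of_ne_zero hl⟩
    exact b.ne_zero (Sum.inr ⟨0, Nat.pos_of_ne_zero hl⟩) (hnd _ h5)
  subst hl
  have hm := Module.finrank_eq_card_basis b
  simp only [Fintype.card_sum, Fintype.card_fin] at hm
  exact ⟨m, by omega⟩

section Sp

variable {F : Type*} [Field F] [Fintype F] {V : Type*} [AddCommGroup V] [Module F V] [Fintype V] [DecidableEq V]

omit [Fintype F] [Fintype V] [DecidableEq V] in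
/-- the form is non-degenerate on the fixed space -/
theorem nondeg_fixS {B : LinearMap.BilinForm F V} (hnd : ∀ u, (∀ v, B u v = 0) → u = 0) {x : V ≃ₗ[F] V} {p : ℕ}
    (hx : x ^ p = 1) (hp : (p : F) ≠ 0) (hB : ∀ u v, B (x u) (x v) = B u v) {u : V} (hu : x u = u)
    (h : ∀ v, x v = v → B u v = 0) : u = 0 := by
  apply hnd
  intro v
  have h1 : (B u : Dual F V) = 0 := by
    refine eq_zero_of_fix hx hp (fun w => ?_) h
    have h2 := hB u w
    rwa [hu] at h2
  rw [h1]
  rfl

omit [Fintype V] [DecidableEq V] in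
theorem even_fixS [Fintype V] {B : LinearMap.BilinForm F V} (hA : B.IsAlt) (hnd : ∀ u, (∀ v, B u v = 0) → u = 0)
    {x : V ≃ₗ[F] V} {p : ℕ} (hx : x ^ p = 1) (hp : (p : F) ≠ 0) (hB : ∀ u v, B (x u) (x v) = B u v) :
    Even (finrank F (fixS x)) := by
  have hfin : FiniteDimensional F V := Module.Finite.of_finite
  refine finrank_even (B.domRestrict₁₂ (fixS x) (fixS x)) (fun v => hA v.1) fun u hu => ?_
  apply Subtype.ext
  exact nondeg_fixS hnd hx hp hB u.2 fun v hv => hu ⟨v, hv⟩

/-- number of fixed vectors, with an even exponent -/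
theorem card_fixF_even {B : LinearMap.BilinForm F V} (hA : B.IsAlt) (hnd : ∀ u, (∀ v, B u v = 0) → u = 0)
    {p : ℕ} [hp : Fact p.Prime] {x : V ≃ₗ[F] V} (hx : orderOf x = p) (hp0 : (p : F) ≠ 0)
    (hB : ∀ u v, B (x u) (x v) = B u v) :
    ∃ k < finrank F V, Even k ∧ (fixF x).card = Fintype.card F ^ k ∧
      Fintype.card F ^ finrank F V ≡ Fintype.card F ^ k [MOD p] := by
  have hfin : FiniteDimensional F V := Module.Finite.of_finite
  obtain ⟨k, hk, hk1, hk2⟩ := card_fixF hx
  refine ⟨k, hk, ?_, hk1, hk2⟩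
  have h1 := card_sub (fixS x) (fixF x) (fun w => by rw [mem_fixF]; rfl)
  have h2 : Fintype.card F ^ k = Fintype.card F ^ finrank F (fixS x) := hk1.symm.trans h1
  have h3 := Nat.pow_right_injective Fintype.one_lt_card h2
  rw [h3]
  exact even_fixS hA hnd (by rw [← hx, pow_orderOf_eq_one]) hp0 hB

open Classical in
/-- counting a non-zero functional -/
theorem card_eq_one (hF : Fintype.card F = 2) {f : Dual F V} (hf : f ≠ 0) :
    2 * (Finset.univ.filter fun w => f w = 1).card = Fintype.card V := by
  obtain ⟨w0, hw0⟩ : ∃ w0, f w0 = 1 := by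
    by_contra hno
    push Not at hno
    apply hf
    ext w
    exact (two_cases hF _).resolve_right (hno w)
  have h1 : (Finset.univ.filter fun w => f w = 1).card = (Finset.univ.filter fun w => ¬ f w = 1).card := by
    refine Finset.card_bij (fun w _ => w + w0) ?_ ?_ ?_
    · intro w hw
      rw [Finset.mem_filter] at hw ⊢
      refine ⟨Finset.mem_univ _, ?_⟩
      rw [map_add, hw.2, hw0, one_add_one' hF]
      exact zero_ne_one
    · intro a _ b _ hab
      exact add_right_cancel hab
    · intro b hb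
      rw [Finset.mem_filter] at hb
      have h0 : f b = 0 := (two_cases hF _).resolve_right hb.2
      refine ⟨b + w0, ?_, ?_⟩
      · rw [Finset.mem_filter]
        exact ⟨Finset.mem_univ _, by rw [map_add, h0, hw0, zero_add]⟩
      · rw [add_assoc, add_self' hF, add_zero]
  have h2 := Finset.card_filter_add_card_filter_not (s := (Finset.univ : Finset V)) (fun w => f w = 1)
  rw [← h1, Finset.card_univ] at h2
  omega

open Classical in
/-- counting two functionals -/
theorem card_eq_one_one (hF : Fintype.card F = 2) {f g : Dual F V} (hf : f ≠ 0) (hg : g ≠ 0) (hfg : f ≠ g) :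
    4 * (Finset.univ.filter fun w => f w = 1 ∧ g w = 1).card = Fintype.card V := by
  have hne : f + g ≠ 0 := by
    intro h
    apply hfg
    have h1 : f + g = g + g := by rw [h, add_self' hF]
    exact add_right_cancel h1
  have a1 := card_eq_one hF hf
  have a2 := card_eq_one hF hg
  have a3 := card_eq_one hF hne
  -- f = 1
  have b1 := Finset.card_filter_add_card_filter_not (s := (Finset.univ : Finset V).filter fun w => f w = 1) (fun w => g w = 1)
  have b2 := Finset.card_filter_add_card_filter_not (s := (Finset.univ : Finset V).filter fun w => g w = 1) (fun w => f w = 1)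
  have b3 := Finset.card_filter_add_card_filter_not (s := (Finset.univ : Finset V).filter fun w => (f + g) w = 1) (fun w => f w = 1)
  have e1 : ((Finset.univ : Finset V).filter fun w => f w = 1).filter (fun w => g w = 1) =
      Finset.univ.filter fun w => f w = 1 ∧ g w = 1 := by rw [Finset.filter_filter]
  have e2 : ((Finset.univ : Finset V).filter fun w => g w = 1).filter (fun w => f w = 1) =
      Finset.univ.filter fun w => f w = 1 ∧ g w = 1 := by
    rw [Finset.filter_filter]
    exact Finset.filter_congr fun w _ => and_comm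
  have hz : ∀ c : F, ¬ c = 1 → c = 0 := fun c hc => (two_cases hF c).resolve_right hc
  have e3 : ((Finset.univ : Finset V).filter fun w => (f + g) w = 1).filter (fun w => f w = 1) =
      ((Finset.univ : Finset V).filter fun w => f w = 1).filter (fun w => ¬ g w = 1) := by
    rw [Finset.filter_filter, Finset.filter_filter]
    refine Finset.filter_congr fun w _ => ?_
    rw [LinearMap.add_apply]
    constructor
    · rintro ⟨h1, h2⟩
      refine ⟨h2, fun h3 => ?_⟩
      rw [h2, h3, one_add_one' hF] at h1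
      exact zero_ne_one h1
    · rintro ⟨h1, h2⟩
      rw [h1, hz _ h2, add_zero]
      exact ⟨rfl, rfl⟩
  have e4 : ((Finset.univ : Finset V).filter fun w => (f + g) w = 1).filter (fun w => ¬ f w = 1) =
      ((Finset.univ : Finset V).filter fun w => g w = 1).filter (fun w => ¬ f w = 1) := by
    rw [Finset.filter_filter, Finset.filter_filter]
    refine Finset.filter_congr fun w _ => ?_
    rw [LinearMap.add_apply]
    constructor
    · rintro ⟨h1, h2⟩
      rw [hz _ h2, zero_add] at h1
      exact ⟨h1, h2⟩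
    · rintro ⟨h1, h2⟩
      rw [h1, hz _ h2, zero_add]
      exact ⟨rfl, zero_ne_one⟩
  rw [e1] at b1
  rw [e2] at b2
  rw [e3, e4] at b3
  omega

/-- moving a symplectic transvection -/
theorem hasT_sp {B : LinearMap.BilinForm F V} {X : Subgroup (V ≃ₗ[F] V)} (hB : ∀ g ∈ X, ∀ u v, B (g u) (g v) = B u v)
    (htr : ∀ u w : V, u ≠ 0 → w ≠ 0 → ∃ g ∈ X, g u = w) {v0 : V} (hv0 : v0 ≠ 0)
    (h0 : HasT X v0 (B v0)) (v : V) : HasT X v (B v) := by
  by_cases hv : v = 0
  · refine ⟨1, X.one_mem, fun w => ?_⟩
    rw [hv, smul_zero, add_zero]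
    rfl
  obtain ⟨g, hg, rfl⟩ := htr v0 v hv0 hv
  have h1 := h0.conj hg
  have e : (B v0).comp (g⁻¹ : V ≃ₗ[F] V).toLinearMap = B (g v0) := by
    ext w
    show B v0 ((g⁻¹ : V ≃ₗ[F] V) w) = B (g v0) w
    rw [← hB g hg, show g ((g⁻¹ : V ≃ₗ[F] V) w) = w from LinearEquiv.apply_symm_apply g w]
  rwa [e] at h1

omit [Fintype V] [DecidableEq V] in
/-- a symplectic transvection -/
theorem transv_form (hF : Fintype.card F = 2) {B : LinearMap.BilinForm F V} (hA : B.IsAlt)
    (hnd : ∀ u, (∀ v, B u v = 0) → u = 0) {t : V ≃ₗ[F] V} (hB : ∀ u v, B (t u) (t v) = B u v)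
    {v : V} {f : Dual F V} (hv : v ≠ 0) (hf : f ≠ 0) (ht : ∀ w, t w = w + f w • v) : f = B v := by
  have hsym : ∀ u w, B u w = B w u := by
    intro u w
    have h1 : B u w = - B w u := (hA.neg_eq w u).symm
    have h2 : B w u + B w u = 0 := add_self' hF (B w u)
    rw [h1, neg_eq_iff_add_eq_zero]
    exact h2
  have key : ∀ u w, f u * B v w = f w * B v u := by
    intro u w
    have h1 := hB u w
    rw [ht, ht, map_add, map_add, LinearMap.add_apply, LinearMap.add_apply, map_smul, map_smul, LinearMap.smul_apply,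
      LinearMap.smul_apply, map_smul, hA v, smul_zero, smul_zero, add_zero, smul_eq_mul, smul_eq_mul, hsym u v] at h1
    have h2 : f w * B v u + f u * B v w = 0 := by
      have h3 : B u w + (f w * B v u + f u * B v w) = B u w := by
        rw [add_comm (f w * B v u), ← add_assoc]
        exact h1
      exact add_eq_left.1 h3
    have h3 : f u * B v w + f u * B v w = 0 := add_self' hF _
    have h4 : f w * B v u + f u * B v w = f u * B v w + f u * B v w := h2.trans h3.symm
    exact (add_right_cancel h4).symm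
  obtain ⟨w0, hw0⟩ : ∃ w0, B v w0 = 1 := by
    by_contra hno
    push Not at hno
    exact hv (hnd v fun w => (two_cases hF _).resolve_right (hno w))
  have h1 : ∀ u, f u = f w0 * B v u := fun u => by rw [← key, hw0, mul_one]
  have h2 : f w0 = 1 := by
    refine (two_cases hF _).resolve_left fun h => hf ?_
    ext u
    rw [h1, h, zero_mul]
    rfl
  ext u
  rw [h1, h2, one_mul]

/-- transitivity for `Sp₈(2)` -/
theorem trans8 (hF : Fintype.card F = 2) (hV : finrank F V = 8) {X : Subgroup (V ≃ₗ[F] V)} {x d e : V ≃ₗ[F] V}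
    (hxX : x ∈ X) (hx : orderOf x = 17) (hdX : d ∈ X) (hd : ∀ v, v + d v + d (d v) = 0)
    (heX : e ∈ X) (he5 : e ^ 5 = 1) (he : ∀ v, e v = v → v = 0) :
    ∀ u w : V, u ≠ 0 → w ≠ 0 → ∃ g ∈ X, g u = w := by
  classical
  have hcV : Fintype.card V = 256 := by
    rw [Module.card_eq_pow_finrank (K := F), hF, hV]; norm_num
  have p17 : Fact (Nat.Prime 17) := ⟨by norm_num⟩
  have p5 : Fact (Nat.Prime 5) := ⟨by norm_num⟩
  have p3 : Fact (Nat.Prime 3) := ⟨by norm_num⟩
  have hfx : ∀ v, x v = v → v = 0 := by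
    obtain ⟨k, hk, hk1, hk2⟩ := card_fixF hx
    rw [hF, hV] at hk2
    rw [hF] at hk1
    rw [hV] at hk
    have hk3 : k = 0 := by
      interval_cases k <;> first | rfl | (exfalso; revert hk2; decide)
    rw [hk3, pow_zero] at hk1
    obtain ⟨a, ha⟩ := Finset.card_eq_one.1 hk1
    have h0 := zero_mem_fixF x
    rw [ha, Finset.mem_singleton] at h0
    intro v hv
    have : v ∈ fixF x := mem_fixF.2 hv
    rwa [ha, Finset.mem_singleton, ← h0] at this
  have hfd : ∀ v, d v = v → v = 0 := by
    intro v hv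
    have := hd v
    rw [hv, hv, add_self' hF, zero_add] at this
    exact this
  have hemp : ∀ g : V ≃ₗ[F] V, (∀ v, g v = v → v = 0) → ∀ v : V, v ≠ 0 → orb X v ∩ fixF g = ∅ := by
    intro g hg v hv
    rw [Finset.eq_empty_iff_forall_notMem]
    intro w hw
    rw [Finset.mem_inter, mem_fixF] at hw
    exact orb_ne_zero hv hw.1 (hg w hw.2)
  obtain ⟨v0, hv0⟩ : ∃ v0 : V, v0 ≠ 0 := by
    by_contra hno
    push Not at hno
    have h1 : Fintype.card V ≤ 1 := Fintype.card_le_one_iff.2 fun a b => by rw [hno a, hno b]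
    rw [hcV] at h1
    norm_num at h1
  apply trans_of_card hv0
  have m1 := card_mod' (p := 17) (by rw [← hx, pow_orderOf_eq_one]) (orb X v0) (orb_inv hxX)
  have m2 := card_mod' (order_three hd) (orb X v0) (orb_inv hdX)
  have m3 := card_mod' he5 (orb X v0) (orb_inv heX)
  rw [hemp x hfx v0 hv0, Finset.card_empty] at m1
  rw [hemp d hfd v0 hv0, Finset.card_empty] at m2
  rw [hemp e he v0 hv0, Finset.card_empty] at m3
  have hle : (orb X v0).card ≤ 255 := by
    have := Finset.card_le_card (orb_sub (X := X) hv0)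
    rw [Finset.card_erase_of_mem (Finset.mem_univ _), Finset.card_univ, hcV] at this
    exact this
  have hpos := orb_pos X v0
  unfold Nat.ModEq at m1 m2 m3
  rw [hcV]
  omega

end Sp

end Cfsg.Agent.H180.LEl
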