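import Cfsg.Agent.H180.LElSpSix
import Cfsg.Agent.H180.LElSLFinal
import Cfsg.Agent.OddHalf.Table.OutSpSix
import Cfsg.Agent.LieClassical.SympCenter
import Cfsg.Agent.LieClassical.SympCount
import Cfsg.Agent.S0765

/-!
# `ClMaxA` for `Sp₆(2)` (team ELUSIVE, small groups)
-/

set_option autoImplicit false

namespace Cfsg.Agent.H180.LEl

open Module Matrix Cfsg
open Cfsg.Agent.ClassicalGeometry.SympBasic
open Cfsg.Agent.H278.El (ClMaxA)
open Cfsg.Agent.H396 (Der der_of_prime)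

section

variable {F : Type*} [Field F] {m : ℕ}

theorem sp_mul_inv_mulVec (g : symplecticGroup (Fin m) F) (v : Fin m ⊕ Fin m → F) :
    g.1 *ᵥ ((g⁻¹ : symplecticGroup (Fin m) F).1 *ᵥ v) = v := by
  rw [← coe_mul_mulVec, mul_inv_cancel]
  exact Matrix.one_mulVec v

theorem sp_inv_mul_mulVec (g : symplecticGroup (Fin m) F) (v : Fin m ⊕ Fin m → F) :
    (g⁻¹ : symplecticGroup (Fin m) F).1 *ᵥ (g.1 *ᵥ v) = v := by
  rw [← coe_mul_mulVec, inv_mul_cancel]
  exact Matrix.one_mulVec v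

/-- the natural representation -/
def spRho (m : ℕ) (F : Type*) [Field F] : symplecticGroup (Fin m) F →* ((Fin m ⊕ Fin m → F) ≃ₗ[F] (Fin m ⊕ Fin m → F)) where
  toFun g :=
    { toFun := fun v => g.1 *ᵥ v
      map_add' := fun u v => Matrix.mulVec_add _ u v
      map_smul' := fun c v => Matrix.mulVec_smul _ c v
      invFun := fun v => (g⁻¹ : symplecticGroup (Fin m) F).1 *ᵥ v
      left_inv := sp_inv_mul_mulVec g
      right_inv := sp_mul_inv_mulVec g }
  map_one' := by
    apply LinearEquiv.ext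
    intro v
    exact Matrix.one_mulVec v
  map_mul' g h := by
    apply LinearEquiv.ext
    intro v
    exact coe_mul_mulVec g h v

theorem spRho_apply (g : symplecticGroup (Fin m) F) (v : Fin m ⊕ Fin m → F) : spRho m F g v = g.1 *ᵥ v := rfl

theorem spRho_injective : Function.Injective (spRho m F) := by
  intro g h hgh
  apply Subtype.ext
  rw [← Matrix.mulVec_injective.eq_iff]
  funext v
  exact congrArg (fun φ : (Fin m ⊕ Fin m → F) ≃ₗ[F] (Fin m ⊕ Fin m → F) => φ v) hgh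

end

section Two

variable {F : Type*} [Field F] [Fintype F] (hF : Fintype.card F = 2) {m : ℕ}
include hF

theorem sp_center_bot (hm : 1 ≤ m) : Subgroup.center (symplecticGroup (Fin m) F) = ⊥ := by
  rw [Subgroup.eq_bot_iff_forall]
  intro A hA
  obtain ⟨a, ha⟩ := (Cfsg.Agent.LieClassical.SympCenter.mem_center_iff m A).1 hA
  have h1 : a * a = 1 := Cfsg.Agent.LieClassical.SympCenter.sq_eq_one_of_smul_mem hm (ha ▸ A.2)
  rcases two_cases hF a with h | h
  · rw [h, mul_zero] at h1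
    exact absurd h1 zero_ne_one
  · apply Subtype.ext
    rw [ha, h, one_smul]
    rfl

/-- `PSp = Sp` over the field of two elements -/
noncomputable def pspEquiv (hm : 1 ≤ m) : symplecticGroup (Fin m) F ≃* PSp m F :=
  ((QuotientGroup.quotientMulEquivOfEq (sp_center_bot hF hm)).trans QuotientGroup.quotientBot).symm

/-- all automorphisms are inner -/
theorem sp_inner (hm : 3 ≤ m) (φ : symplecticGroup (Fin m) F ≃* symplecticGroup (Fin m) F) :
    ∃ g : symplecticGroup (Fin m) F, ∀ x, φ x = g * x * g⁻¹ := by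
  let e := pspEquiv hF (m := m) (by omega)
  obtain ⟨y, hy⟩ := Cfsg.Agent.OddHalf.Table.OutSpSix.inner hm (by rw [Nat.card_eq_fintype_card, hF])
    ((e.symm.trans φ).trans e : MulAut (PSp m F))
  refine ⟨e.symm y, fun x => ?_⟩
  have h1 := congrArg (fun α : MulAut (PSp m F) => α (e x)) hy
  have h2 : e (φ (e.symm (e x))) = y * e x * y⁻¹ := h1
  rw [e.symm_apply_apply] at h2
  apply e.injective
  rw [h2, map_mul, map_mul, map_inv, e.apply_symm_apply]

/-- all the transvections of one vector -/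
theorem sp_eq_top {R : Subgroup (symplecticGroup (Fin m) F)} (h : ∀ w : Fin m ⊕ Fin m → F, w ≠ 0 → transv w 1 ∈ R) :
    R = ⊤ := by
  rw [← top_le_iff, ← Cfsg.Agent.S0765.result m, Subgroup.closure_le]
  rintro A ⟨w, c, hA⟩
  have h1 : ∀ B : symplecticGroup (Fin m) F, B.1 = 1 → B ∈ R := by
    intro B hB
    have : B = 1 := Subtype.ext hB
    rw [this]
    exact R.one_mem
  rcases two_cases hF c with hc | hc
  · apply h1
    rw [hA, hc, sympTransvection_zero]
  by_cases hw : w = 0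
  · apply h1
    rw [hA, hw, ← Matrix.mulVec_injective.eq_iff]
    funext x
    rw [sympTransvection_mulVec, smul_zero, add_zero, Matrix.one_mulVec]
  · have h2 := h w hw
    have h3 : A = transv w 1 := Subtype.ext (by rw [hA, hc]; rfl)
    rw [h3]
    exact h2

theorem transv_sq (w : Fin m ⊕ Fin m → F) : (transv w (1 : F)) ^ 2 = 1 := by
  apply Subtype.ext
  rw [pow_two]
  show sympTransvection m w 1 * sympTransvection m w 1 = 1
  rw [sympTransvection_mul, one_add_one' hF, sympTransvection_zero]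

omit [Fintype F] hF in
theorem transv_ne_one {w : Fin m ⊕ Fin m → F} (hw : w ≠ 0) : transv w (1 : F) ≠ 1 := by
  intro h
  apply hw
  apply eq_zero_of_forall_sympForm_left
  intro x
  have h1 : sympTransvection m w (1 : F) *ᵥ x = x := by
    have h2 := congrArg Subtype.val h
    rw [coe_transv] at h2
    rw [h2]
    exact Matrix.one_mulVec x
  rw [sympTransvection_mulVec, one_mul] at h1
  exact (smul_eq_zero.1 (add_eq_left.1 h1)).resolve_right hw

omit [Fintype F] hF in
theorem conj_transv (g : symplecticGroup (Fin m) F) (w : Fin m ⊕ Fin m → F) (c : F) :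
    g * transv w c * g⁻¹ = transv (g.1 *ᵥ w) c := by
  rw [mul_inv_eq_iff_eq_mul]
  apply Subtype.ext
  exact mul_sympTransvection g.2 w c

/-- the elements of order 3 without fixed vectors -/
theorem sp_three (m : ℕ) : ∃ d : symplecticGroup (Fin m) F, ∀ v : Fin m ⊕ Fin m → F,
    v + d.1 *ᵥ v + d.1 *ᵥ (d.1 *ᵥ v) = 0 := by
  have h2 : (1 : F) + 1 = 0 := one_add_one' hF
  have hneg : ∀ M : Matrix (Fin m) (Fin m) F, -M = M := by
    intro M
    ext i j
    rw [Matrix.neg_apply, neg_eq_iff_add_eq_zero]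
    exact add_self' hF (M i j)
  have hM2 : (1 : Matrix (Fin m) (Fin m) F) + 1 = 0 := by
    nth_rewrite 1 [← hneg 1]
    exact neg_add_cancel 1
  refine ⟨⟨Matrix.fromBlocks 0 1 1 1, ?_⟩, ?_⟩
  · rw [SymplecticGroup.mem_iff, Matrix.J, Matrix.fromBlocks_transpose, Matrix.fromBlocks_multiply, Matrix.fromBlocks_multiply]
    simp [hneg, hM2]
  · intro v
    have h3 : (Matrix.fromBlocks 0 1 1 1 : Matrix (Fin m ⊕ Fin m) (Fin m ⊕ Fin m) F) * Matrix.fromBlocks 0 1 1 1 =
        Matrix.fromBlocks 1 1 1 0 := by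
      rw [Matrix.fromBlocks_multiply]
      simp [hM2]
    have h4 : (1 : Matrix (Fin m ⊕ Fin m) (Fin m ⊕ Fin m) F) + Matrix.fromBlocks 0 1 1 1 + Matrix.fromBlocks 1 1 1 0 = 0 := by
      rw [← Matrix.fromBlocks_one, Matrix.fromBlocks_add, Matrix.fromBlocks_add]
      simp [hM2]
    show v + Matrix.fromBlocks 0 1 1 1 *ᵥ v + Matrix.fromBlocks 0 1 1 1 *ᵥ (Matrix.fromBlocks 0 1 1 1 *ᵥ v) = 0
    rw [Matrix.mulVec_mulVec, h3]
    nth_rewrite 1 [← Matrix.one_mulVec v]
    rw [← Matrix.add_mulVec, ← Matrix.add_mulVec, h4, Matrix.zero_mulVec]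

end Two

section Final

variable {F : Type*} [Field F] [Fintype F] (hF : Fintype.card F = 2)
include hF

theorem card_sp6 : Nat.card (symplecticGroup (Fin 3) F) = 1451520 := by
  rw [Cfsg.Agent.LieClassical.SympCount.card_symplecticGroup, hF]
  decide +kernel

/-- **`Sp₆(2)`**: every proper subgroup misses a class of elements of prime order. -/
theorem der_sp6 {R : Subgroup (symplecticGroup (Fin 3) F)} (hR : R ≠ ⊤) : Der (symplecticGroup (Fin 3) F) R := by
  classical
  by_contra hn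
  apply hR
  have hfin : Finite (symplecticGroup (Fin 3) F) := inferInstance
  have hV : finrank F (Fin 3 ⊕ Fin 3 → F) = 6 := by
    rw [Module.finrank_fintype_fun_eq_card, Fintype.card_sum, Fintype.card_fin]
  let ρ := spRho 3 F
  have hρ : Function.Injective ρ := spRho_injective
  obtain ⟨⟨x, hxR⟩, hx⟩ := exists_prime_orderOf_dvd_card' (G := R) 7
    (dvd_of_not_der hn (by norm_num) (by rw [card_sp6 hF]; norm_num))
  rw [Subgroup.orderOf_mk] at hx
  obtain ⟨⟨s, hsR⟩, hs⟩ := exists_prime_orderOf_dvd_card' (G := R) 5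
    (dvd_of_not_der hn (by norm_num) (by rw [card_sp6 hF]; norm_num))
  rw [Subgroup.orderOf_mk] at hs
  obtain ⟨w0, hw0⟩ : ∃ w0 : Fin 3 ⊕ Fin 3 → F, w0 ≠ 0 := exists_ne 0
  -- order 3
  obtain ⟨d, hd⟩ := sp_three hF 3
  have hd3 : d ^ 3 = 1 := by
    apply hρ
    rw [map_pow, map_one]
    exact order_three (d := ρ d) hd
  have hd1 : d ≠ 1 := by
    rintro rfl
    have h1 := hd w0
    have h2 : ∀ v : Fin 3 ⊕ Fin 3 → F, (1 : symplecticGroup (Fin 3) F).1 *ᵥ v = v := Matrix.one_mulVec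
    rw [h2, h2, add_self' hF, zero_add] at h1
    exact hw0 h1
  have p3 : Fact (Nat.Prime 3) := ⟨by norm_num⟩
  obtain ⟨φ, hφ⟩ := exists_of_not_der hn (x := d) (by rw [orderOf_eq_prime hd3 hd1]; norm_num)
  obtain ⟨g, hg⟩ := sp_inner hF (by norm_num) φ
  rw [hg] at hφ
  -- transvection
  obtain ⟨ψ, hψ⟩ := exists_of_not_der hn (x := transv w0 (1 : F)) (by
    rw [orderOf_eq_prime (transv_sq hF w0) (transv_ne_one hw0)]; norm_num)
  obtain ⟨g', hg'⟩ := sp_inner hF (by norm_num) ψ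
  rw [hg', conj_transv] at hψ
  have htr := trans6 hF hV (B := sympBilin 3 F) sympBilin_isAlt (fun u hu => eq_zero_of_forall_sympForm_right hu)
    (X := R.map ρ) (by
      rintro _ ⟨r, _, rfl⟩ u v
      exact sympForm_mulVec r.2 u v)
    (x := ρ x) (s := ρ s) (d := ρ (g * d * g⁻¹)) (Subgroup.mem_map_of_mem ρ hxR)
    (by rw [orderOf_injective ρ hρ, hx]) (Subgroup.mem_map_of_mem ρ hsR) (by rw [orderOf_injective ρ hρ, hs])
    (Subgroup.mem_map_of_mem ρ hφ) (by
      intro v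
      rw [map_mul, map_mul]
      show v + (g.1 *ᵥ (d.1 *ᵥ ((g⁻¹ : symplecticGroup (Fin 3) F).1 *ᵥ v))) +
        (g.1 *ᵥ (d.1 *ᵥ ((g⁻¹ : symplecticGroup (Fin 3) F).1 *ᵥ (g.1 *ᵥ (d.1 *ᵥ ((g⁻¹ : symplecticGroup (Fin 3) F).1 *ᵥ v)))))) = 0
      rw [sp_inv_mul_mulVec]
      nth_rewrite 1 [← sp_mul_inv_mulVec g v]
      rw [← Matrix.mulVec_add, ← Matrix.mulVec_add, hd, Matrix.mulVec_zero])
  apply sp_eq_top hF
  intro w hw
  have hne : g'.1 *ᵥ w0 ≠ 0 := by
    intro h
    apply hw0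
    rw [← sp_inv_mul_mulVec g' w0, h, Matrix.mulVec_zero]
  obtain ⟨_, ⟨r, hr, rfl⟩, hrw⟩ := htr _ w hne hw
  have h1 := R.mul_mem (R.mul_mem hr hψ) (R.inv_mem hr)
  rw [conj_transv] at h1
  have h2 : r.1 *ᵥ (g'.1 *ᵥ w0) = w := hrw
  rwa [h2] at h1

end Final

/-- **`Sp₆(2)`** -/
theorem clMaxA_sp62 {T : Type*} [Group T] {F : Type*} [Field F] [Fintype F] (hF : Fintype.card F = 2)
    (h : Nonempty (T ≃* PSp 3 F)) : ClMaxA T := by
  obtain ⟨e⟩ := h
  exact Cfsg.Agent.H278.El.ClMaxA.congr ((pspEquiv hF (by norm_num)).trans e.symm) fun M hM => der_sp6 hF hM.1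

end Cfsg.Agent.H180.LEl
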