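import Cfsg.Agent.H180.LElSp

/-!
# Transitivity on vectors for subgroups of `Sp₆(2)` of order divisible by `5 · 7` (team ELUSIVE)
-/

set_option autoImplicit false

namespace Cfsg.Agent.H180.LEl

open Module

section

variable {F : Type*} [Field F] [Fintype F] {V : Type*} [AddCommGroup V] [Module F V] [Fintype V] [DecidableEq V]

/-- sums of invariant functions over the non-zero vectors, by the fixed vectors of `s` -/
theorem sum_orb {X : Subgroup (V ≃ₗ[F] V)} {s : V ≃ₗ[F] V} {m : ℕ}
    (h : ∀ v : V, v ≠ 0 → (orb X v).card = m * (orb X v ∩ fixF s).card)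
    {g : V → ℚ} (hg : ∀ x ∈ X, ∀ w, g (x w) = g w) :
    ∑ w ∈ Finset.univ.erase 0, g w = m * ∑ t ∈ (fixF s).erase 0, g t := by
  classical
  have hgo : ∀ v w, w ∈ orb X v → g w = g v := by
    intro v w hw
    obtain ⟨x, hx, rfl⟩ := mem_orb.1 hw
    exact hg x hx v
  set S : Finset V := Finset.univ.erase 0 with hS
  set K : Finset V := (fixF s).erase 0 with hK
  have hSm : ∀ w, w ∈ S ↔ w ≠ 0 := fun w => by rw [hS, Finset.mem_erase]; exact and_iff_left (Finset.mem_univ _)
  have hint : ∀ w : V, w ≠ 0 → orb X w ∩ fixF s = K.filter fun t => t ∈ orb X w := by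
    intro w hw
    ext t
    rw [Finset.mem_inter, Finset.mem_filter, hK, Finset.mem_erase]
    constructor
    · rintro ⟨h1, h2⟩
      exact ⟨⟨orb_ne_zero hw h1, h2⟩, h1⟩
    · rintro ⟨⟨_, h2⟩, h1⟩
      exact ⟨h1, h2⟩
  have hpos : ∀ w : V, w ≠ 0 → ((orb X w ∩ fixF s).card : ℚ) ≠ 0 := by
    intro w hw h0
    have h1 := h w hw
    have h2 : (orb X w ∩ fixF s).card = 0 := by exact_mod_cast h0
    rw [h2, mul_zero] at h1
    have := orb_pos X w
    omega
  have e1 : ∑ w ∈ S, g w = ∑ w ∈ S, ∑ t ∈ K, if t ∈ orb X w then g w / (orb X w ∩ fixF s).card else 0 := by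
    refine Finset.sum_congr rfl fun w hw => ?_
    have hw0 := (hSm w).1 hw
    rw [← Finset.sum_filter, ← hint w hw0, Finset.sum_const, nsmul_eq_mul, mul_div_cancel₀ _ (hpos w hw0)]
  rw [e1, Finset.sum_comm, Finset.mul_sum]
  refine Finset.sum_congr rfl fun t ht => ?_
  have ht0 : t ≠ 0 := (Finset.mem_erase.1 ht).1
  have e2 : ∀ w ∈ S, (if t ∈ orb X w then g w / (orb X w ∩ fixF s).card else 0) =
      if w ∈ orb X t then g t / (orb X t ∩ fixF s).card else 0 := by
    intro w _
    by_cases hw : w ∈ orb X t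
    · rw [if_pos hw, if_pos (orb_symm hw), orb_eq hw, hgo t w hw]
    · rw [if_neg hw, if_neg fun h => hw (orb_symm h)]
  rw [Finset.sum_congr rfl e2, ← Finset.sum_filter]
  have e3 : (S.filter fun w => w ∈ orb X t) = orb X t := by
    ext w
    rw [Finset.mem_filter, hSm]
    exact ⟨fun h => h.2, fun h => ⟨orb_ne_zero ht0 h, h⟩⟩
  rw [e3, Finset.sum_const, nsmul_eq_mul, h t ht0, Nat.cast_mul]
  have := hpos t ht0
  field_simp

end

section

variable {F : Type*} [Field F] [Fintype F] {V : Type*} [AddCommGroup V] [Module F V] [Fintype V] [DecidableEq V]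

/-- transitivity for `Sp₆(2)` -/
theorem trans6 (hF : Fintype.card F = 2) (hV : finrank F V = 6) {B : LinearMap.BilinForm F V} (hA : B.IsAlt)
    (hnd : ∀ u, (∀ v, B u v = 0) → u = 0) {X : Subgroup (V ≃ₗ[F] V)} (hB : ∀ g ∈ X, ∀ u v, B (g u) (g v) = B u v)
    {x s d : V ≃ₗ[F] V} (hxX : x ∈ X) (hx : orderOf x = 7) (hsX : s ∈ X) (hs : orderOf s = 5)
    (hdX : d ∈ X) (hd : ∀ v, v + d v + d (d v) = 0) :
    ∀ u w : V, u ≠ 0 → w ≠ 0 → ∃ g ∈ X, g u = w := by
  classical
  have hcV : Fintype.card V = 64 := by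
    rw [Module.card_eq_pow_finrank (K := F), hF, hV]; norm_num
  have p7 : Fact (Nat.Prime 7) := ⟨by norm_num⟩
  have p5 : Fact (Nat.Prime 5) := ⟨by norm_num⟩
  have p3 : Fact (Nat.Prime 3) := ⟨by norm_num⟩
  have hs5 : s ^ 5 = 1 := by rw [← hs, pow_orderOf_eq_one]
  have hfx : ∀ v, x v = v → v = 0 := by
    obtain ⟨k, hk, hke, hk1, hk2⟩ := card_fixF_even hA hnd hx (odd_ne_zero hF (by decide)) (hB x hxX)
    rw [hF, hV] at hk2
    rw [hF] at hk1
    rw [hV] at hk
    have hk3 : k = 0 := by
      interval_cases k <;> first | rfl | (exfalso; revert hk2; decide) | (exfalso; revert hke; decide)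
    rw [hk3, pow_zero] at hk1
    obtain ⟨a, ha⟩ := Finset.card_eq_one.1 hk1
    have h0 := zero_mem_fixF x
    rw [ha, Finset.mem_singleton] at h0
    intro v hv
    have : v ∈ fixF x := mem_fixF.2 hv
    rwa [ha, Finset.mem_singleton, ← h0] at this
  have hfs : (fixF s).card = 4 := by
    obtain ⟨k, hk, hke, hk1, hk2⟩ := card_fixF_even hA hnd hs (odd_ne_zero hF (by decide)) (hB s hsX)
    rw [hF, hV] at hk2
    rw [hF] at hk1
    rw [hV] at hk
    have hk3 : k = 2 := by
      interval_cases k <;> first | rfl | (exfalso; revert hk2; decide) | (exfalso; revert hke; decide)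
    rw [hk1, hk3]
    norm_num
  have hfd : ∀ v, d v = v → v = 0 := by
    intro v hv
    have := hd v
    rw [hv, hv, add_self' hF, zero_add] at this
    exact this
  have hemp : ∀ g : V ≃ₗ[F] V, (∀ v, g v = v → v = 0) → ∀ v : V, v ≠ 0 → orb X v ∩ fixF g = ∅ := by
    intro g hg v hv
    rw [Finset.eq_empty_iff_forall_notMem]
    intro w hw
    rw [Finset.mem_inter, mem_fixF] at hw
    exact orb_ne_zero hv hw.1 (hg w hw.2)
  -- the sizes of the orbits
  have hsize : ∀ v : V, v ≠ 0 → (orb X v).card = 21 * (orb X v ∩ fixF s).card ∧ (orb X v).card ≤ 63 := by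
    intro v hv
    have m1 := card_mod' (p := 7) (by rw [← hx, pow_orderOf_eq_one]) (orb X v) (orb_inv hxX)
    have m2 := card_mod' (order_three hd) (orb X v) (orb_inv hdX)
    have m3 := card_mod' hs5 (orb X v) (orb_inv hsX)
    rw [hemp x hfx v hv, Finset.card_empty] at m1
    rw [hemp d hfd v hv, Finset.card_empty] at m2
    have hle : (orb X v).card ≤ 63 := by
      have := Finset.card_le_card (orb_sub (X := X) hv)
      rwa [Finset.card_erase_of_mem (Finset.mem_univ _), Finset.card_univ, hcV] at this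
    have hle2 : (orb X v ∩ fixF s).card ≤ 3 := by
      have h1 : orb X v ∩ fixF s ⊆ (fixF s).erase 0 := by
        intro w hw
        rw [Finset.mem_inter] at hw
        exact Finset.mem_erase.2 ⟨orb_ne_zero hv hw.1, hw.2⟩
      have := Finset.card_le_card h1
      rwa [Finset.card_erase_of_mem (zero_mem_fixF s), hfs] at this
    have hpos := orb_pos X v
    refine ⟨?_, hle⟩
    unfold Nat.ModEq at m1 m2 m3
    omega
  -- by contradiction
  by_contra hno
  push Not at hno
  obtain ⟨u0, w0, hu0, hw0, huw⟩ := hno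
  obtain ⟨v0, hv0, hO⟩ : ∃ v0 : V, v0 ≠ 0 ∧ (orb X v0).card = 21 := by
    by_contra hno
    push Not at hno
    have h1 := hsize u0 hu0
    have h2 := hsize w0 hw0
    have h3 := hno u0 hu0
    have h4 := hno w0 hw0
    have hdisj : Disjoint (orb X u0) (orb X w0) := by
      rw [Finset.disjoint_left]
      intro t ht1 ht2
      have h5 : w0 ∈ orb X u0 := orb_trans ht1 (orb_symm ht2)
      obtain ⟨g, hg, hgw⟩ := mem_orb.1 h5
      exact huw g hg hgw
    have h5 : (orb X u0 ∪ orb X w0).card ≤ 63 := by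
      have := Finset.card_le_card (Finset.union_subset (orb_sub (X := X) hu0) (orb_sub (X := X) hw0))
      rwa [Finset.card_erase_of_mem (Finset.mem_univ _), Finset.card_univ, hcV] at this
    rw [Finset.card_union_of_disjoint hdisj] at h5
    have p1 := orb_pos X u0
    have p2 := orb_pos X w0
    omega
  set O := orb X v0 with hOdef
  have hOfix : (O ∩ fixF s).card = 1 := by
    have := (hsize v0 hv0).1
    rw [← hOdef, hO] at this
    omega
  obtain ⟨a, ha⟩ := Finset.card_eq_one.1 hOfix
  have haO : a ∈ O ∧ s a = a := by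
    have : a ∈ O ∩ fixF s := by rw [ha]; exact Finset.mem_singleton_self a
    rwa [Finset.mem_inter, mem_fixF] at this
  have ha0 : a ≠ 0 := orb_ne_zero hv0 haO.1
  have honly : ∀ u ∈ O, s u = u → u = a := by
    intro u hu hsu
    have : u ∈ O ∩ fixF s := Finset.mem_inter.2 ⟨hu, mem_fixF.2 hsu⟩
    rwa [ha, Finset.mem_singleton] at this
  -- another fixed vector
  obtain ⟨b, hb, hab⟩ : ∃ b, s b = b ∧ B a b = 1 := by
    by_contra hno2
    push Not at hno2
    exact ha0 (nondeg_fixS hnd hs5 (odd_ne_zero hF (by decide)) (hB s hsX) haO.2 fun v hv =>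
      (two_cases hF _).resolve_right (hno2 v hv))
  have hb0 : b ≠ 0 := by
    rintro rfl
    rw [map_zero] at hab
    exact zero_ne_one hab
  have hne : a ≠ b := by
    rintro rfl
    rw [hA a] at hab
    exact zero_ne_one hab
  have hsab : s (a + b) = a + b := by rw [map_add, haO.2, hb]
  have hab0 : a + b ≠ 0 := by
    intro h
    apply hne
    have : a + b = b + b := by rw [h, add_self' hF]
    exact add_right_cancel this
  have hK : (fixF s).erase 0 = {a, b, a + b} := by
    symm
    apply Finset.eq_of_subset_of_card_le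
    · intro w hw
      rw [Finset.mem_insert, Finset.mem_insert, Finset.mem_singleton] at hw
      rw [Finset.mem_erase, mem_fixF]
      rcases hw with rfl | rfl | rfl
      · exact ⟨ha0, haO.2⟩
      · exact ⟨hb0, hb⟩
      · exact ⟨hab0, hsab⟩
    · rw [Finset.card_erase_of_mem (zero_mem_fixF s), hfs, Finset.card_insert_of_notMem, Finset.card_pair]
      · intro h
        exact ha0 (add_eq_right.1 h.symm)
      · rw [Finset.mem_insert, Finset.mem_singleton]
        push Not
        exact ⟨hne, fun h => hb0 (add_eq_left.1 h.symm)⟩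
  -- the counting function
  let N : V → ℕ := fun w => (O.filter fun u => B u w = 1).card
  have hNinv : ∀ g ∈ X, ∀ w, N (g w) = N w := by
    intro g hg w
    refine Finset.card_bij (fun u _ => g⁻¹ u) ?_ ?_ ?_
    · intro u hu
      rw [Finset.mem_filter] at hu ⊢
      refine ⟨orb_inv (X.inv_mem hg) u hu.1, ?_⟩
      rw [← hB g hg, show g ((g⁻¹ : V ≃ₗ[F] V) u) = u from LinearEquiv.apply_symm_apply g u]
      exact hu.2
    · intro u _ v _ huv
      exact (g⁻¹ : V ≃ₗ[F] V).injective huv
    · intro u hu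
      rw [Finset.mem_filter] at hu
      refine ⟨g u, ?_, LinearEquiv.symm_apply_apply g u⟩
      rw [Finset.mem_filter]
      exact ⟨orb_inv hg u hu.1, by rw [hB g hg]; exact hu.2⟩
  have hsum0 : ∑ u ∈ O, u = 0 := by
    apply hfx
    rw [map_sum]
    refine Finset.sum_bij (fun u _ => x u) ?_ ?_ ?_ ?_
    · intro u hu
      exact orb_inv hxX u hu
    · intro u _ v _ huv
      exact x.injective huv
    · intro u hu
      exact ⟨x⁻¹ u, orb_inv (X.inv_mem hxX) u hu, LinearEquiv.apply_symm_apply x u⟩
    · intro u _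
      rfl
  have hNeven : ∀ w, Even (N w) := by
    intro w
    rw [← Nat.not_odd_iff_even]
    intro hodd
    apply odd_ne_zero hF hodd
    have h1 : B (∑ u ∈ O, u) w = ∑ u ∈ O, B u w := by
      rw [map_sum, LinearMap.sum_apply]
    rw [hsum0, map_zero, LinearMap.zero_apply] at h1
    rw [h1]
    have h2 : ∑ u ∈ O, B u w = ∑ u ∈ O, if B u w = 1 then (1 : F) else 0 := by
      refine Finset.sum_congr rfl fun u _ => ?_
      rcases two_cases hF (B u w) with h | h
      · rw [h, if_neg zero_ne_one]
      · rw [h, if_pos rfl]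
    rw [h2, Finset.sum_boole]
  have hNmod : ∀ w, s w = w → N w ≡ (if B a w = 1 then 1 else 0) [MOD 5] := by
    intro w hw
    have h1 := card_mod' hs5 (O.filter fun u => B u w = 1) (by
      intro u hu
      rw [Finset.mem_filter] at hu ⊢
      refine ⟨orb_inv hsX u hu.1, ?_⟩
      have h2 := hB s hsX u w
      rw [hw] at h2
      rw [h2]
      exact hu.2)
    have h2 : ((O.filter fun u => B u w = 1) ∩ fixF s).card = if B a w = 1 then 1 else 0 := by
      split_ifs with h3
      · rw [Finset.card_eq_one]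
        refine ⟨a, ?_⟩
        ext u
        rw [Finset.mem_inter, Finset.mem_filter, mem_fixF, Finset.mem_singleton]
        constructor
        · rintro ⟨⟨h4, _⟩, h5⟩
          exact honly u h4 h5
        · rintro rfl
          exact ⟨⟨haO.1, h3⟩, haO.2⟩
      · rw [Finset.card_eq_zero, Finset.eq_empty_iff_forall_notMem]
        intro u hu
        rw [Finset.mem_inter, Finset.mem_filter, mem_fixF] at hu
        have := honly u hu.1.1 hu.2
        rw [this] at hu
        exact h3 hu.1.2
    rw [h2] at h1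
    exact h1
  have hNle : ∀ w, N w ≤ 21 := by
    intro w
    have := Finset.card_filter_le O (fun u => B u w = 1)
    rw [hO] at this
    exact this
  -- the values of `N`
  have hNa := hNmod a haO.2
  rw [hA a, if_neg zero_ne_one] at hNa
  have hNb := hNmod b hb
  rw [hab, if_pos rfl] at hNb
  have hNc := hNmod (a + b) hsab
  rw [map_add, hA a, zero_add, hab, if_pos rfl] at hNc
  have eva := hNeven a
  have evb := hNeven b
  have evc := hNeven (a + b)
  have lea := hNle a
  have leb := hNle b
  have lec := hNle (a + b)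
  -- the two sums
  have hB0 : ∀ u : V, u ≠ 0 → B u ≠ 0 := by
    intro u hu h
    exact hu (hnd u fun v => by rw [h]; rfl)
  have hBinj : ∀ u v : V, u ≠ v → B u ≠ B v := by
    intro u v huv h
    apply huv
    have : u - v = 0 := hnd _ fun w => by rw [map_sub, h, sub_self]; rfl
    exact sub_eq_zero.1 this
  have hOne : ∀ u ∈ O, u ≠ 0 := fun u hu => orb_ne_zero hv0 hu
  have s1 : ∑ w : V, N w = 21 * 32 := by
    have h1 : ∀ w, N w = ∑ u ∈ O, if B u w = 1 then 1 else 0 := fun w => by
      rw [Finset.sum_boole, Nat.cast_id]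
    simp only [h1]
    rw [Finset.sum_comm]
    have h2 : ∀ u ∈ O, ∑ w : V, (if B u w = 1 then 1 else 0) = 32 := by
      intro u hu
      rw [Finset.sum_boole, Nat.cast_id]
      have := card_eq_one hF (hB0 u (hOne u hu))
      rw [hcV] at this
      omega
    rw [Finset.sum_congr rfl h2, Finset.sum_const, hO, smul_eq_mul]
  have s2 : ∑ w : V, N w * N w = 21 * 32 + 21 * 20 * 16 := by
    have h1 : ∀ w, N w * N w = ∑ u ∈ O, ∑ u' ∈ O, if B u w = 1 ∧ B u' w = 1 then 1 else 0 := by
      intro w
      have h2 : N w = ∑ u ∈ O, if B u w = 1 then 1 else 0 := by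
        rw [Finset.sum_boole, Nat.cast_id]
      rw [h2, Finset.sum_mul_sum]
      refine Finset.sum_congr rfl fun u _ => Finset.sum_congr rfl fun u' _ => ?_
      by_cases h3 : B u w = 1 <;> by_cases h4 : B u' w = 1 <;> simp [h3, h4]
    simp only [h1]
    rw [Finset.sum_comm]
    have h2 : ∀ u ∈ O, ∑ w : V, ∑ u' ∈ O, (if B u w = 1 ∧ B u' w = 1 then 1 else 0) = 32 + 20 * 16 := by
      intro u hu
      rw [Finset.sum_comm, ← Finset.add_sum_erase O _ hu]
      congr 1
      · rw [Finset.sum_boole, Nat.cast_id]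
        have h5 := card_eq_one hF (hB0 u (hOne u hu))
        rw [hcV] at h5
        simp only [and_self]
        omega
      · have h3 : ∀ u' ∈ O.erase u, ∑ w : V, (if B u w = 1 ∧ B u' w = 1 then 1 else 0) = 16 := by
          intro u' hu'
          rw [Finset.mem_erase] at hu'
          rw [Finset.sum_boole, Nat.cast_id]
          have h5 := card_eq_one_one hF (hB0 u (hOne u hu)) (hB0 u' (hOne u' hu'.2)) (hBinj u u' hu'.1.symm)
          rw [hcV] at h5
          omega
        rw [Finset.sum_congr rfl h3, Finset.sum_const, Finset.card_erase_of_mem hu, hO, smul_eq_mul]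
    rw [Finset.sum_congr rfl h2, Finset.sum_const, hO, smul_eq_mul]
  have hN0 : N 0 = 0 := by
    show (O.filter fun u => B u 0 = 1).card = 0
    rw [Finset.card_eq_zero, Finset.eq_empty_iff_forall_notMem]
    intro u hu
    rw [Finset.mem_filter, map_zero] at hu
    exact zero_ne_one hu.2
  have hsz : ∀ v : V, v ≠ 0 → (orb X v).card = 21 * (orb X v ∩ fixF s).card := fun v hv => (hsize v hv).1
  have hK3 : ∀ g : V → ℚ, ∑ t ∈ (fixF s).erase 0, g t = g a + (g b + g (a + b)) := by
    intro g
    rw [hK, Finset.sum_insert, Finset.sum_pair]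
    · intro h
      exact ha0 (add_eq_right.1 h.symm)
    · rw [Finset.mem_insert, Finset.mem_singleton]
      push Not
      exact ⟨hne, fun h => hb0 (add_eq_left.1 h.symm)⟩
  have t1 := sum_orb hsz (g := fun w => (N w : ℚ)) (fun g hg w => by rw [hNinv g hg])
  have t2 := sum_orb hsz (g := fun w => (N w * N w : ℚ)) (fun g hg w => by rw [hNinv g hg])
  rw [hK3] at t1 t2
  have q1 : N a + N b + N (a + b) = 32 := by
    have h1 : ∑ w ∈ Finset.univ.erase 0, N w = 21 * 32 := by
      rw [← s1, ← Finset.add_sum_erase Finset.univ N (Finset.mem_univ 0), hN0, zero_add]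
    have h3 : 21 * 32 = 21 * (N a + (N b + N (a + b))) := by
      rw [← h1]
      exact_mod_cast t1
    omega
  have q2 : N a * N a + N b * N b + N (a + b) * N (a + b) = 352 := by
    have h1 : ∑ w ∈ Finset.univ.erase 0, N w * N w = 21 * 32 + 21 * 20 * 16 := by
      rw [← s2, ← Finset.add_sum_erase Finset.univ (fun w => N w * N w) (Finset.mem_univ 0), hN0, zero_mul, zero_add]
    have h3 : 21 * 32 + 21 * 20 * 16 = 21 * (N a * N a + (N b * N b + N (a + b) * N (a + b))) := by
      rw [← h1]
      exact_mod_cast t2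
    omega
  clear_value N
  generalize N a = na at *
  generalize N b = nb at *
  generalize N (a + b) = nc at *
  unfold Nat.ModEq at hNa hNb hNc
  obtain ⟨ka, rfl⟩ := eva
  obtain ⟨kb, rfl⟩ := evb
  obtain ⟨kc, rfl⟩ := evc
  have ca : ka = 0 ∨ ka = 5 ∨ ka = 10 := by omega
  have cb : kb = 3 ∨ kb = 8 := by omega
  have cc : kc = 3 ∨ kc = 8 := by omega
  rcases ca with rfl | rfl | rfl <;> rcases cb with rfl | rfl <;> rcases cc with rfl | rfl <;> omega

end

end Cfsg.Agent.H180.LEl
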