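import Cfsg.Agent.H180.MElBig
import Cfsg.Agent.S0380

/-!
# `ClMaxA` for `L₃(4)` (team ELUSIVE)
-/

set_option autoImplicit false

namespace Cfsg.Agent.H180.MEl

open Cfsg
open Cfsg.Agent.H396 (Der der_of_prime)
open Cfsg.Agent.H278.El (ClMaxA ClMax ClT)
open Cfsg.Agent.SporadicA.FieldFour Cfsg.Agent.SporadicA.PlaneFour

theorem der_L34 {R : Subgroup (Matrix.ProjectiveSpecialLinearGroup (Fin 3) F4)} (hR : R ≠ ⊤) :
    Der (Matrix.ProjectiveSpecialLinearGroup (Fin 3) F4) R := by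
  by_contra hn
  apply hR
  have hc : Nat.card (Matrix.ProjectiveSpecialLinearGroup (Fin 3) F4) = 20160 := Cfsg.Agent.S0380.card_psl
  have hfin : Finite (Matrix.ProjectiveSpecialLinearGroup (Fin 3) F4) := Nat.finite_of_card_ne_zero (by rw [hc]; norm_num)
  have e : Nat.card (R.map pslHom) = Nat.card R :=
    Nat.card_congr (R.equivMapOfInjective pslHom pslHom_injective).symm.toEquiv
  have hd : ∀ p : ℕ, p.Prime → p ∣ Nat.card (Matrix.ProjectiveSpecialLinearGroup (Fin 3) F4) →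
      p ∣ Nat.card (R.map pslHom) := by
    intro p hp h
    rw [e]
    exact dvd_of_not_der hn hp h
  apply eq_top_of_card
  rw [← e, hc]
  refine m21 (T := {none, some 0, some 1}) ?_ (by decide) ?_ (hd 5 (by norm_num) (by rw [hc]; norm_num))
    (hd 7 (by norm_num) (by rw [hc]; norm_num))
  · rintro _ ⟨g, -, rfl⟩
    exact pslHom_mem_M24 g
  · rintro _ ⟨g, -, rfl⟩ t ht
    apply permHom_apply_of_not
    rintro ⟨h1, h2, h3⟩
    simp only [Finset.mem_insert, Finset.mem_singleton] at ht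
    rcases ht with rfl | rfl | rfl
    · exact h1 rfl
    · exact h2 rfl
    · exact h3 rfl

/-- **`L₃(4)`** -/
theorem clMaxA_l34 {T : Type*} [Group T] {F : Type*} [Field F] [Fintype F] (hF : Fintype.card F = 4)
    (h : Nonempty (T ≃* Matrix.ProjectiveSpecialLinearGroup (Fin 3) F)) : ClMaxA T := by
  obtain ⟨e⟩ := h
  obtain ⟨eF⟩ := nonempty_psl_equiv (n := Fin 3) F hF
  exact Cfsg.Agent.H278.El.ClMaxA.congr (e.trans eF.symm).symm fun M hM => der_L34 hM.1

end Cfsg.Agent.H180.MEl
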