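import Cfsg.Agent.H180.MElNum

/-!
# Simplicity of groups of order 660 and 7920 whose elements of order 11 are isolated
-/

set_option autoImplicit false

namespace Cfsg.Agent.H180.MEl

open Subgroup

/-- the elements of order `11` commute with no element of prime order `≠ 11` -/
def Iso11 (G : Type*) [Group G] : Prop :=
  ∀ x y : G, Commute x y → orderOf x = 11 → (orderOf y).Prime → orderOf y = 11

theorem Iso11.sub {G : Type*} [Group G] (h : Iso11 G) (H : Subgroup G) : Iso11 H := by
  intro x y hxy hx hy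
  rw [← Subgroup.orderOf_coe] at hx hy ⊢
  exact h x y (congrArg Subtype.val hxy) hx hy

theorem prime11 : Fact (Nat.Prime 11) := ⟨by norm_num⟩

theorem normalizer_conj {G : Type*} [Group G] {Q : Subgroup G} {g : G} (hg : g ∈ normalizer (Q : Set G)) {y : G}
    (hy : y ∈ Q) : g * y * g⁻¹ ∈ Q :=
  (mem_normalizer_iff.1 hg y).1 hy

theorem fact_one {n : ℕ} (h1 : n ∣ 7920) (h11 : 11 ∣ n) : n.factorization 11 = 1 := by
  obtain ⟨k, rfl⟩ := h11
  have hk : k ∣ 720 := by
    rw [show 7920 = 11 * 720 by norm_num] at h1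
    exact Nat.dvd_of_mul_dvd_mul_left (by norm_num) h1
  have hk0 : k ≠ 0 := by
    rintro rfl
    rw [zero_dvd_iff] at hk
    norm_num at hk
  refine factorization_eq_one (by norm_num) rfl ?_ (by positivity)
  intro h2
  exact absurd (h2.trans hk) (by norm_num)

theorem num_pow {q j n : ℕ} (hq : q.Prime) (hn : n = q ^ j) (hj : j ≠ 0) (h : n ∣ 720) (h11 : 11 ∣ n - 1) : False := by
  have h1 : n ∈ (Nat.divisors 720).filter (fun n => 11 ∣ n - 1) := by
    rw [Finset.mem_filter]
    exact ⟨Nat.mem_divisors.2 ⟨h, by norm_num⟩, h11⟩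
  have h2 : (Nat.divisors 720).filter (fun n => 11 ∣ n - 1) = {1, 12, 45, 144} := by decide +kernel
  rw [h2] at h1
  simp only [Finset.mem_insert, Finset.mem_singleton] at h1
  have key : ∀ p : ℕ, p.Prime → p ∣ n → p = q := by
    intro p hp hpn
    rw [hn] at hpn
    exact (Nat.prime_dvd_prime_iff_eq hp hq).1 (hp.dvd_of_dvd_pow hpn)
  rcases h1 with h1 | h1 | h1 | h1
  · rw [h1] at hn
    have : q ∣ 1 := by
      rw [hn]; exact dvd_pow_self q hj
    exact hq.one_lt.ne' (Nat.dvd_one.1 this)
  · have := (key 2 Nat.prime_two (by rw [h1]; norm_num)).trans (key 3 Nat.prime_three (by rw [h1]; norm_num)).symm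
    norm_num at this
  · have := (key 5 Nat.prime_five (by rw [h1]; norm_num)).trans (key 3 Nat.prime_three (by rw [h1]; norm_num)).symm
    norm_num at this
  · have := (key 2 Nat.prime_two (by rw [h1]; norm_num)).trans (key 3 Nat.prime_three (by rw [h1]; norm_num)).symm
    norm_num at this

/-- an element of order 11 acts freely on a `q`-subgroup it normalizes -/
theorem eleven_dvd {G : Type*} [Group G] [Finite G] (h : Iso11 G) {q : ℕ} (hq : q.Prime) (hq11 : q ≠ 11)
    {Q : Subgroup G} (hQ : IsPGroup q Q) {x : G} (hx : orderOf x = 11) (hxQ : x ∈ normalizer (Q : Set G)) :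
    11 ∣ Nat.card Q - 1 := by
  let S := {y : G // y ∈ Q ∧ y ≠ 1}
  have hz : ∀ g : zpowers x, (g : G) ∈ normalizer (Q : Set G) := by
    intro g
    exact (zpowers_le.2 hxQ) g.2
  let act : MulAction (zpowers x) S :=
    { smul := fun g y => ⟨(g : G) * y.1 * (g : G)⁻¹, normalizer_conj (hz g) y.2.1, fun h => y.2.2 (by
        have := congrArg (fun t => (g : G)⁻¹ * t * (g : G)) h
        simpa [mul_assoc] using this)⟩
      one_smul := fun y => Subtype.ext (by
        show ((1 : zpowers x) : G) * y.1 * ((1 : zpowers x) : G)⁻¹ = y.1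
        simp)
      mul_smul := fun g k y => Subtype.ext (by
        show ((g * k : zpowers x) : G) * y.1 * ((g * k : zpowers x) : G)⁻¹ = (g : G) * ((k : G) * y.1 * (k : G)⁻¹) * (g : G)⁻¹
        rw [Subgroup.coe_mul]
        group) }
  have h1 : Nat.card (zpowers x) ∣ Nat.card S := by
    refine card_dvd_of_free (G := zpowers x) (α := S) fun y => ?_
    rw [eq_bot_iff]
    intro g hg
    rw [MulAction.mem_stabilizer_iff] at hg
    have hg' : (g : G) * y.1 * (g : G)⁻¹ = y.1 := congrArg Subtype.val hg
    rw [Subgroup.mem_bot]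
    by_contra hg1
    have hgG : (g : G) ≠ 1 := fun hh => hg1 (Subtype.ext hh)
    have hcomm : Commute (g : G) y.1 := mul_inv_eq_iff_eq_mul.1 hg'
    have hog : orderOf (g : G) = 11 := by
      have h2 : orderOf (g : G) ∣ 11 := by
        have h3 : orderOf g ∣ Nat.card (zpowers x) := orderOf_dvd_natCard g
        rwa [Nat.card_zpowers, hx, ← Subgroup.orderOf_coe] at h3
      rcases (Nat.dvd_prime (by norm_num)).1 h2 with h3 | h3
      · exact absurd (orderOf_eq_one_iff.1 h3) hgG
      · exact h3
    have hqy : q ∣ orderOf y.1 := by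
      obtain ⟨j, hj⟩ := hQ ⟨y.1, y.2.1⟩
      have h2 : orderOf (⟨y.1, y.2.1⟩ : Q) ∣ q ^ j := orderOf_dvd_of_pow_eq_one hj
      rw [Subgroup.orderOf_mk] at h2
      obtain ⟨i, -, hi⟩ := (Nat.dvd_prime_pow hq).1 h2
      rw [hi]
      refine dvd_pow_self q ?_
      rintro rfl
      rw [pow_zero, orderOf_eq_one_iff] at hi
      exact y.2.2 hi
    obtain ⟨n, hn⟩ := exists_pow_prime hq hqy
    have := h g (y.1 ^ n) (hcomm.pow_right n) hog (by rw [hn]; exact hq)
    rw [hn] at this
    exact hq11 this
  rw [Nat.card_zpowers, hx] at h1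
  have h2 : Nat.card S = Nat.card Q - 1 := by
    have e : S ≃ {y : Q // y ≠ 1} :=
      { toFun := fun y => ⟨⟨y.1, y.2.1⟩, fun h => y.2.2 (congrArg Subtype.val h)⟩
        invFun := fun y => ⟨y.1.1, y.1.2, fun h => y.2 (Subtype.ext h)⟩
        left_inv := fun y => rfl
        right_inv := fun y => rfl }
    rw [Nat.card_congr e]
    classical
    have : Fintype Q := Fintype.ofFinite _
    have h3 := Fintype.card_subtype_compl (fun x : Q => x = 1)
    rw [Fintype.card_subtype_eq, ← Nat.card_eq_fintype_card, ← Nat.card_eq_fintype_card] at h3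
    exact h3
  rwa [h2] at h1

theorem normal_bot {G : Type*} [Group G] [Finite G] (h : Iso11 G) (hc : Nat.card G ∣ 7920) (h11 : 11 ∣ Nat.card G)
    {N : Subgroup G} [N.Normal] (hN : ¬ 11 ∣ Nat.card N) : N = ⊥ := by
  by_contra hne
  have h1 : Nat.card N ≠ 1 := fun h => hne (Subgroup.card_eq_one.1 h)
  obtain ⟨q, hq, hqN⟩ := Nat.exists_prime_and_dvd h1
  have : Fact q.Prime := ⟨hq⟩
  have := prime11
  obtain ⟨Q⟩ : Nonempty (Sylow q N) := inferInstance
  have hsup := Sylow.normalizer_sup_eq_top Q
  set QG : Subgroup G := (Q : Subgroup N).map N.subtype with hQG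
  have hq11 : q ≠ 11 := by
    rintro rfl
    exact hN hqN
  have h2 : 11 ∣ Nat.card (normalizer (QG : Set G)) := by
    have h3 : Nat.card G ∣ Nat.card (normalizer (QG : Set G)) * Nat.card N := by
      have h4 : N.index ∣ Nat.card (normalizer (QG : Set G)) := by
        rw [← Subgroup.relIndex_top_right, ← hsup, Subgroup.relIndex_sup_right]
        exact Subgroup.relIndex_dvd_card N _
      rw [← N.card_mul_index, mul_comm]
      exact Nat.mul_dvd_mul_right h4 _
    rcases (Nat.Prime.dvd_mul (by norm_num)).1 (h11.trans h3) with h4 | h4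
    · exact h4
    · exact absurd h4 hN
  obtain ⟨x, hx⟩ := exists_prime_orderOf_dvd_card' (G := normalizer (QG : Set G)) 11 h2
  have hx' : orderOf (x : G) = 11 := by rw [← hx]; exact Subgroup.orderOf_coe x
  have hQp : IsPGroup q QG := Q.isPGroup'.map N.subtype
  have h3 := eleven_dvd h hq hq11 hQp hx' x.2
  have hcQ : Nat.card QG = Nat.card (Q : Subgroup N) :=
    Nat.card_congr ((Q : Subgroup N).equivMapOfInjective N.subtype N.subtype_injective).symm.toEquiv
  have h4 : Nat.card (Q : Subgroup N) = q ^ (Nat.card N).factorization q := Q.card_eq_multiplicity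
  have h5 : (Nat.card N).factorization q ≠ 0 := by
    have := (hq.dvd_iff_one_le_factorization Nat.card_pos.ne').1 hqN
    omega
  refine num_pow hq (hcQ.trans h4) h5 ?_ h3
  have h6 : Nat.card QG ∣ 7920 := (Subgroup.card_subgroup_dvd_card QG).trans hc
  rw [show 7920 = 11 * 720 by norm_num] at h6
  refine Nat.Coprime.dvd_of_dvd_mul_left ?_ h6
  rw [hcQ, h4]
  refine Nat.Coprime.pow_left _ ?_
  exact (Nat.coprime_primes hq (by norm_num)).2 hq11

theorem coprime_dvd {M a : ℕ} (h : ∀ q k : ℕ, q.Prime → q ^ k ∣ M → q ^ k ∣ a) : M ∣ a :=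
  (Nat.dvd_iff_prime_pow_dvd_dvd a M).2 h

/-- the number of elements of order 11 -/
theorem dvd_card_eleven {X : Type*} [Group X] [Finite X] (h : Iso11 X) {M : ℕ} (hM : M ∣ Nat.card X)
    (hpM : ¬ 11 ∣ M) : M ∣ Nat.card {x : X // orderOf x = 11} := by
  apply coprime_dvd
  intro q k hq hqk
  rcases Nat.eq_zero_or_pos k with rfl | hk
  · rw [pow_zero]; exact one_dvd _
  have hqp : q ≠ 11 := by
    rintro rfl
    exact hpM ((dvd_pow_self 11 hk.ne').trans hqk)
  have : Fact q.Prime := ⟨hq⟩
  obtain ⟨Q⟩ : Nonempty (Sylow q X) := inferInstance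
  have h1 : q ^ k ∣ Nat.card Q := Q.pow_dvd_card_of_pow_dvd_card (hqk.trans hM)
  refine h1.trans ?_
  let S := {x : X // orderOf x = 11}
  let act : MulAction Q S :=
    { smul := fun g x => ⟨(g : X) * x.1 * (g : X)⁻¹, by
        have e : orderOf ((g : X) * x.1 * (g : X)⁻¹) = orderOf x.1 := by
          exact orderOf_injective (MulAut.conj (g : X)).toMonoidHom (MulAut.conj (g : X)).injective x.1
        rw [e]
        exact x.2⟩
      one_smul := fun x => Subtype.ext (by
        show ((1 : Q) : X) * x.1 * ((1 : Q) : X)⁻¹ = x.1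
        simp)
      mul_smul := fun g k x => Subtype.ext (by
        show ((g * k : Q) : X) * x.1 * ((g * k : Q) : X)⁻¹ = (g : X) * ((k : X) * x.1 * (k : X)⁻¹) * (g : X)⁻¹
        rw [Subgroup.coe_mul]
        group) }
  refine card_dvd_of_free (G := Q) (α := S) fun x => ?_
  rw [eq_bot_iff]
  intro g hg
  rw [MulAction.mem_stabilizer_iff] at hg
  have hg' : (g : X) * x.1 * (g : X)⁻¹ = x.1 := congrArg Subtype.val hg
  rw [Subgroup.mem_bot]
  by_contra hg1
  have hgX : (g : X) ≠ 1 := fun hh => hg1 (Subtype.ext hh)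
  have hcomm : Commute (g : X) x.1 := mul_inv_eq_iff_eq_mul.1 hg'
  have hqg : q ∣ orderOf (g : X) := by
    obtain ⟨j, hj⟩ := (Q.isPGroup' g)
    have h2 : orderOf g ∣ q ^ j := orderOf_dvd_of_pow_eq_one hj
    rw [← Subgroup.orderOf_coe] at h2
    obtain ⟨i, -, hi⟩ := (Nat.dvd_prime_pow hq).1 h2
    rw [hi]
    refine dvd_pow_self q ?_
    rintro rfl
    rw [pow_zero, orderOf_eq_one_iff] at hi
    exact hgX hi
  obtain ⟨n, hn⟩ := exists_pow_prime hq hqg
  have := h x.1 ((g : X) ^ n) (hcomm.symm.pow_right n) x.2 (by rw [hn]; exact hq)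
  rw [hn] at this
  exact hqp this

/-- the number of Sylow 11-subgroups -/
theorem card_sylow_eleven {G : Type*} [Group G] [Finite G] (h : Iso11 G)
    (hc : Nat.card G = 660 ∨ Nat.card G = 7920) : Nat.card G = 55 * Nat.card (Sylow 11 G) := by
  have := prime11
  have hd : Nat.card G ∣ 7920 := by rcases hc with hc | hc <;> rw [hc] <;> norm_num
  have h11 : 11 ∣ Nat.card G := by rcases hc with hc | hc <;> rw [hc] <;> norm_num
  have hf := fact_one hd h11
  have h1 := card_order_prime (p := 11) hf
  have hmod := card_sylow_modEq_one 11 G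
  obtain ⟨P⟩ : Nonempty (Sylow 11 G) := inferInstance
  have h3 : Nat.card (Sylow 11 G) ∣ 720 := by
    have h4 : (P : Subgroup G).index ∣ 720 := by
      have h5 := (P : Subgroup G).card_mul_index
      have h6 : Nat.card (P : Subgroup G) = 11 := by
        have := P.card_eq_multiplicity
        rw [hf, pow_one] at this
        exact this
      rw [h6] at h5
      rw [← h5, show 7920 = 11 * 720 by norm_num] at hd
      exact Nat.dvd_of_mul_dvd_mul_left (by norm_num) hd
    exact P.card_dvd_index.trans h4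
  set c := Nat.card (Sylow 11 G) with hcdef
  have hc' : c ∈ (Nat.divisors 720).filter (fun n => n % 11 = 1) := by
    rw [Finset.mem_filter]
    exact ⟨Nat.mem_divisors.2 ⟨h3, by norm_num⟩, hmod⟩
  have h2 : (Nat.divisors 720).filter (fun n => n % 11 = 1) = {1, 12, 45, 144} := by decide +kernel
  rw [h2] at hc'
  simp only [Finset.mem_insert, Finset.mem_singleton] at hc'
  rcases hc with hc | hc
  · have h4 := dvd_card_eleven h (M := 60) (by rw [hc]; norm_num) (by norm_num)
    have h5 : c ∣ 60 := by
      have h6 := P.card_dvd_index.trans (Subgroup.index_dvd_card (P : Subgroup G))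
      rw [← hcdef, hc, show 660 = 60 * 11 by norm_num] at h6
      refine Nat.Coprime.dvd_of_dvd_mul_right ?_ h6
      rcases hc' with h | h | h | h <;> rw [h] <;> norm_num
    rw [h1] at h4
    rw [hc]
    rcases hc' with h | h | h | h <;> rw [h] at h4 h5 ⊢ <;> omega
  · have h4 := dvd_card_eleven h (M := 720) (by rw [hc]; norm_num) (by norm_num)
    rw [h1] at h4
    rw [hc]
    rcases hc' with h | h | h | h <;> rw [h] at h4 ⊢ <;> omega

theorem normal_top {G : Type*} [Group G] [Finite G] (h : Iso11 G) (hc : Nat.card G ∣ 7920)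
    (hs : Nat.card G = 55 * Nat.card (Sylow 11 G)) (hs1 : Nat.card (Sylow 11 G) ≠ 1)
    {N : Subgroup G} [hNn : N.Normal] (hN : 11 ∣ Nat.card N) : N = ⊤ := by
  have := prime11
  have h11 : 11 ∣ Nat.card G := hN.trans (Subgroup.card_subgroup_dvd_card N)
  have hdN : Nat.card N ∣ 7920 := (Subgroup.card_subgroup_dvd_card N).trans hc
  have hf := fact_one hc h11
  have hfN := fact_one hdN hN
  have c1 := card_order_prime (p := 11) hf
  have c2 := card_order_prime (p := 11) hfN
  -- all elements of order 11 lie in `N`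
  have hidx : ¬ 11 ∣ N.index := by
    intro h1
    have h2 : 11 ^ 2 ∣ Nat.card G := by
      rw [← N.card_mul_index, pow_two]
      exact mul_dvd_mul hN h1
    have h3 := (Nat.Prime.pow_dvd_iff_le_factorization (by norm_num) Nat.card_pos.ne').1 h2
    omega
  have hmem : ∀ x : G, orderOf x = 11 → x ∈ N := by
    intro x hx
    rw [← QuotientGroup.eq_one_iff]
    have h1 : orderOf (x : G ⧸ N) ∣ 11 := by
      rw [← hx]
      exact orderOf_map_dvd (QuotientGroup.mk' N) x
    have h2 : orderOf (x : G ⧸ N) ∣ N.index := by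
      rw [Subgroup.index_eq_card]
      exact _root_.orderOf_dvd_natCard _
    rcases (Nat.dvd_prime (by norm_num)).1 h1 with h3 | h3
    · exact orderOf_eq_one_iff.1 h3
    · rw [h3] at h2
      exact absurd h2 hidx
  have e : Nat.card {x : G // orderOf x = 11} = Nat.card {x : N // orderOf x = 11} :=
    Nat.card_congr
      { toFun := fun x => ⟨⟨x.1, hmem x.1 x.2⟩, by rw [Subgroup.orderOf_mk]; exact x.2⟩
        invFun := fun x => ⟨x.1.1, by rw [Subgroup.orderOf_coe]; exact x.2⟩
        left_inv := fun x => rfl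
        right_inv := fun x => rfl }
  have hcc : Nat.card (Sylow 11 N) = Nat.card (Sylow 11 G) := by
    rw [c1, c2] at e
    omega
  obtain ⟨P⟩ : Nonempty (Sylow 11 N) := inferInstance
  have h1 : Nat.card (Sylow 11 N) = (normalizer ((P : Subgroup N) : Set N)).index :=
    Sylow.card_eq_index_normalizer P
  have h2 := Subgroup.card_mul_index (normalizer ((P : Subgroup N) : Set N))
  have hP : Nat.card (P : Subgroup N) = 11 := by
    have := P.card_eq_multiplicity
    rw [hfN, pow_one] at this
    exact this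
  have hle : (P : Subgroup N) ≤ normalizer ((P : Subgroup N) : Set N) := le_normalizer
  have h3 : 11 ∣ Nat.card (normalizer ((P : Subgroup N) : Set N)) :=
    (dvd_of_eq hP.symm).trans (Subgroup.card_dvd_of_le hle)
  have hcpos : 0 < Nat.card (Sylow 11 G) := Nat.card_pos
  have h4 : Nat.card (normalizer ((P : Subgroup N) : Set N)) ∣ 55 := by
    have h5 := Subgroup.card_subgroup_dvd_card N
    rw [hs, ← h2, ← h1, hcc] at h5
    exact Nat.dvd_of_mul_dvd_mul_right hcpos h5
  obtain ⟨d, hd⟩ := h3
  have hd5 : d ∣ 5 := by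
    rw [hd, show 55 = 11 * 5 by norm_num] at h4
    exact Nat.dvd_of_mul_dvd_mul_left (by norm_num) h4
  rcases (Nat.dvd_prime (by norm_num)).1 hd5 with h6 | h6
  · -- transfer
    exfalso
    rw [h6] at hd
    have hPN : (P : Subgroup N) = normalizer ((P : Subgroup N) : Set N) :=
      Subgroup.eq_of_le_of_card_ge hle (by rw [hP, hd])
    have hcyc : IsCyclic (P : Subgroup N) := isCyclic_of_prime_card (p := 11) hP
    have hcomm : ∀ a b : (P : Subgroup N), a * b = b * a := by
      intro a b
      obtain ⟨g, hg⟩ := hcyc.exists_generator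
      obtain ⟨i, rfl⟩ := mem_zpowers_iff.1 (hg a)
      obtain ⟨j, rfl⟩ := mem_zpowers_iff.1 (hg b)
      exact ((Commute.refl g).zpow_zpow i j).eq
    have hPc : normalizer ((P : Subgroup N) : Set N) ≤ centralizer ((P : Subgroup N) : Set N) := by
      rw [← hPN]
      intro a ha
      rw [mem_centralizer_iff]
      intro b hb
      exact congrArg Subtype.val (hcomm ⟨b, hb⟩ ⟨a, ha⟩)
    have hcompl := MonoidHom.ker_transferSylow_isComplement' P hPc
    set K := (MonoidHom.transferSylow P hPc).ker
    have h7 : Nat.card K * 11 = Nat.card N := by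
      have := hcompl.card_mul_card
      rwa [hP] at this
    have h8 : Nat.card N = Nat.card (Sylow 11 G) * 11 := by
      rw [← h2, ← h1, hcc, hd]
      ring
    have h9 : K = ⊥ := by
      refine normal_bot (h.sub N) hdN hN ?_
      intro h10
      have h11' : 11 ^ 2 ∣ Nat.card N := by
        rw [← h7, pow_two]
        exact Nat.mul_dvd_mul_right h10 _
      have h12 := (Nat.Prime.pow_dvd_iff_le_factorization (by norm_num) Nat.card_pos.ne').1 h11'
      omega
    rw [h9, Subgroup.card_bot] at h7
    apply hs1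
    omega
  · apply Subgroup.eq_top_of_card_eq
    rw [hs, ← h2, ← h1, hcc, hd, h6]

theorem isSimple_of_iso11 {G : Type*} [Group G] [Finite G] (h : Iso11 G)
    (hc : Nat.card G = 660 ∨ Nat.card G = 7920) : IsSimpleGroup G := by
  have hd : Nat.card G ∣ 7920 := by rcases hc with hc | hc <;> rw [hc] <;> norm_num
  have h11 : 11 ∣ Nat.card G := by rcases hc with hc | hc <;> rw [hc] <;> norm_num
  have hs := card_sylow_eleven h hc
  have hnt : Nontrivial G := by
    rw [← Finite.one_lt_card_iff_nontrivial]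
    rcases hc with hc | hc <;> rw [hc] <;> norm_num
  refine ⟨fun N hN => ?_⟩
  by_cases hN11 : 11 ∣ Nat.card N
  · right
    refine normal_top h hd hs ?_ hN11
    intro h1
    rw [h1] at hs
    rcases hc with hc | hc
    · rw [hc] at hs; norm_num at hs
    · rw [hc] at hs; norm_num at hs
  · left
    exact normal_bot h hd h11 hN11

end Cfsg.Agent.H180.MEl
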