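import Cfsg.Agent.H180.MElBig
import Cfsg.Agent.H180.MElSimple
import Cfsg.Agent.SporadicA.M11Facts
import Cfsg.Agent.Cit.Eleven

/-!
# `ClT` for `M₁₁` (team ELUSIVE, task 644)
-/

set_option autoImplicit false

namespace Cfsg.Agent.H180.MEl

open Subgroup
open Cfsg.Agent.H278.El (ClT DerT dvd_of_not_derT)

/-- Sylow data of a subgroup, for a prime dividing the order of the big group once -/
theorem sylow_sub {L : Type*} [Group L] [Finite L] {H : Subgroup L} {p n : ℕ} [hp : Fact p.Prime]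
    (h1 : (Nat.card L).factorization p = 1) (hH : p ∣ Nat.card H)
    (hN : ∀ x : L, orderOf x = p → Nat.card (normalizer ((zpowers x : Subgroup L) : Set L)) ∣ n) :
    ∃ c d, c * d = Nat.card H ∧ p ∣ d ∧ d ∣ n ∧ c ≡ 1 [MOD p] := by
  obtain ⟨x, hx⟩ := exists_prime_orderOf_dvd_card' (G := H) p hH
  have hxL : orderOf (x : L) = p := by rw [← hx]; exact Subgroup.orderOf_coe x
  have hfH : (Nat.card H).factorization p = 1 := by
    apply le_antisymm
    · rw [← h1]
      exact (Nat.factorization_le_iff_dvd Nat.card_pos.ne' Nat.card_pos.ne').2 (Subgroup.card_subgroup_dvd_card H) p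
    · exact (hp.out.dvd_iff_one_le_factorization Nat.card_pos.ne').1 hH
  let P : Sylow p H := Sylow.ofCard (zpowers x) (by rw [Nat.card_zpowers, hx, hfH, pow_one])
  have hP : (P : Subgroup H) = zpowers x := rfl
  refine ⟨Nat.card (Sylow p H), Nat.card (normalizer ((P : Subgroup H) : Set H)), ?_, ?_, ?_, card_sylow_modEq_one p H⟩
  · rw [Sylow.card_eq_index_normalizer P, mul_comm]
    exact Subgroup.card_mul_index _
  · have h2 : (P : Subgroup H) ≤ normalizer ((P : Subgroup H) : Set H) := le_normalizer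
    have h3 := Subgroup.card_dvd_of_le h2
    rwa [hP, Nat.card_zpowers, hx] at h3
  · refine dvd_trans ?_ (hN x hxL)
    rw [← card_map_subtype]
    apply Subgroup.card_dvd_of_le
    rintro _ ⟨g, hg, rfl⟩
    rw [hP] at hg
    rw [mem_normalizer_iff]
    intro h
    have key : ∀ g : H, g ∈ normalizer ((zpowers x : Subgroup H) : Set H) → ∀ h ∈ zpowers (x : L), (g : L) * h * (g : L)⁻¹ ∈ zpowers (x : L) := by
      intro g hg h hh
      obtain ⟨k, rfl⟩ := mem_zpowers_iff.1 hh
      have h4 := (mem_normalizer_iff.1 hg (x ^ k)).1 (zpow_mem (mem_zpowers x) k)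
      obtain ⟨m, hm⟩ := mem_zpowers_iff.1 h4
      refine mem_zpowers_iff.2 ⟨m, ?_⟩
      exact congrArg Subtype.val hm
    constructor
    · exact key g hg h
    · intro h5
      have h6 := key g⁻¹ (inv_mem hg) _ h5
      have e : ((g⁻¹ : H) : L) * ((H.subtype g) * h * (H.subtype g)⁻¹) * ((g⁻¹ : H) : L)⁻¹ = h := by
        rw [Subgroup.coe_inv]
        show (g : L)⁻¹ * ((g : L) * h * (g : L)⁻¹) * ((g : L)⁻¹)⁻¹ = h
        group
      rwa [e] at h6

theorem card_sub_m11 {L : Type*} [Group L] (hG : Cfsg.IsM11 L) {H : Subgroup L} (h5 : 5 ∣ Nat.card H)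
    (h11 : 11 ∣ Nat.card H) : Nat.card H = 55 ∨ Nat.card H = 660 ∨ Nat.card H = 7920 := by
  have hc := hG.2
  have hfin : Finite L := Nat.finite_of_card_ne_zero (by rw [hc]; norm_num)
  obtain ⟨c, d, hcd, hd1, hd2, hc1⟩ := sylow_sub (p := 11) (n := 55) (H := H)
    (factorization_of (k := 720) (by norm_num) (by rw [hc]) (by norm_num) (by rw [hc]; norm_num)) h11
    (fun x hx => dvd_of_eq (Cfsg.Agent.SporadicA.M11Sylow.data_eleven hG hx).2.1)
  obtain ⟨c', d', hcd', hd1', hd2', hc1'⟩ := sylow_sub (p := 5) (n := 20) (H := H)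
    (factorization_of (k := 1584) (by norm_num) (by rw [hc]) (by norm_num) (by rw [hc]; norm_num)) h5
    (fun x hx => dvd_of_eq (Cfsg.Agent.SporadicA.M11Sylow.data_five hG hx).2.1)
  have h55 : 55 ∣ Nat.card H := Nat.Coprime.mul_dvd_of_dvd_of_dvd (by norm_num : Nat.Coprime 5 11) h5 h11
  obtain ⟨j, hj⟩ := h55
  have hj144 : j ∣ 144 := by
    have h := Subgroup.card_subgroup_dvd_card H
    rw [hc, hj, show 7920 = 55 * 144 by norm_num] at h
    exact Nat.dvd_of_mul_dvd_mul_left (by norm_num) h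
  have hj' : j ∈ Nat.divisors 144 := Nat.mem_divisors.2 ⟨hj144, by norm_num⟩
  have hdv : Nat.divisors 144 = {1, 2, 3, 4, 6, 8, 9, 12, 16, 18, 24, 36, 48, 72, 144} := by decide +kernel
  rw [hdv] at hj'
  simp only [Finset.mem_insert, Finset.mem_singleton] at hj'
  have hd' : d = 11 ∨ d = 55 := by
    obtain ⟨k, rfl⟩ := hd1
    have hk : k ∣ 5 := by
      rw [show 55 = 11 * 5 by norm_num] at hd2
      exact Nat.dvd_of_mul_dvd_mul_left (by norm_num) hd2
    rcases (Nat.dvd_prime (by norm_num)).1 hk with rfl | rfl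
    · exact Or.inl rfl
    · exact Or.inr rfl
  have hd5 : d' = 5 ∨ d' = 10 ∨ d' = 20 := by
    obtain ⟨k, rfl⟩ := hd1'
    have hk : k ∣ 4 := by
      rw [show 20 = 5 * 4 by norm_num] at hd2'
      exact Nat.dvd_of_mul_dvd_mul_left (by norm_num) hd2'
    have hk' : k ∈ Nat.divisors 4 := Nat.mem_divisors.2 ⟨hk, by norm_num⟩
    have h4 : Nat.divisors 4 = {1, 2, 4} := by decide
    rw [h4] at hk'
    simp only [Finset.mem_insert, Finset.mem_singleton] at hk'
    omega
  unfold Nat.ModEq at hc1 hc1'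
  rw [hj] at hcd hcd' ⊢
  rcases hd' with rfl | rfl <;>
    rcases hj' with rfl | rfl | rfl | rfl | rfl | rfl | rfl | rfl | rfl | rfl | rfl | rfl | rfl | rfl | rfl <;>
    rcases hd5 with rfl | rfl | rfl <;> omega

theorem iso11_m11 {L : Type*} [Group L] (hG : Cfsg.IsM11 L) : Iso11 L := by
  have hfin : Finite L := Nat.finite_of_card_ne_zero (by rw [hG.2]; norm_num)
  intro x y hxy hx hy
  have h1 := Cfsg.Agent.SporadicA.M11Sylow.card_centralizer_eleven hG hx
  have h2 : y ∈ centralizer ({x} : Set L) := mem_centralizer_singleton_iff.2 hxy.symm.eq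
  have h3 : orderOf (⟨y, h2⟩ : centralizer ({x} : Set L)) ∣ Nat.card (centralizer ({x} : Set L)) :=
    _root_.orderOf_dvd_natCard _
  rw [Subgroup.orderOf_mk, h1] at h3
  exact (Nat.prime_dvd_prime_iff_eq hy (by norm_num)).1 h3

/-- **`M₁₁`** -/
theorem clT_m11 {T : Type*} [Group T] (hI : Cfsg.Spor.IsoM11 T) : ClT T := by
  have hG := Cfsg.Agent.Cit.Eleven.isM11 hI
  have hc := hG.2
  have hfin : Finite T := Nat.finite_of_card_ne_zero (by rw [hc]; norm_num)
  intro R hR
  by_cases hn : DerT T R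
  · exact Or.inl hn
  refine Or.inr ⟨hI, ?_⟩
  have h2 := dvd_of_not_derT hn Nat.prime_two (by rw [hc]; norm_num)
  have h5 := dvd_of_not_derT hn Nat.prime_five (by rw [hc]; norm_num)
  have h11 := dvd_of_not_derT hn (p := 11) (by norm_num) (by rw [hc]; norm_num)
  rcases card_sub_m11 hG h5 h11 with h | h | h
  · rw [h] at h2; norm_num at h2
  · exact ⟨h, isSimple_of_iso11 ((iso11_m11 hG).sub R) (Or.inl h)⟩
  · exact absurd (eq_top_of_card (h.trans hc.symm)) hR

end Cfsg.Agent.H180.MEl
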