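import Cfsg.Agent.H180.MElFix
import Cfsg.Agent.H180.MElNum

/-!
# Subgroups of `M₂₄`, `M₂₃`, `M₂₂`, `M₂₁` of order divisible by the large primes
-/

set_option autoImplicit false

namespace Cfsg.Agent.H180.MEl

open Cfsg Equiv.Perm
open Cfsg.Agent.H866.InvolType (fx)

/-! ### orbits -/

open Classical in
/-- the orbit -/
noncomputable def orb (X : Subgroup (Equiv.Perm GolayPt)) (a : GolayPt) : Finset GolayPt :=
  Finset.univ.filter fun p => ∃ g ∈ X, g a = p

theorem mem_orb {X : Subgroup (Equiv.Perm GolayPt)} {a p : GolayPt} : p ∈ orb X a ↔ ∃ g ∈ X, g a = p := by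
  classical
  unfold orb
  rw [Finset.mem_filter]
  exact and_iff_right (Finset.mem_univ _)

theorem self_mem_orb (X : Subgroup (Equiv.Perm GolayPt)) (a : GolayPt) : a ∈ orb X a :=
  mem_orb.2 ⟨1, X.one_mem, rfl⟩

theorem orb_pos (X : Subgroup (Equiv.Perm GolayPt)) (a : GolayPt) : 0 < (orb X a).card :=
  Finset.card_pos.2 ⟨a, self_mem_orb X a⟩

theorem orb_inv {X : Subgroup (Equiv.Perm GolayPt)} {a : GolayPt} {x : Equiv.Perm GolayPt} (hx : x ∈ X) :
    ∀ q ∈ orb X a, x q ∈ orb X a := by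
  intro q hq
  obtain ⟨g, hg, rfl⟩ := mem_orb.1 hq
  exact mem_orb.2 ⟨x * g, X.mul_mem hx hg, rfl⟩

/-- the stabilizer -/
def St (X : Subgroup (Equiv.Perm GolayPt)) (a : GolayPt) : Subgroup (Equiv.Perm GolayPt) :=
  X ⊓ MulAction.stabilizer (Equiv.Perm GolayPt) a

theorem mem_St {X : Subgroup (Equiv.Perm GolayPt)} {a : GolayPt} {g : Equiv.Perm GolayPt} :
    g ∈ St X a ↔ g ∈ X ∧ g a = a := Iff.rfl

theorem card_orb_mul (X : Subgroup (Equiv.Perm GolayPt)) (a : GolayPt) :
    (orb X a).card * Nat.card (St X a) = Nat.card X := by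
  classical
  have h1 := Subgroup.card_mul_index (MulAction.stabilizer X a)
  rw [MulAction.index_stabilizer] at h1
  have h2 : (MulAction.orbit X a).ncard = (orb X a).card := by
    rw [← Set.ncard_coe_finset]
    congr 1
    ext p
    rw [Finset.mem_coe, mem_orb, MulAction.mem_orbit_iff]
    constructor
    · rintro ⟨g, rfl⟩
      exact ⟨g, g.2, rfl⟩
    · rintro ⟨g, hg, rfl⟩
      exact ⟨⟨g, hg⟩, rfl⟩
  have h3 : Nat.card (MulAction.stabilizer X a) = Nat.card (St X a) := by
    refine Nat.card_congr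
      { toFun := fun g => ⟨g.1.1, g.1.2, g.2⟩
        invFun := fun g => ⟨⟨g.1, g.2.1⟩, g.2.2⟩
        left_inv := fun g => rfl
        right_inv := fun g => rfl }
  rw [h2, h3] at h1
  rw [mul_comm]
  exact h1

theorem dvd_St {X : Subgroup (Equiv.Perm GolayPt)} {a : GolayPt} {p n : ℕ} (hp : p.Prime) (h : p ∣ Nat.card X)
    (hn : (orb X a).card = n) (hpn : ¬ p ∣ n) : p ∣ Nat.card (St X a) := by
  rw [← card_orb_mul X a, hn] at h
  exact (hp.dvd_mul.1 h).resolve_left hpn

theorem exists_order {X : Subgroup (Equiv.Perm GolayPt)} {p : ℕ} [hp : Fact p.Prime] (h : p ∣ Nat.card X) :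
    ∃ x ∈ X, orderOf x = p := by
  obtain ⟨x, hx⟩ := exists_prime_orderOf_dvd_card' (G := X) p h
  exact ⟨x, x.2, by rw [← hx]; exact Subgroup.orderOf_coe x⟩

theorem orb_mod {X : Subgroup (Equiv.Perm GolayPt)} {a : GolayPt} {p : ℕ} [hp : Fact p.Prime] {x : Equiv.Perm GolayPt}
    (hx : x ∈ X) (ox : orderOf x = p) : (orb X a).card ≡ (orb X a ∩ Fx x).card [MOD p] :=
  card_mod (by rw [← ox, pow_orderOf_eq_one]) _ (orb_inv hx)

section Fix

variable {X : Subgroup (Equiv.Perm GolayPt)} {T : Finset GolayPt} (hfix : ∀ g ∈ X, ∀ t ∈ T, g t = t)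
include hfix

theorem T_sub {x : Equiv.Perm GolayPt} (hx : x ∈ X) : T ⊆ Fx x := fun t ht => mem_Fx.2 (hfix x hx t ht)

/-- the orbit of a point off `T` is disjoint from `T` -/
theorem orb_disj {a : GolayPt} (ha : a ∉ T) : Disjoint (orb X a) T := by
  rw [Finset.disjoint_left]
  intro q hq hqT
  obtain ⟨g, hg, rfl⟩ := mem_orb.1 hq
  have h1 := hfix g⁻¹ (X.inv_mem hg) _ hqT
  rw [show g⁻¹ (g a) = a from Equiv.symm_apply_apply g a] at h1
  rw [← h1] at hqT
  exact ha hqT

theorem orb_le {a : GolayPt} (ha : a ∉ T) : (orb X a).card + T.card ≤ 24 := by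
  rw [← Finset.card_union_of_disjoint (orb_disj hfix ha)]
  refine (Finset.card_le_univ _).trans ?_
  simp

/-- fixed points in the orbit -/
theorem orb_fx_le {a : GolayPt} (ha : a ∉ T) {x : Equiv.Perm GolayPt} (hx : x ∈ X) :
    (orb X a ∩ Fx x).card + T.card ≤ fx x := by
  have hd : Disjoint (orb X a ∩ Fx x) T := (orb_disj hfix ha).mono_left Finset.inter_subset_left
  rw [← Finset.card_union_of_disjoint hd, ← card_Fx]
  exact Finset.card_le_card (Finset.union_subset Finset.inter_subset_right (T_sub hfix hx))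

end Fix

theorem exists_notMem {T : Finset GolayPt} (hT : T.card < 24) : ∃ a, a ∉ T := by
  by_contra h
  push Not at h
  have : T = Finset.univ := Finset.eq_univ_iff_forall.2 h
  rw [this] at hT
  simp at hT

/-! ### three points -/

theorem card_dvd_three {X : Subgroup (Equiv.Perm GolayPt)} (hX : X ≤ M24) {T : Finset GolayPt} (hT : T.card = 3)
    (hfix : ∀ g ∈ X, ∀ t ∈ T, g t = t) : Nat.card X ∣ 20160 := by
  have h5 : MulAction.IsMultiplyPretransitive M24 GolayPt 5 := Cfsg.Agent.S0366.result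
  have h24 : Nat.card GolayPt = 24 := by rw [Nat.card_eq_fintype_card]; simp
  have h3 : MulAction.IsMultiplyPretransitive M24 GolayPt 3 :=
    MulAction.isMultiplyPretransitive_of_le (n := 5) (by norm_num) (by rw [h24]; norm_num)
  have hs : (T : Set GolayPt).ncard = 3 := by rw [Set.ncard_coe_finset, hT]
  have h1 := h3.index_of_fixingSubgroup_mul hs
  rw [h24] at h1
  have h2 : (fixingSubgroup M24 (T : Set GolayPt)).index = 24 * 23 * 22 := by
    apply Nat.eq_of_mul_eq_mul_right (Nat.factorial_pos (24 - 3))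
    rw [h1]
    decide +kernel
  have h4 := (fixingSubgroup M24 (T : Set GolayPt)).card_mul_index
  rw [h2, fact24] at h4
  have h6 : Nat.card (fixingSubgroup M24 (T : Set GolayPt)) = 20160 := by omega
  rw [← h6]
  let f : X →* fixingSubgroup M24 (T : Set GolayPt) :=
    { toFun := fun g => ⟨⟨g.1, hX g.2⟩, fun t => hfix g.1 g.2 t.1 t.2⟩
      map_one' := rfl
      map_mul' := fun _ _ => rfl }
  have hf : Function.Injective f := by
    intro g k hgk
    exact Subtype.ext (congrArg (fun z : fixingSubgroup M24 (T : Set GolayPt) => ((z : M24) : Equiv.Perm GolayPt)) hgk)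
  exact Subgroup.card_dvd_of_injective f hf

/-- number of fixed points of an element of prime order fixing a point, primes up to 7 -/
theorem fx_val {x : Equiv.Perm GolayPt} (hx : x ∈ M24) (h0 : 0 < fx x) :
    (orderOf x = 2 → fx x = 8) ∧ (orderOf x = 3 → fx x = 6) ∧ (orderOf x = 5 → fx x = 4) ∧
      (orderOf x = 7 → fx x = 3) ∧ (orderOf x = 11 → fx x = 2) ∧ (orderOf x = 23 → fx x = 1) := by
  refine ⟨fun h => ?_, fun h => ?_, fun h => fx5 hx h, fun h => fx7 hx h, fun h => fx11 hx h, fun h => fx23 hx h⟩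
  · exact (fx2 hx h).resolve_right (by omega)
  · exact (fx3 hx h).resolve_right (by omega)

theorem m21 {X : Subgroup (Equiv.Perm GolayPt)} (hX : X ≤ M24) {T : Finset GolayPt} (hT : T.card = 3)
    (hfix : ∀ g ∈ X, ∀ t ∈ T, g t = t) (h5 : 5 ∣ Nat.card X) (h7 : 7 ∣ Nat.card X) : Nat.card X = 20160 := by
  have hdvd := card_dvd_three hX hT hfix
  -- transitive on the other 21 points
  have h21 : 21 ∣ Nat.card X := by
    obtain ⟨a, ha⟩ := exists_notMem (T := T) (by omega)
    obtain ⟨x5, hx5, o5⟩ := exists_order h5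
    obtain ⟨x7, hx7, o7⟩ := exists_order h7
    have m5 := orb_mod (a := a) hx5 o5
    have m7 := orb_mod (a := a) hx7 o7
    have l5 := orb_fx_le hfix ha hx5
    have l7 := orb_fx_le hfix ha hx7
    rw [fx5 (hX hx5) o5] at l5
    rw [fx7 (hX hx7) o7] at l7
    have hle := orb_le hfix ha
    have hpos := orb_pos X a
    unfold Nat.ModEq at m5 m7
    have i5 : (orb X a ∩ Fx x5).card = 0 ∨ (orb X a ∩ Fx x5).card = 1 := by omega
    have i7 : (orb X a ∩ Fx x7).card = 0 := by omega
    have : (orb X a).card = 21 := by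
      rw [i7] at m7
      rcases i5 with i5 | i5 <;> rw [i5] at m5 <;> omega
    rw [← card_orb_mul X a, this]
    exact dvd_mul_right _ _
  have h105 : 105 ∣ Nat.card X := by
    have := Nat.Coprime.mul_dvd_of_dvd_of_dvd (by norm_num : Nat.Coprime 21 5) h21 h5
    exact this
  refine card_eq_of_isolated ?_ hdvd h105
  intro x y hxy hpx hpy
  by_contra hne
  have hx24 : (x : Equiv.Perm GolayPt) ∈ M24 := hX x.2
  have hy24 : (y : Equiv.Perm GolayPt) ∈ M24 := hX y.2
  rw [← Subgroup.orderOf_coe] at hpx hpy hne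
  rw [← Subgroup.orderOf_coe] at hne
  have hc : Commute (x : Equiv.Perm GolayPt) (y : Equiv.Perm GolayPt) := congrArg Subtype.val hxy
  have sx := T_sub hfix x.2
  have sy := T_sub hfix y.2
  have k3 : 3 ≤ (Fx (x : Equiv.Perm GolayPt) ∩ Fx (y : Equiv.Perm GolayPt)).card := by
    rw [← hT]
    exact Finset.card_le_card (Finset.subset_inter sx sy)
  have kx : (Fx (x : Equiv.Perm GolayPt) ∩ Fx (y : Equiv.Perm GolayPt)).card ≤ fx (x : Equiv.Perm GolayPt) :=
    Finset.card_le_card Finset.inter_subset_left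
  have ky : (Fx (x : Equiv.Perm GolayPt) ∩ Fx (y : Equiv.Perm GolayPt)).card ≤ fx (y : Equiv.Perm GolayPt) :=
    Finset.card_le_card Finset.inter_subset_right
  have vx := fx_val hx24 (by omega)
  have vy := fx_val hy24 (by omega)
  have hmx := @card_Fx_comm (orderOf (x : Equiv.Perm GolayPt)) ⟨hpx⟩ _ _ (pow_orderOf_eq_one _) hc
  have hmy := @card_Fx_comm (orderOf (y : Equiv.Perm GolayPt)) ⟨hpy⟩ _ _ (pow_orderOf_eq_one _) hc.symm
  rw [Finset.inter_comm] at hmy
  have hd : ∀ z : X, (orderOf (z : Equiv.Perm GolayPt)).Prime → orderOf (z : Equiv.Perm GolayPt) = 2 ∨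
      orderOf (z : Equiv.Perm GolayPt) = 3 ∨ orderOf (z : Equiv.Perm GolayPt) = 5 ∨ orderOf (z : Equiv.Perm GolayPt) = 7 := by
    intro z hz
    have h1 : orderOf (z : Equiv.Perm GolayPt) ∣ 20160 := by
      rw [Subgroup.orderOf_coe]
      exact (orderOf_dvd_natCard z).trans hdvd
    have h2 : orderOf (z : Equiv.Perm GolayPt) ∣ 2 ^ 6 * (3 ^ 2 * (5 * 7)) := by
      rw [show 2 ^ 6 * (3 ^ 2 * (5 * 7)) = 20160 by norm_num]; exact h1
    rcases (Nat.Prime.dvd_mul hz).1 h2 with h3 | h3
    · exact Or.inl ((Nat.prime_dvd_prime_iff_eq hz Nat.prime_two).1 (hz.dvd_of_dvd_pow h3))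
    rcases (Nat.Prime.dvd_mul hz).1 h3 with h4 | h4
    · exact Or.inr (Or.inl ((Nat.prime_dvd_prime_iff_eq hz Nat.prime_three).1 (hz.dvd_of_dvd_pow h4)))
    rcases (Nat.Prime.dvd_mul hz).1 h4 with h5 | h5
    · exact Or.inr (Or.inr (Or.inl ((Nat.prime_dvd_prime_iff_eq hz Nat.prime_five).1 h5)))
    · exact Or.inr (Or.inr (Or.inr ((Nat.prime_dvd_prime_iff_eq hz (by norm_num)).1 h5)))
  unfold Nat.ModEq at hmx hmy
  rcases hd x hpx with ox | ox | ox | ox <;> rcases hd y hpy with oy | oy | oy | oy <;>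
    rw [ox] at hmx <;> rw [oy] at hmy <;>
    first
      | exact hne (ox.trans oy.symm)
      | (obtain ⟨x2, x3, x5, x7, -, -⟩ := vx
         obtain ⟨y2, y3, y5, y7, -, -⟩ := vy
         omega)

/-! ### two points, one point, no point -/

theorem m22 {X : Subgroup (Equiv.Perm GolayPt)} (hX : X ≤ M24) {T : Finset GolayPt} (hT : T.card = 2)
    (hfix : ∀ g ∈ X, ∀ t ∈ T, g t = t) (h5 : 5 ∣ Nat.card X) (h7 : 7 ∣ Nat.card X) (h11 : 11 ∣ Nat.card X) :
    Nat.card X = 443520 := by
  obtain ⟨a, ha⟩ := exists_notMem (T := T) (by omega)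
  obtain ⟨x7, hx7, o7⟩ := exists_order h7
  obtain ⟨x11, hx11, o11⟩ := exists_order h11
  have m7 := orb_mod (a := a) hx7 o7
  have m11 := orb_mod (a := a) hx11 o11
  have l7 := orb_fx_le hfix ha hx7
  have l11 := orb_fx_le hfix ha hx11
  rw [fx7 (hX hx7) o7] at l7
  rw [fx11 (hX hx11) o11] at l11
  have hle := orb_le hfix ha
  have hpos := orb_pos X a
  unfold Nat.ModEq at m7 m11
  have h22 : (orb X a).card = 22 := by omega
  have hS := m21 (X := St X a) (T := insert a T) (inf_le_left.trans hX) (by rw [Finset.card_insert_of_notMem ha, hT])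
    (fun g hg t ht => by
      rcases Finset.mem_insert.1 ht with rfl | ht
      · exact hg.2
      · exact hfix g hg.1 t ht)
    (dvd_St Nat.prime_five h5 h22 (by norm_num)) (dvd_St (by norm_num) h7 h22 (by norm_num))
  rw [← card_orb_mul X a, h22, hS]

theorem m23 {X : Subgroup (Equiv.Perm GolayPt)} (hX : X ≤ M24) {T : Finset GolayPt} (hT : T.card = 1)
    (hfix : ∀ g ∈ X, ∀ t ∈ T, g t = t) (h5 : 5 ∣ Nat.card X) (h7 : 7 ∣ Nat.card X) (h11 : 11 ∣ Nat.card X)
    (h23 : 23 ∣ Nat.card X) : Nat.card X = 10200960 := by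
  obtain ⟨a, ha⟩ := exists_notMem (T := T) (by omega)
  obtain ⟨x23, hx23, o23⟩ := exists_order h23
  have m23 := orb_mod (a := a) hx23 o23
  have l23 := orb_fx_le hfix ha hx23
  rw [fx23 (hX hx23) o23] at l23
  have hle := orb_le hfix ha
  have hpos := orb_pos X a
  unfold Nat.ModEq at m23
  have h23' : (orb X a).card = 23 := by omega
  have hS := m22 (X := St X a) (T := insert a T) (inf_le_left.trans hX) (by rw [Finset.card_insert_of_notMem ha, hT])
    (fun g hg t ht => by
      rcases Finset.mem_insert.1 ht with rfl | ht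
      · exact hg.2
      · exact hfix g hg.1 t ht)
    (dvd_St Nat.prime_five h5 h23' (by norm_num)) (dvd_St (by norm_num) h7 h23' (by norm_num))
    (dvd_St (by norm_num) h11 h23' (by norm_num))
  rw [← card_orb_mul X a, h23', hS]

theorem m24 {X : Subgroup (Equiv.Perm GolayPt)} (hX : X ≤ M24) (h5 : 5 ∣ Nat.card X) (h7 : 7 ∣ Nat.card X)
    (h11 : 11 ∣ Nat.card X) (h23 : 23 ∣ Nat.card X) : Nat.card X = 244823040 ∨ ∃ a, ∀ g ∈ X, g a = a := by
  have hfix : ∀ g ∈ X, ∀ t ∈ (∅ : Finset GolayPt), g t = t := fun g _ t ht => absurd ht (Finset.notMem_empty t)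
  obtain ⟨x23, hx23, o23⟩ := exists_order h23
  have key : ∀ a, (orb X a).card = 1 ∨ (orb X a).card = 23 ∨ (orb X a).card = 24 := by
    intro a
    have m23 := orb_mod (a := a) hx23 o23
    have l23 := orb_fx_le hfix (Finset.notMem_empty a) hx23
    rw [fx23 (hX hx23) o23, Finset.card_empty] at l23
    have hle := orb_le hfix (Finset.notMem_empty a)
    rw [Finset.card_empty] at hle
    have hpos := orb_pos X a
    unfold Nat.ModEq at m23
    omega
  have hone : ∀ a, (orb X a).card = 1 → ∀ g ∈ X, g a = a := by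
    intro a ha g hg
    obtain ⟨b, hb⟩ := Finset.card_eq_one.1 ha
    have h1 : a ∈ orb X a := self_mem_orb X a
    have h2 : g a ∈ orb X a := mem_orb.2 ⟨g, hg, rfl⟩
    rw [hb, Finset.mem_singleton] at h1 h2
    rw [h2, ← h1]
  rcases key none with h1 | h1 | h1
  · exact Or.inr ⟨_, hone _ h1⟩
  · right
    obtain ⟨b, hb⟩ := exists_notMem (T := orb X none) (by omega)
    refine ⟨b, hone b ?_⟩
    have hd : Disjoint (orb X none) (orb X b) := by
      rw [Finset.disjoint_left]
      intro q hq hq'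
      obtain ⟨g, hg, hgq⟩ := mem_orb.1 hq
      obtain ⟨k, hk, hkq⟩ := mem_orb.1 hq'
      apply hb
      refine mem_orb.2 ⟨k⁻¹ * g, X.mul_mem (X.inv_mem hk) hg, ?_⟩
      show k⁻¹ (g none) = b
      rw [hgq, ← hkq]
      exact Equiv.symm_apply_apply k b
    have h2 : (orb X none).card + (orb X b).card ≤ 24 := by
      rw [← Finset.card_union_of_disjoint hd]
      refine (Finset.card_le_univ _).trans ?_
      simp
    have h3 := orb_pos X b
    omega
  · left
    have hS := m23 (X := St X none) (T := {none}) (inf_le_left.trans hX) (Finset.card_singleton _)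
      (fun g hg t ht => by
        rw [Finset.mem_singleton.1 ht]
        exact hg.2)
      (dvd_St Nat.prime_five h5 h1 (by norm_num)) (dvd_St (by norm_num) h7 h1 (by norm_num))
      (dvd_St (by norm_num) h11 h1 (by norm_num)) (dvd_St (by norm_num) h23 h1 (by norm_num))
    rw [← card_orb_mul X none, h1, hS]

end Cfsg.Agent.H180.MEl
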