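import Cfsg.Agent.H180.U42Data
import Cfsg.Agent.H674.SUTools
import Cfsg.Agent.Lib.FieldFour
import Cfsg.Agent.LieClassical.FieldTransfer
import Cfsg.Agent.S0278

/-!
# `U₄(2)`: codes of elements

`IsCode g n`: the element `g` of `SU₄(2)` has the code `n`.
-/

set_option autoImplicit false
set_option maxRecDepth 100000

namespace Cfsg.Agent.H180.U42

open Matrix Cfsg.Agent.Lib.FieldFour Cfsg.Agent.LieClassical Cfsg.Agent.H674.SUTools

/-! ### arithmetic of codes -/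

theorem bit_xor_mul {a b : ℕ} (ha : a < 2) (hb : b < 2) (n : ℕ) : (a ^^^ b) * n = (a * n) ^^^ (b * n) := by
  have h1 : a = 0 ∨ a = 1 := by omega
  have h2 : b = 0 ∨ b = 1 := by omega
  rcases h1 with rfl | rfl <;> rcases h2 with rfl | rfl <;> simp

theorem ap_def (n c : ℕ) : ap n c =
    (c / 2 ^ 0 % 2 ^ 1 * (n / 256 ^ 0 % 256)) ^^^ ((c / 2 ^ 1 % 2 ^ 1 * (n / 256 ^ 1 % 256)) ^^^
    ((c / 2 ^ 2 % 2 ^ 1 * (n / 256 ^ 2 % 256)) ^^^ ((c / 2 ^ 3 % 2 ^ 1 * (n / 256 ^ 3 % 256)) ^^^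
    ((c / 2 ^ 4 % 2 ^ 1 * (n / 256 ^ 4 % 256)) ^^^ ((c / 2 ^ 5 % 2 ^ 1 * (n / 256 ^ 5 % 256)) ^^^
    ((c / 2 ^ 6 % 2 ^ 1 * (n / 256 ^ 6 % 256)) ^^^ (c / 2 ^ 7 % 2 ^ 1 * (n / 256 ^ 7 % 256)))))))) := by
  simp only [pow_zero, Nat.div_one]
  rfl

theorem bit_xor (x y i : ℕ) : (x ^^^ y) / 2 ^ i % 2 ^ 1 = (x / 2 ^ i % 2 ^ 1) ^^^ (y / 2 ^ i % 2 ^ 1) := by
  rw [Nat.xor_div_two_pow, Nat.xor_mod_two_pow]

theorem bit_lt (x i : ℕ) : x / 2 ^ i % 2 ^ 1 < 2 := Nat.mod_lt _ (by norm_num)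

theorem ap_xor (n x y : ℕ) : ap n (x ^^^ y) = ap n x ^^^ ap n y := by
  rw [ap_def, ap_def, ap_def]
  simp only [bit_xor, bit_xor_mul (bit_lt _ _) (bit_lt _ _)]
  ac_rfl

theorem ap_zero (n : ℕ) : ap n 0 = 0 := by
  rw [ap_def]
  simp

theorem ap_mul_bit {b : ℕ} (hb : b < 2) (n x : ℕ) : ap n (b * x) = b * ap n x := by
  have h1 : b = 0 ∨ b = 1 := by omega
  rcases h1 with rfl | rfl
  · rw [zero_mul, zero_mul, ap_zero]
  · rw [one_mul, one_mul]

theorem ap_lt (n c : ℕ) : ap n c < 256 := by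
  have h : ∀ i j : ℕ, c / 2 ^ i % 2 ^ 1 * (n / 256 ^ j % 256) < 2 ^ 8 := by
    intro i j
    have h1 := bit_lt c i
    have h2 : n / 256 ^ j % 256 < 256 := Nat.mod_lt _ (by norm_num)
    have h3 : c / 2 ^ i % 2 ^ 1 = 0 ∨ c / 2 ^ i % 2 ^ 1 = 1 := by omega
    rcases h3 with h3 | h3 <;> rw [h3] <;> omega
  rw [ap_def]
  exact Nat.xor_lt_two_pow (h _ _) (Nat.xor_lt_two_pow (h _ _) (Nat.xor_lt_two_pow (h _ _)
    (Nat.xor_lt_two_pow (h _ _) (Nat.xor_lt_two_pow (h _ _) (Nat.xor_lt_two_pow (h _ _)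
    (Nat.xor_lt_two_pow (h _ _) (h _ _)))))))

theorem cmp_def (n m : ℕ) : cmp n m =
    ap n (m / 256 ^ 0 % 256) + 256 * (ap n (m / 256 ^ 1 % 256) + 256 * (ap n (m / 256 ^ 2 % 256) + 256 *
    (ap n (m / 256 ^ 3 % 256) + 256 * (ap n (m / 256 ^ 4 % 256) + 256 * (ap n (m / 256 ^ 5 % 256) + 256 *
    (ap n (m / 256 ^ 6 % 256) + 256 * ap n (m / 256 ^ 7 % 256))))))) := by
  simp only [pow_zero, Nat.div_one]
  rfl

theorem ap_cmp (n m c : ℕ) : ap (cmp n m) c = ap n (ap m c) := by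
  have h : ∀ {a0 a1 a2 a3 a4 a5 a6 a7 N : ℕ}, a0 < 256 → a1 < 256 → a2 < 256 → a3 < 256 → a4 < 256 → a5 < 256 →
      a6 < 256 → a7 < 256 → N = a0 + 256 * (a1 + 256 * (a2 + 256 * (a3 + 256 * (a4 + 256 * (a5 + 256 *
        (a6 + 256 * a7)))))) →
      N / 256 ^ 0 % 256 = a0 ∧ N / 256 ^ 1 % 256 = a1 ∧ N / 256 ^ 2 % 256 = a2 ∧ N / 256 ^ 3 % 256 = a3 ∧
      N / 256 ^ 4 % 256 = a4 ∧ N / 256 ^ 5 % 256 = a5 ∧ N / 256 ^ 6 % 256 = a6 ∧ N / 256 ^ 7 % 256 = a7 := by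
    intro a0 a1 a2 a3 a4 a5 a6 a7 N h0 h1 h2 h3 h4 h5 h6 h7 hN
    norm_num
    omega
  obtain ⟨h0, h1, h2, h3, h4, h5, h6, h7⟩ := h (ap_lt n _) (ap_lt n _) (ap_lt n _) (ap_lt n _) (ap_lt n _)
    (ap_lt n _) (ap_lt n _) (ap_lt n _) (cmp_def n m)
  rw [ap_def (cmp n m) c, h0, h1, h2, h3, h4, h5, h6, h7, ap_def m c]
  simp only [ap_xor, ap_mul_bit (bit_lt _ _)]

/-! ### codes of vectors -/

/-- code of a scalar -/
def c4 : F4 → ℕ
  | .o => 0
  | .i => 1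
  | .w => 2
  | .v => 3

/-- code of a vector -/
def vc (v : Fin 4 → F4) : ℕ := c4 (v 0) + 4 * c4 (v 1) + 16 * c4 (v 2) + 64 * c4 (v 3)

theorem c4_lt (a : F4) : c4 a < 4 := by cases a <;> decide

theorem c4_inj {a b : F4} (h : c4 a = c4 b) : a = b := by
  revert a b; decide

theorem vc_inj : Function.Injective vc := by
  intro u v h
  unfold vc at h
  have := c4_lt (u 0)
  have := c4_lt (u 1)
  have := c4_lt (u 2)
  have := c4_lt (u 3)
  have := c4_lt (v 0)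
  have := c4_lt (v 1)
  have := c4_lt (v 2)
  have := c4_lt (v 3)
  funext i
  fin_cases i
  · exact c4_inj (by show c4 (u 0) = c4 (v 0); omega)
  · exact c4_inj (by show c4 (u 1) = c4 (v 1); omega)
  · exact c4_inj (by show c4 (u 2) = c4 (v 2); omega)
  · exact c4_inj (by show c4 (u 3) = c4 (v 3); omega)

/-! ### the group -/

/-- `SU₄(2)` -/
abbrev GG := Cfsg.SU 4 F4 2

theorem hF4 : Fintype.card F4 = 2 ^ 2 := rfl

/-- the action on vectors -/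
def act (g : GG) (v : Fin 4 → F4) : Fin 4 → F4 := cm g *ᵥ v

theorem act_mul (g h : GG) (v : Fin 4 → F4) : act (g * h) v = act g (act h v) := by
  unfold act
  rw [map_mul, Matrix.mulVec_mulVec]

theorem act_one (v : Fin 4 → F4) : act 1 v = v := by
  unfold act
  rw [map_one, Matrix.one_mulVec]

theorem act_ext {g h : GG} (H : ∀ v, act g v = act h v) : g = h := by
  apply cm_injective
  exact Matrix.mulVec_injective (funext H)

/-- the code of an element -/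
def IsCode (g : GG) (n : ℕ) : Prop := ∀ v, vc (act g v) = ap n (vc v)

theorem IsCode.mul {g h : GG} {n m : ℕ} (hg : IsCode g n) (hh : IsCode h m) : IsCode (g * h) (cmp n m) := by
  intro v
  rw [act_mul, hg, hh, ap_cmp]

theorem IsCode.eq {g h : GG} {n m : ℕ} (hg : IsCode g n) (hh : IsCode h m) (e : n = m) : g = h := by
  subst e
  apply act_ext
  intro v
  apply vc_inj
  rw [hg, hh]

theorem exists_vec : ∀ i < 8, ∃ a b c d : F4, vc ![a, b, c, d] = 2 ^ i := by decide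

theorem IsCode.cmp_one {g : GG} {n m : ℕ} (hg : IsCode g n) (hh : IsCode g m) : cmp n one = cmp m one := by
  have key : ∀ i < 8, ap n (2 ^ i) = ap m (2 ^ i) := by
    intro i hi
    obtain ⟨a, b, c, d, h⟩ := exists_vec i hi
    rw [← h, ← hg, ← hh]
  have b0 : one / 256 ^ 0 % 256 = 2 ^ 0 := by decide
  have b1 : one / 256 ^ 1 % 256 = 2 ^ 1 := by decide
  have b2 : one / 256 ^ 2 % 256 = 2 ^ 2 := by decide
  have b3 : one / 256 ^ 3 % 256 = 2 ^ 3 := by decide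
  have b4 : one / 256 ^ 4 % 256 = 2 ^ 4 := by decide
  have b5 : one / 256 ^ 5 % 256 = 2 ^ 5 := by decide
  have b6 : one / 256 ^ 6 % 256 = 2 ^ 6 := by decide
  have b7 : one / 256 ^ 7 % 256 = 2 ^ 7 := by decide
  rw [cmp_def, cmp_def, b0, b1, b2, b3, b4, b5, b6, b7, key 0 (by norm_num), key 1 (by norm_num), key 2 (by norm_num),
    key 3 (by norm_num), key 4 (by norm_num), key 5 (by norm_num), key 6 (by norm_num), key 7 (by norm_num)]

/-! ### generators -/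

def M0 : Matrix (Fin 4) (Fin 4) F4 := !![F4.w, F4.o, F4.o, F4.o; F4.o, F4.v, F4.o, F4.o; F4.o, F4.o, F4.i, F4.o; F4.o, F4.o, F4.o, F4.i]
def M1 : Matrix (Fin 4) (Fin 4) F4 := !![F4.o, F4.o, F4.o, F4.i; F4.i, F4.o, F4.o, F4.o; F4.o, F4.i, F4.o, F4.o; F4.o, F4.o, F4.i, F4.o]
def M2 : Matrix (Fin 4) (Fin 4) F4 := !![F4.i, F4.o, F4.o, F4.o; F4.o, F4.i, F4.i, F4.i; F4.o, F4.i, F4.w, F4.v; F4.o, F4.i, F4.v, F4.w]

theorem det0 : M0.det = 1 := by decide +kernel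
theorem det1 : M1.det = 1 := by decide +kernel
theorem det2 : M2.det = 1 := by decide +kernel
theorem isom0 : M0ᵀ * M0.map (fun x => x ^ 2) = 1 := by decide +kernel
theorem isom1 : M1ᵀ * M1.map (fun x => x ^ 2) = 1 := by decide +kernel
theorem isom2 : M2ᵀ * M2.map (fun x => x ^ 2) = 1 := by decide +kernel

/-- the generators of `SU₄(2)` -/
def genG : ℕ → GG
  | 0 => mkSU hF4 M0 det0 isom0
  | 1 => mkSU hF4 M1 det1 isom1
  | _ => mkSU hF4 M2 det2 isom2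

theorem code0 : ∀ a b c d : F4, vc (M0 *ᵥ ![a, b, c, d]) = ap (gen 0) (vc ![a, b, c, d]) := by decide +kernel
theorem code1 : ∀ a b c d : F4, vc (M1 *ᵥ ![a, b, c, d]) = ap (gen 1) (vc ![a, b, c, d]) := by decide +kernel
theorem code2 : ∀ a b c d : F4, vc (M2 *ᵥ ![a, b, c, d]) = ap (gen 2) (vc ![a, b, c, d]) := by decide +kernel
theorem codeI : ∀ a b c d : F4, vc ![a, b, c, d] = ap one (vc ![a, b, c, d]) := by decide +kernel

theorem vec_eta (v : Fin 4 → F4) : v = ![v 0, v 1, v 2, v 3] := by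
  funext i
  fin_cases i <;> rfl

theorem isCode_one : IsCode 1 one := by
  intro v
  rw [act_one, vec_eta v]
  exact codeI _ _ _ _

theorem isCode_gen (i : ℕ) : IsCode (genG i) (gen i) := by
  intro v
  rw [vec_eta v]
  match i with
  | 0 => exact code0 _ _ _ _
  | 1 => exact code1 _ _ _ _
  | (k + 2) => exact code2 _ _ _ _

/-- the element of a word -/
def evG : List ℕ → GG
  | [] => 1
  | i :: w => genG i * evG w

theorem isCode_ev : ∀ w : List ℕ, IsCode (evG w) (ev w)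
  | [] => isCode_one
  | i :: w => (isCode_gen i).mul (isCode_ev w)

theorem card_GG : Nat.card GG = 25920 := by
  have h := Cfsg.Agent.S0278.result hF4 4 (by norm_num)
  have h2 : (2 + 1) * Nat.card GG = 3 * 25920 := by
    rw [h]; decide
  omega

end Cfsg.Agent.H180.U42
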